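import Cfsg.Agent.Lib.RuAut.Perms

/-!
# The centre, the order and the simplicity of the Rudvalis group
-/

set_option autoImplicit false
set_option maxRecDepth 20000

namespace Cfsg.Agent.RuAut

open Cfsg.Spor
open scoped Pointwise
open Cfsg.Agent.RuMin (num pos herm)
open Cfsg.Agent.Presented (force force_eq allList allList_eq checkBelow checkBelow_spec)

/-- The base line. -/
noncomputable def l0 : ℕ := bP 0 / 4

/-- The position of a line in tree 6. -/
noncomputable def lev6P (j : ℕ) : ℕ := levPos6.get 13 j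

/-- The root of tree 6. -/
noncomputable def root6 : ℕ := treeX levTab6 0

theorem lev6_all : checkBelow (treeChk levTab6 (lGens 1) root6) 12 1755 = true := by decide +kernel

/-- The lines of tree 6 sit at their positions. -/
noncomputable def t6Chk (t : ℕ) : Bool :=
  force (treeX levTab6 t) fun x => Nat.beq (lev6P (Nat.div x 4)) t

theorem t6_all : checkBelow t6Chk 12 1755 = true := by decide +kernel

/-- Line `j` is the base line or occurs in tree 1 or in tree 6. -/
noncomputable def coverChk (j : ℕ) : Bool :=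
  Nat.beq j l0 ||
    (force (lev1P j) fun t => Nat.blt t 2304 && Nat.beq (Nat.div (treeX levTab1 t) 4) j) ||
    (force (lev6P j) fun t => Nat.blt t 1755 && Nat.beq (Nat.div (treeX levTab6 t) 4) j)

theorem cover_all : checkBelow coverChk 12 4060 = true := by decide +kernel

theorem base_lines : treeX levTab1 (lev1P l0) / 4 ≠ l0 ∧ treeX levTab6 (lev6P l0) / 4 ≠ l0 ∧
    treeX levTab1 1 / 4 ≠ bP 1 / 4 ∧ treeX levTab6 1 / 4 ≠ root6 / 4 := by decide +kernel

/-- The witness for base point `d + 2`. -/
noncomputable def witPt (d : ℕ) : ℕ := treeX levTab1 (baseWit.getD d 0)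

theorem wit_cert : ∀ d : Fin 4, baseWit.getD d 0 < 2304 ∧
    Nat.beq (dgt (sigX (witPt d)) (56 * (2 * (d.val + 2)))) 26416 = false := by decide +kernel

attribute [local irreducible] treeX lev1P lev6P bP sigX witPt root6 l0

theorem l0_eq : l0 = bP 0 / 4 := by with_unfolding_all rfl

theorem root6_lt : root6 < 16240 := by with_unfolding_all decide +kernel

theorem b0_lt : bP 0 < 16240 := bP_lt (by norm_num)

/-! ### Lines -/

theorem shift_self (x : ℕ) : shiftPhase (4 * (x / 4)) (x % 4) = x := by unfold shiftPhase; omega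

theorem shift_line (x a : ℕ) : shiftPhase x a / 4 = x / 4 := by unfold shiftPhase; omega

theorem line_phase {x y : ℕ} (h : x / 4 = y / 4) : ∃ a, x = shiftPhase y a :=
  ⟨4 - y % 4 + x % 4, by unfold shiftPhase; omega⟩

theorem move_line (g : fourRu) {x : ℕ} (hx : x < 16240) : move g x / 4 = move g (4 * (x / 4)) / 4 := by
  conv_lhs => rw [← shift_self x, move_shift g (show 4 * (x / 4) < 16240 by omega), shift_line]

/-- The action on lines. -/
noncomputable def lineFun (g : fourRu) (j : Fin 4060) : Fin 4060 :=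
  ⟨move g (4 * j.val) / 4, by have := move_lt g (show 4 * j.val < 16240 by omega); omega⟩

theorem lineFun_mul (g h : fourRu) (j : Fin 4060) : lineFun (g * h) j = lineFun g (lineFun h j) := by
  refine Fin.ext ?_
  show move (g * h) (4 * j.val) / 4 = move g (4 * (move h (4 * j.val) / 4)) / 4
  rw [move_mul _ _ (by omega), move_line g (move_lt h (by omega))]

theorem lineFun_one (j : Fin 4060) : lineFun 1 j = j := by
  refine Fin.ext ?_
  show move 1 (4 * j.val) / 4 = j.val
  rw [move_one (by omega)]
  omega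

/-- The permutation of the lines. -/
noncomputable def lineHom : fourRu →* Equiv.Perm (Fin 4060) where
  toFun g :=
    { toFun := lineFun g
      invFun := lineFun g⁻¹
      left_inv := fun j => by rw [← lineFun_mul, inv_mul_cancel, lineFun_one]
      right_inv := fun j => by rw [← lineFun_mul, mul_inv_cancel, lineFun_one] }
  map_one' := Equiv.ext lineFun_one
  map_mul' g h := Equiv.ext (lineFun_mul g h)

theorem lineHom_val (g : fourRu) (j : Fin 4060) : (lineHom g j).val = move g (4 * j.val) / 4 := rfl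

/-- The line of a point. -/
noncomputable def ln (x : ℕ) : Fin 4060 := ⟨x / 4 % 4060, Nat.mod_lt _ (by norm_num)⟩

theorem ln_val {x : ℕ} (hx : x < 16240) : (ln x).val = x / 4 := Nat.mod_eq_of_lt (by omega)

theorem lineHom_ln (g : fourRu) {x : ℕ} (hx : x < 16240) : lineHom g (ln x) = ln (move g x) := by
  refine Fin.ext ?_
  rw [lineHom_val, ln_val hx, ln_val (move_lt g hx), ← move_line g hx]

theorem ln_line {x y : ℕ} (hx : x < 16240) (hy : y < 16240) (h : x / 4 = y / 4) : ln x = ln y :=
  Fin.ext (by rw [ln_val hx, ln_val hy, h])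

theorem ln_surj (j : Fin 4060) : ln (4 * j.val) = j :=
  Fin.ext (by rw [ln_val (by omega)]; omega)

theorem tree1_reach {t : ℕ} (ht : t < 2304) :
    treeX levTab1 t < 16240 ∧ ∃ g ∈ genGrp, Fixes g 1 ∧ move g (bP 1) = treeX levTab1 t :=
  tree_reach (by norm_num) _ (bP_lt (by norm_num)) lev1_all t ht

theorem tree6_reach {t : ℕ} (ht : t < 1755) :
    treeX levTab6 t < 16240 ∧ ∃ g ∈ genGrp, Fixes g 1 ∧ move g root6 = treeX levTab6 t :=
  tree_reach (by norm_num) _ root6_lt lev6_all t ht

theorem cover {j : ℕ} (hj : j < 4060) : j = l0 ∨ (∃ t, t < 2304 ∧ treeX levTab1 t / 4 = j) ∨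
    ∃ t, t < 1755 ∧ treeX levTab6 t / 4 = j := by
  have h := checkBelow_spec cover_all j hj
  simp only [coverChk, force_eq, (natOps _ _).1, Bool.or_eq_true, Bool.and_eq_true, Nat.blt_eq] at h
  rcases h with (h | h) | h
  · exact .inl (Nat.eq_of_beq_eq_true h)
  · exact .inr (.inl ⟨_, h.1, Nat.eq_of_beq_eq_true h.2⟩)
  · exact .inr (.inr ⟨_, h.1, Nat.eq_of_beq_eq_true h.2⟩)

/-! ### The kernel on lines -/

theorem lane_digit {x j : ℕ} (hx : x < 16240) (hj : j < 56) : dgt (sigX x) (56 * j) = lane x j := by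
  rw [sigX_eq hx, spk, dgt_pk _ _ (fun i hi => spd_lt (fun l hl => lane_lt hx hl) hi), if_pos (by omega),
    spd_lane]

theorem wit_nonorth (d : Fin 4) :
    baseWit.getD d 0 < 2304 ∧ witPt d < 16240 ∧ herm (pt (witPt d)) (pt (bP (d.val + 2))) ≠ 0 := by
  obtain ⟨h1, h2⟩ := wit_cert d
  have e : witPt d = treeX levTab1 (baseWit.getD d 0) := by with_unfolding_all rfl
  have hlt : witPt d < 16240 := e ▸ (tree1_reach h1).1
  refine ⟨h1, hlt, fun h0 => ?_⟩
  rw [lane_digit hlt (by omega), lane, (ok_refs (by omega)).2, if_pos (by omega)] at h2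
  have hr : rP (2 * (d.val + 2)) = bP (d.val + 2) := by
    simp only [rP, show (2 * (d.val + 2)) % 2 = 0 by omega, show (2 * (d.val + 2)) / 2 = d.val + 2 by omega]
    rfl
  rw [hr, h0] at h2
  exact Bool.noConfusion h2

theorem shift_mod {x a : ℕ} (h : a % 4 = 0) : shiftPhase x a = x := by unfold shiftPhase; omega

theorem ker_fixes {g : fourRu} (hk : lineHom g = 1) (hb : move g (bP 0) = bP 0) : Fixes g 6 := by
  have hline : ∀ x, x < 16240 → move g x / 4 = x / 4 := fun x hx => by
    have := congrArg Fin.val (lineHom_ln g hx)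
    rwa [hk, Equiv.Perm.one_apply, ln_val hx, ln_val (move_lt g hx), eq_comm] at this
  have hf1 : Fixes g 1 := fun j hj => by
    obtain rfl : j = 0 := by omega
    exact hb
  have h1 : ∀ t, t < 2304 → move g (treeX levTab1 t) = treeX levTab1 t := by
    intro t ht
    obtain ⟨hx, h, -, hh, he⟩ := tree1_reach ht
    have hsig : sigPre (sigX (move g (treeX levTab1 t))) 1 = tgt 1 := by
      rw [sigPre_move hf1 (by norm_num) hx, ← he, sigPre_move hh (by norm_num) (bP_lt (by norm_num))]
      exact tgt_cert ⟨1, by norm_num⟩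
    obtain ⟨s, hs, e, p⟩ := (scan_facts (move_lt g hx)).1 hsig
    rw [hline _ hx] at p
    have hc := checkBelow_spec t1_all t ht
    rw [t1Chk, force_eq] at hc
    have hc' : lev1P (treeX levTab1 t / 4) = t := Nat.eq_of_beq_eq_true hc
    rw [← e, ← p, hc']
  intro j hj
  rcases (by omega : j = 0 ∨ j = 1 ∨ 2 ≤ j) with rfl | rfl | hj2
  · exact hb
  · have e : treeX levTab1 0 = bP 1 := by with_unfolding_all decide +kernel
    rw [← e]
    exact h1 0 (by norm_num)
  · obtain ⟨w1, w2, w3⟩ := wit_nonorth ⟨j - 2, by omega⟩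
    simp only [show j - 2 + 2 = j by omega] at w3
    have hw : move g (witPt (j - 2)) = witPt (j - 2) := by
      have e : witPt (j - 2) = treeX levTab1 (baseWit.getD (j - 2) 0) := by with_unfolding_all rfl
      rw [e]; exact h1 _ w1
    have hbj := bP_lt hj
    obtain ⟨a, ha⟩ := line_phase (hline _ hbj)
    have hh := herm_move g w2 hbj
    simp only at hh
    rw [hw, ha, pt_shift hbj, herm_smul_right] at hh
    have h1' : star (gI ^ a) = 1 := mul_right_cancel₀ w3 (hh.trans (one_mul _).symm)
    have h2' : gI ^ a = 1 := by rw [← star_star (gI ^ a), h1', star_one]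
    rw [ha]
    refine pt_inj (shiftPhase_lt hbj) hbj ?_
    rw [pt_shift hbj, h2', one_smul]

theorem ker_le {g : fourRu} (hk : lineHom g = 1) : g ∈ Subgroup.zpowers iel := by
  have hline : move g (bP 0) / 4 = bP 0 / 4 := by
    have := congrArg Fin.val (lineHom_ln g b0_lt)
    rwa [hk, Equiv.Perm.one_apply, ln_val b0_lt, ln_val (move_lt g b0_lt), eq_comm] at this
  obtain ⟨a, ha⟩ := line_phase hline
  have hi : lineHom (iel ^ a) = 1 := Equiv.ext fun j => Fin.ext (by
    rw [lineHom_val, move_iel_pow a (by omega), shift_line, Equiv.Perm.one_apply]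
    omega)
  have h : (iel ^ a)⁻¹ * g = 1 := by
    refine eq_one_of_fixes (ker_fixes (by rw [map_mul, map_inv, hi, hk, inv_one, one_mul]) ?_)
    rw [move_mul _ _ b0_lt, ha, ← move_iel_pow a b0_lt, move_inv _ b0_lt]
  rw [← inv_mul_eq_one.1 h]
  exact Subgroup.npow_mem_zpowers iel a

theorem iel_mem_center : iel ∈ Subgroup.center fourRu :=
  Subgroup.mem_center_iff.2 iel_central

theorem scalar_line {g : fourRu} (h : g ∈ Subgroup.zpowers iel) : lineHom g = 1 := by
  have h1 : lineHom iel = 1 := Equiv.ext fun j => Fin.ext (by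
    rw [lineHom_val, move_iel (by omega), shift_line, Equiv.Perm.one_apply]
    omega)
  obtain ⟨n, rfl⟩ := Subgroup.mem_zpowers_iff.1 h
  rw [map_zpow, h1, one_zpow]

theorem not_fixed {T : Presented.NTree} {r n t : ℕ} (hr : r < 16240) (hn : 1 < n) (ht : t < n)
    (hT : ∀ s, s < n → treeX T s < 16240 ∧ ∃ g ∈ genGrp, Fixes g 1 ∧ move g r = treeX T s)
    (hne : treeX T 1 / 4 ≠ r / 4) {y : ℕ} (hy : y < 16240)
    (hfix : ∀ g : fourRu, Fixes g 1 → move g y = y) : treeX T t / 4 ≠ y / 4 := by
  intro he
  obtain ⟨a, ha⟩ := line_phase he.symm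
  have key : ∀ s, s < n → shiftPhase (treeX T s) a = shiftPhase r a → treeX T s / 4 = r / 4 := fun s _ e => by
    have := congrArg (fun z => z / 4) e
    simpa [shift_line] using this
  obtain ⟨-, h, -, hh, hhe⟩ := hT t ht
  have e1 : shiftPhase r a = y := by
    have h1 : move h (shiftPhase r a) = y := by rw [move_shift h hr, hhe, ha]
    exact move_inj h (shiftPhase_lt hr) hy (h1.trans (hfix h hh).symm)
  obtain ⟨-, k, -, hk, hke⟩ := hT 1 hn
  refine hne (key 1 hn ?_)
  rw [← hke, ← move_shift k hr, e1, hfix k hk]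

theorem center_eq : Subgroup.center fourRu = Subgroup.zpowers iel := by
  refine le_antisymm (fun z hz => ?_) ((Subgroup.zpowers_le).2 iel_mem_center)
  have hc : ∀ g : fourRu, g * z = z * g := Subgroup.mem_center_iff.1 hz
  have hy := move_lt z b0_lt
  have hfix : ∀ g : fourRu, Fixes g 1 → move g (move z (bP 0)) = move z (bP 0) := fun g hg => by
    rw [← move_mul _ _ b0_lt, hc g, move_mul _ _ b0_lt, hg 0 (by norm_num)]
  have hline : move z (bP 0) / 4 = bP 0 / 4 := by
    rcases cover (j := move z (bP 0) / 4) (by omega) with h | ⟨t, ht, h⟩ | ⟨t, ht, h⟩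
    · rw [h, l0_eq]
    · exact absurd h (not_fixed (bP_lt (by norm_num)) (by norm_num) ht (fun s hs => tree1_reach hs)
        base_lines.2.2.1 hy hfix)
    · exact absurd h (not_fixed root6_lt (by norm_num) ht (fun s hs => tree6_reach hs)
        base_lines.2.2.2 hy hfix)
  obtain ⟨a, ha⟩ := line_phase hline
  refine ker_le (Equiv.ext fun j => ?_)
  obtain ⟨g, -, hg⟩ := reach0 (x := 4 * j.val) (by omega)
  refine Fin.ext ?_
  rw [lineHom_val, Equiv.Perm.one_apply, ← hg, ← move_mul _ _ b0_lt, ← hc g, move_mul _ _ b0_lt, ha,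
    move_shift g b0_lt, hg, shift_line]
  omega

theorem card_scalars : Nat.card (Subgroup.zpowers iel) = 4 := by
  rw [Nat.card_zpowers, orderOf_eq_iff (by norm_num)]
  refine ⟨ext_move fun x hx => ?_, fun m hm hm0 h => ?_⟩
  · rw [move_iel_pow 4 hx, move_one hx, shift_mod (by norm_num)]
  · have := congrArg (fun g => move g (bP 0)) h
    simp only [move_iel_pow m b0_lt, move_one b0_lt] at this
    unfold shiftPhase at this
    omega

/-- The centre has order four. -/
theorem card_center : Nat.card (Subgroup.center fourRu) = 4 := by rw [center_eq, card_scalars]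

/-- The order of the Rudvalis group. -/
theorem card_Ru : Nat.card Ru = 145926144000 := by
  have h := Subgroup.card_eq_card_quotient_mul_card_subgroup (Subgroup.center fourRu)
  rw [card_fourRu, card_center] at h
  change Nat.card (fourRu ⧸ Subgroup.center fourRu) = _
  omega

/-! ### The action of the Rudvalis group -/

theorem ker_lineHom : Subgroup.center fourRu = lineHom.ker := by
  rw [center_eq]
  ext g
  exact ⟨fun h => MonoidHom.mem_ker.2 (scalar_line h), fun h => ker_le (MonoidHom.mem_ker.1 h)⟩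

/-- The permutation of the lines given by an element of the Rudvalis group. -/
noncomputable def ruHom : Ru →* Equiv.Perm (Fin 4060) :=
  QuotientGroup.lift (Subgroup.center fourRu) lineHom ker_lineHom.le

/-- The projection to the Rudvalis group. -/
noncomputable def toRu : fourRu →* Ru := QuotientGroup.mk' (Subgroup.center fourRu)

theorem ruHom_toRu (g : fourRu) : ruHom (toRu g) = lineHom g := rfl

theorem toRu_surj : Function.Surjective toRu := QuotientGroup.mk'_surjective _

theorem ruHom_injective : Function.Injective ruHom := by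
  rw [injective_iff_map_eq_one]
  intro x hx
  obtain ⟨g, rfl⟩ := toRu_surj x
  rw [ruHom_toRu] at hx
  exact (QuotientGroup.eq_one_iff g).2 (by rw [ker_lineHom]; exact hx)

theorem toRu_iel : toRu iel = 1 := (QuotientGroup.eq_one_iff iel).2 iel_mem_center

noncomputable instance ruAction : MulAction Ru (Fin 4060) := MulAction.compHom _ ruHom

theorem smul_ln (g : fourRu) {x : ℕ} (hx : x < 16240) : toRu g • ln x = ln (move g x) :=
  lineHom_ln g hx

instance ruPretransitive : MulAction.IsPretransitive Ru (Fin 4060) :=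
  MulAction.isPretransitive_iff_base (ln (bP 0)) |>.2 fun j => by
    obtain ⟨g, -, hg⟩ := reach0 (x := 4 * j.val) (by omega)
    exact ⟨toRu g, by rw [smul_ln g b0_lt, hg, ln_surj]⟩

theorem finite_Ru : Finite Ru := Nat.finite_of_card_ne_zero (by rw [card_Ru]; norm_num)

theorem nontrivial_Ru : Nontrivial Ru := by
  haveI := finite_Ru
  rw [← Finite.one_lt_card_iff_nontrivial, card_Ru]
  norm_num

theorem tree_line_inj {T : Presented.NTree} {P : ℕ → ℕ} {n : ℕ}
    (h : ∀ t, t < n → P (treeX T t / 4) = t) (hlt : ∀ t, t < n → treeX T t < 16240) :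
    Function.Injective fun t : Fin n => ln (treeX T t) := by
  intro s t e
  have e' := congrArg Fin.val e
  simp only [ln_val (hlt s s.isLt), ln_val (hlt t t.isLt)] at e'
  exact Fin.ext (by rw [← h s s.isLt, ← h t t.isLt, e'])

/-- The lines of tree 1. -/
noncomputable def A1 : Finset (Fin 4060) := Finset.univ.image fun t : Fin 2304 => ln (treeX levTab1 t)

/-- The lines of tree 6. -/
noncomputable def A6 : Finset (Fin 4060) := Finset.univ.image fun t : Fin 1755 => ln (treeX levTab6 t)

theorem card_A1 : A1.card = 2304 := by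
  rw [A1, Finset.card_image_of_injective _ (tree_line_inj (P := lev1P) (fun t ht => ?_)
    fun t ht => (tree1_reach ht).1), Finset.card_univ, Fintype.card_fin]
  have h := checkBelow_spec t1_all t ht
  rw [t1Chk, force_eq] at h
  exact Nat.eq_of_beq_eq_true h

theorem card_A6 : A6.card = 1755 := by
  rw [A6, Finset.card_image_of_injective _ (tree_line_inj (P := lev6P) (fun t ht => ?_)
    fun t ht => (tree6_reach ht).1), Finset.card_univ, Fintype.card_fin]
  have h := checkBelow_spec t6_all t ht
  rw [t6Chk, force_eq] at h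
  exact Nat.eq_of_beq_eq_true h

theorem base_notMem : ln (bP 0) ∉ A1 ∧ ln (bP 0) ∉ A6 := by
  constructor <;> intro h
  · obtain ⟨t, -, ht⟩ := Finset.mem_image.1 h
    have e := congrArg Fin.val ht
    rw [ln_val (tree1_reach t.isLt).1, ln_val b0_lt, ← l0_eq] at e
    have hc := checkBelow_spec t1_all t t.isLt
    rw [t1Chk, force_eq] at hc
    have hc' : lev1P (treeX levTab1 t / 4) = t := Nat.eq_of_beq_eq_true hc
    rw [e] at hc'
    exact base_lines.1 (hc'.symm ▸ e)
  · obtain ⟨t, -, ht⟩ := Finset.mem_image.1 h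
    have e := congrArg Fin.val ht
    rw [ln_val (tree6_reach t.isLt).1, ln_val b0_lt, ← l0_eq] at e
    have hc := checkBelow_spec t6_all t t.isLt
    rw [t6Chk, force_eq] at hc
    have hc' : lev6P (treeX levTab6 t / 4) = t := Nat.eq_of_beq_eq_true hc
    rw [e] at hc'
    exact base_lines.2.1 (hc'.symm ▸ e)

theorem block_univ (B : Set (Fin 4060)) (hB : MulAction.IsBlock Ru B) (h0 : ln (bP 0) ∈ B)
    (hne : ∃ j ∈ B, j ≠ ln (bP 0)) : B = Set.univ := by
  have hinv : ∀ g : fourRu, Fixes g 1 → ∀ j ∈ B, toRu g • j ∈ B := by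
    intro g hg j hj
    have hfix : toRu g • ln (bP 0) = ln (bP 0) := by rw [smul_ln g b0_lt, hg 0 (by norm_num)]
    have hgB : toRu g • B = B := by
      refine hB.smul_eq_of_mem h0 ?_
      rw [hfix]; exact h0
    exact hgB ▸ Set.smul_mem_smul_set hj
  have full : ∀ (T : Presented.NTree) (r n t : ℕ), r < 16240 → t < n →
      (∀ s, s < n → treeX T s < 16240 ∧ ∃ g ∈ genGrp, Fixes g 1 ∧ move g r = treeX T s) →
      ln (treeX T t) ∈ B → ∀ s, s < n → ln (treeX T s) ∈ B := by
    intro T r n t hr ht hT hm s hs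
    obtain ⟨hxt, g, -, hg, he⟩ := hT t ht
    obtain ⟨-, k, -, hk, hke⟩ := hT s hs
    have hrB : ln r ∈ B := by
      have := hinv g⁻¹ ((St 1 (by norm_num)).inv_mem hg) _ hm
      rwa [smul_ln _ hxt, ← he, move_inv g hr] at this
    have := hinv k hk _ hrB
    rwa [smul_ln _ hr, hke] at this
  have hcov : ∀ j : Fin 4060, j = ln (bP 0) ∨ j ∈ A1 ∨ j ∈ A6 := by
    intro j
    rcases cover j.isLt with h | ⟨t, ht, h⟩ | ⟨t, ht, h⟩
    · exact .inl (Fin.ext (by rw [h, l0_eq, ln_val b0_lt]))
    · exact .inr (.inl (Finset.mem_image.2 ⟨⟨t, ht⟩, Finset.mem_univ _,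
        Fin.ext (by rw [ln_val (tree1_reach ht).1]; exact h)⟩))
    · exact .inr (.inr (Finset.mem_image.2 ⟨⟨t, ht⟩, Finset.mem_univ _,
        Fin.ext (by rw [ln_val (tree6_reach ht).1]; exact h)⟩))
  have m1 : ∀ j, j ∈ A1 → j ∈ B → ∀ k ∈ A1, k ∈ B := by
    intro j hj hjB k hk
    obtain ⟨t, -, rfl⟩ := Finset.mem_image.1 hj
    obtain ⟨s, -, rfl⟩ := Finset.mem_image.1 hk
    exact full levTab1 (bP 1) 2304 t (bP_lt (by norm_num)) t.isLt (fun _ h => tree1_reach h) hjB s s.isLt
  have m6 : ∀ j, j ∈ A6 → j ∈ B → ∀ k ∈ A6, k ∈ B := by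
    intro j hj hjB k hk
    obtain ⟨t, -, rfl⟩ := Finset.mem_image.1 hj
    obtain ⟨s, -, rfl⟩ := Finset.mem_image.1 hk
    exact full levTab6 root6 1755 t root6_lt t.isLt (fun _ h => tree6_reach h) hjB s s.isLt
  have hdvd : B.ncard ∣ 4060 := by
    have := hB.ncard_dvd_card ⟨_, h0⟩
    rwa [Nat.card_eq_fintype_card, Fintype.card_fin] at this
  by_cases b1 : ∃ j ∈ A1, j ∈ B <;> by_cases b6 : ∃ j ∈ A6, j ∈ B
  · obtain ⟨j, hj, hjB⟩ := b1
    obtain ⟨k, hk, hkB⟩ := b6
    refine Set.eq_univ_of_forall fun l => ?_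
    rcases hcov l with rfl | h | h
    · exact h0
    · exact m1 j hj hjB l h
    · exact m6 k hk hkB l h
  · exfalso
    obtain ⟨j, hj, hjB⟩ := b1
    push Not at b6
    have e : B = ↑(insert (ln (bP 0)) A1) := by
      ext l
      simp only [Finset.coe_insert, Set.mem_insert_iff, Finset.mem_coe]
      constructor
      · intro hl
        rcases hcov l with h | h | h
        · exact .inl h
        · exact .inr h
        · exact absurd hl (b6 l h)
      · rintro (rfl | h)
        · exact h0
        · exact m1 j hj hjB l h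
    rw [e, Set.ncard_coe_finset, Finset.card_insert_of_notMem base_notMem.1, card_A1] at hdvd
    norm_num at hdvd
  · exfalso
    obtain ⟨j, hj, hjB⟩ := b6
    push Not at b1
    have e : B = ↑(insert (ln (bP 0)) A6) := by
      ext l
      simp only [Finset.coe_insert, Set.mem_insert_iff, Finset.mem_coe]
      constructor
      · intro hl
        rcases hcov l with h | h | h
        · exact .inl h
        · exact absurd hl (b1 l h)
        · exact .inr h
      · rintro (rfl | h)
        · exact h0
        · exact m6 j hj hjB l h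
    rw [e, Set.ncard_coe_finset, Finset.card_insert_of_notMem base_notMem.2, card_A6] at hdvd
    norm_num at hdvd
  · exfalso
    obtain ⟨j, hjB, hj⟩ := hne
    rcases hcov j with h | h | h
    · exact hj h
    · exact b1 ⟨j, h, hjB⟩
    · exact b6 ⟨j, h, hjB⟩

theorem ru_generated : Subgroup.closure ({toRu (pg 0), toRu (pg 1)} : Set Ru) = ⊤ := by
  rw [eq_top_iff, ← MonoidHom.range_eq_top.2 toRu_surj, MonoidHom.range_eq_map, ← genGrp_eq, genGrp,
    MonoidHom.map_closure, Subgroup.closure_le]
  rintro _ ⟨g, hg, rfl⟩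
  rcases hg with rfl | rfl | rfl
  · exact Subgroup.subset_closure (Or.inl (by rw [pg_zero.1]))
  · exact Subgroup.subset_closure (Or.inr (by rw [pg_zero.2]; rfl))
  · rw [toRu_iel]; exact Subgroup.one_mem _

/-- The Rudvalis group is simple. -/
theorem simple_Ru : IsSimpleGroup Ru := by
  haveI := finite_Ru
  haveI := nontrivial_Ru
  refine ⟨fun N hN => or_iff_not_imp_left.2 fun hne => ?_⟩
  haveI := hN
  obtain ⟨n, hn, hn1⟩ := (Subgroup.bot_or_exists_ne_one N).resolve_left hne
  -- the orbit of `N` is everything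
  have horb : MulAction.orbit N (ln (bP 0)) = Set.univ := by
    refine block_univ _ (MulAction.IsBlock.orbit_of_normal (ln (bP 0))) (MulAction.mem_orbit_self _) ?_
    by_contra hall
    push Not at hall
    refine hn1 (ruHom_injective ?_)
    rw [map_one]
    refine Equiv.ext fun j => ?_
    obtain ⟨k, hk⟩ := MulAction.exists_smul_eq Ru (ln (bP 0)) j
    have : (k⁻¹ * n * k) • ln (bP 0) = ln (bP 0) :=
      hall _ ⟨⟨k⁻¹ * n * k, by simpa using hN.conj_mem n hn k⁻¹⟩, rfl⟩
    rw [mul_smul, mul_smul, hk, inv_smul_eq_iff, hk] at this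
    exact this
  have h29 : 29 ∣ Nat.card N := by
    have h := Subgroup.card_eq_card_quotient_mul_card_subgroup (MulAction.stabilizer N (ln (bP 0)))
    rw [← Nat.card_congr (MulAction.orbitEquivQuotientStabilizer N (ln (bP 0)))] at h
    have hc : Nat.card (MulAction.orbit N (ln (bP 0))) = 4060 := by
      rw [horb, Nat.card_univ, Nat.card_eq_fintype_card, Fintype.card_fin]
    rw [hc] at h
    exact Dvd.dvd.trans (show 29 ∣ 4060 by norm_num) (Dvd.intro _ h.symm)
  let q : Ru →* Ru ⧸ N := QuotientGroup.mk' N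
  have hU : q (toRu (pg 0)) = 1 := by
    have hcard := Subgroup.card_eq_card_quotient_mul_card_subgroup N
    rw [card_Ru] at hcard
    have hnd : ¬ 29 ∣ Nat.card (Ru ⧸ N) := by
      intro hd
      have : 29 * 29 ∣ 145926144000 := hcard ▸ Nat.mul_dvd_mul hd h29
      norm_num at this
    have h1 : orderOf (q (toRu (pg 0))) ∣ 29 :=
      orderOf_dvd_of_pow_eq_one (by rw [← map_pow, ← map_pow, U_pow, map_one, map_one])
    rcases (Nat.dvd_prime (by norm_num : Nat.Prime 29)).1 h1 with h | h
    · exact orderOf_eq_one_iff.1 h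
    · exact absurd (h ▸ orderOf_dvd_natCard _) hnd
  have hV : q (toRu (pg 1)) = 1 := by
    have h2 : q (toRu (pg 1)) * q (toRu (pg 1)) = 1 := by rw [← map_mul, ← map_mul, V_sq, map_one, map_one]
    have h15 : q (toRu (pg 1)) ^ 15 = 1 := by
      have := congrArg (fun g => q (toRu g)) UV_pow
      simp only [map_pow, map_mul, hU, one_mul, toRu_iel, map_one] at this
      exact this
    have e : q (toRu (pg 1)) ^ 15 = q (toRu (pg 1)) := by
      rw [show 15 = 2 * 7 + 1 from rfl, pow_succ, pow_mul, pow_two, h2, one_pow, one_mul]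
    rw [← e, h15]
  rw [eq_top_iff, ← ru_generated, Subgroup.closure_le]
  rintro _ (rfl | rfl)
  · exact (QuotientGroup.eq_one_iff _).1 hU
  · exact (QuotientGroup.eq_one_iff _).1 hV

end Cfsg.Agent.RuAut
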