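import Cfsg.Agent.Lib.RuAut.Simple
import Cfsg.Prelude.Def_KGroupFacts

/-!
# The commutator subgroup of the lattice group is a double cover of Ru

The fifteenth power of `U * V` is the scalar `i`; as `U` has order 29 and `V` order 2, the scalar `-1`
lies in the commutator subgroup, which is therefore a stem extension of Ru with kernel of order at
least two.
-/

set_option autoImplicit false
set_option maxRecDepth 20000

namespace Cfsg.Agent.RuAut

open Cfsg.Spor
open scoped commutatorElement

theorem iel_four : iel ^ 4 = 1 := by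
  refine ext_frame fun k hk => ?_
  rw [move_iel_pow 4 (fr_lt hk), move_one (fr_lt hk)]
  unfold shiftPhase
  omega

theorem iel_sq_ne_one : iel ^ 2 ≠ 1 := by
  intro h
  have h1 := move_iel_pow 2 (show 0 < 16240 by norm_num)
  rw [h, move_one (show 0 < 16240 by norm_num)] at h1
  simp [shiftPhase] at h1

theorem iel_sq_mem_commutator : iel ^ 2 ∈ commutator fourRu := by
  have hker : (Abelianization.of (G := fourRu)).ker = commutator fourRu := Abelianization.ker_of _
  rw [← hker, MonoidHom.mem_ker, map_pow]
  have hU : Abelianization.of (pg 0) ^ 29 = 1 := by rw [← map_pow, U_pow, map_one]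
  have hV : Abelianization.of (pg 1) ^ 2 = 1 := by rw [pow_two, ← map_mul, V_sq, map_one]
  have hI : Abelianization.of iel = Abelianization.of (pg 0) ^ 15 * Abelianization.of (pg 1) ^ 15 := by
    rw [← UV_pow, map_pow, map_mul, mul_pow]
  have h4 : Abelianization.of iel ^ 4 = 1 := by rw [← map_pow, iel_four, map_one]
  generalize Abelianization.of (pg 0) = a at hU hI
  generalize Abelianization.of (pg 1) = b at hV hI
  rw [hI, mul_pow, ← pow_mul, ← pow_mul] at h4 ⊢
  have hb30 : b ^ (15 * 2) = 1 := by rw [show 15 * 2 = 2 * 15 by norm_num, pow_mul, hV, one_pow]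
  have hb60 : b ^ (15 * 4) = 1 := by rw [show 15 * 4 = 2 * 30 by norm_num, pow_mul, hV, one_pow]
  rw [hb30, mul_one]
  rw [hb60, mul_one] at h4
  have ha2 : a ^ 2 = 1 := by
    rw [show 15 * 4 = 29 * 2 + 2 by norm_num, pow_add, pow_mul, hU, one_pow, one_mul] at h4
    exact h4
  rw [show 15 * 2 = 2 * 15 by norm_num, pow_mul, ha2, one_pow]

theorem commutator_Ru : commutator Ru = ⊤ := by
  haveI := simple_Ru
  rcases Subgroup.Normal.eq_bot_or_eq_top (inferInstance : (commutator Ru).Normal) with h | h
  · exfalso
    rw [commutator_def, Subgroup.commutator_eq_bot_iff_le_centralizer] at h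
    have hc : ∀ a b : Ru, a * b = b * a := fun a b =>
      (Subgroup.mem_centralizer_iff.mp (h (Subgroup.mem_top a)) b (Subgroup.mem_top b)).symm
    haveI := finite_Ru
    letI : CommGroup Ru := { (inferInstance : Group Ru) with mul_comm := hc }
    have hp := IsSimpleGroup.prime_card (α := Ru)
    rw [card_Ru] at hp
    revert hp
    norm_num
  · exact h

/-- The double cover mapped to Ru. -/
noncomputable def coverHom : commutator fourRu →* Ru := toRu.comp (commutator fourRu).subtype

theorem map_commutator_toRu : (commutator fourRu).map toRu = ⊤ := by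
  rw [commutator_def, Subgroup.map_commutator, Subgroup.map_top_of_surjective _ toRu_surj,
    ← commutator_def, commutator_Ru]

theorem coverHom_surj : Function.Surjective coverHom := fun y => by
  obtain ⟨x, hx, rfl⟩ := (map_commutator_toRu ▸ Subgroup.mem_top y : y ∈ (commutator fourRu).map toRu)
  exact ⟨⟨x, hx⟩, rfl⟩

theorem coverHom_stem : Cfsg.IsStemExtension coverHom := by
  refine ⟨coverHom_surj, fun x hx => ?_, fun x _ => ?_⟩
  · rw [Subgroup.mem_center_iff]
    intro y
    have h : (x : fourRu) ∈ Subgroup.center fourRu := (QuotientGroup.eq_one_iff _).1 hx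
    exact Subtype.ext (Subgroup.mem_center_iff.1 h y)
  · -- the commutator subgroup is perfect
    have hle : commutator fourRu ≤ (commutator (commutator fourRu)).map (commutator fourRu).subtype := by
      refine Subgroup.commutator_le.mpr ?_
      intro a _ b _
      obtain ⟨a', ha⟩ := coverHom_surj (toRu a)
      obtain ⟨b', hb⟩ := coverHom_surj (toRu b)
      refine ⟨⁅a', b'⁆, Subgroup.commutator_mem_commutator (Subgroup.mem_top _) (Subgroup.mem_top _), ?_⟩
      rw [map_commutatorElement]
      show ⁅(a' : fourRu), (b' : fourRu)⁆ = _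
      have hz : ∀ u v : fourRu, toRu u = toRu v → ∀ x, (u * v⁻¹) * x = x * (u * v⁻¹) := fun u v e x =>
        (Subgroup.mem_center_iff.1 ((QuotientGroup.eq_one_iff _).1 (by
          show toRu (u * v⁻¹) = 1
          rw [map_mul, map_inv, e, mul_inv_cancel])) x).symm
      have hA := hz a a' ha.symm
      have hB := hz b b' hb.symm
      conv_rhs => rw [← inv_mul_cancel_right a (a' : fourRu), ← inv_mul_cancel_right b (b' : fourRu)]
      generalize a * (a' : fourRu)⁻¹ = za at hA
      generalize b * (b' : fourRu)⁻¹ = zb at hB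
      generalize (a' : fourRu) = u
      generalize (b' : fourRu) = v
      simp only [commutatorElement_def, mul_inv_rev]
      symm
      calc za * u * (zb * v) * (u⁻¹ * za⁻¹) * (v⁻¹ * zb⁻¹)
          = za * (u * zb) * v * u⁻¹ * za⁻¹ * v⁻¹ * zb⁻¹ := by group
        _ = za * (zb * u * v * u⁻¹) * za⁻¹ * v⁻¹ * zb⁻¹ := by rw [← hB u]; group
        _ = zb * u * v * u⁻¹ * v⁻¹ * zb⁻¹ := by rw [hA, mul_inv_cancel_right]
        _ = zb * (u * v * u⁻¹ * v⁻¹) * zb⁻¹ := by group
        _ = u * v * u⁻¹ * v⁻¹ := by rw [hB, mul_inv_cancel_right]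
    obtain ⟨y, hy, he⟩ := hle x.2
    rwa [← show y = x from Subtype.ext he]

theorem coverHom_ker_ne_bot : coverHom.ker ≠ ⊥ := by
  intro h
  have hm : (⟨iel ^ 2, iel_sq_mem_commutator⟩ : commutator fourRu) ∈ coverHom.ker := by
    show toRu (iel ^ 2) = 1
    rw [map_pow, toRu_iel, one_pow]
  rw [h, Subgroup.mem_bot] at hm
  exact iel_sq_ne_one (congrArg Subtype.val hm)

end Cfsg.Agent.RuAut
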