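import Cfsg.Agent.Lib.RuAut.MinVectors
import Cfsg.Agent.Lib.RuAut.DataOrbit

/-!
# The action on minimal vectors, and the generators

Every element of the automorphism group permutes the 16240 minimal vectors, faithfully.  Thirty-four
explicit automorphisms are given by the images of the frame.
-/

set_option autoImplicit false
set_option maxRecDepth 20000

namespace Cfsg.Agent.RuAut

open Cfsg.Spor
open Cfsg.Agent.RuMin (num pos herm)
open Cfsg.Agent.Presented (force force_eq allList allList_eq checkBelow checkBelow_spec)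

/-! ### Hermitian products -/

theorem herm_add_left (x y z : RuVec) : herm (x + y) z = herm x z + herm y z := by
  simp only [herm, Pi.add_apply, add_mul, Finset.sum_add_distrib]

theorem herm_smul_left (c : GaussianInt) (x y : RuVec) : herm (c • x) y = c * herm x y := by
  simp only [herm, Pi.smul_apply, smul_eq_mul, Finset.mul_sum, mul_assoc]

theorem herm_swap (x y : RuVec) : herm y x = star (herm x y) := by
  simp only [herm, star_sum, star_mul, star_star]

theorem herm_add_right (x y z : RuVec) : herm x (y + z) = herm x y + herm x z := by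
  rw [herm_swap, herm_add_left, star_add, ← herm_swap, ← herm_swap]

theorem herm_smul_right (c : GaussianInt) (x y : RuVec) : herm x (c • y) = star c * herm x y := by
  rw [herm_swap, herm_smul_left, star_mul, ← herm_swap, mul_comm]

theorem herm_zero_left (y : RuVec) : herm 0 y = 0 := by
  simp [herm]

theorem herm_sum_left {ι : Type*} (s : Finset ι) (f : ι → RuVec) (y : RuVec) :
    herm (∑ i ∈ s, f i) y = ∑ i ∈ s, herm (f i) y :=
  map_sum (⟨⟨fun x => herm x y, herm_zero_left y⟩, fun a b => herm_add_left a b y⟩ : RuVec →+ GaussianInt) f s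

theorem herm_sum_right {ι : Type*} (s : Finset ι) (x : RuVec) (f : ι → RuVec) :
    herm x (∑ i ∈ s, f i) = ∑ i ∈ s, herm x (f i) := by
  rw [herm_swap, herm_sum_left, star_sum]
  exact Finset.sum_congr rfl fun i _ => (herm_swap _ _).symm

theorem ruNorm_herm (x : RuVec) : ruNorm x = (herm x x).re := by
  rw [herm, RuMin.re_sum, ruNorm]
  refine Finset.sum_congr rfl fun p _ => ?_
  simp only [Zsqrtd.norm_def, Zsqrtd.re_mul, Zsqrtd.re_star, Zsqrtd.im_star]
  ring

theorem ruNorm_add (x y : RuVec) : ruNorm (x + y) = ruNorm x + ruNorm y + 2 * (herm x y).re := by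
  rw [ruNorm_herm, ruNorm_herm, ruNorm_herm, herm_add_left, herm_add_right, herm_add_right, herm_swap x y]
  simp only [Zsqrtd.re_add, Zsqrtd.re_star]
  ring

theorem rc_bound {c : ℕ} (hc : Ok c) {k : ℕ} (hk : k < 56) : -4 ≤ rc (dv c) k ∧ rc (dv c) k ≤ 4 := by
  have h := hc.2 k hk
  rw [rc_dv _ hk]
  omega

theorem herm_bound {a b : ℕ} (ha : Ok a) (hb : Ok b) :
    -896 ≤ (herm (dv a) (dv b)).re ∧ (herm (dv a) (dv b)).re ≤ 896 := by
  have h : ∀ k ∈ Finset.range 56, -16 ≤ rc (dv a) k * rc (dv b) k ∧ rc (dv a) k * rc (dv b) k ≤ 16 := by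
    intro k hk
    obtain ⟨a1, a2⟩ := rc_bound ha (Finset.mem_range.1 hk)
    obtain ⟨b1, b2⟩ := rc_bound hb (Finset.mem_range.1 hk)
    constructor <;> nlinarith
  rw [herm_re]
  constructor
  · refine le_trans ?_ (Finset.card_nsmul_le_sum _ _ (-16) fun k hk => (h k hk).1)
    simp
  · refine le_trans (Finset.sum_le_card_nsmul _ _ 16 fun k hk => (h k hk).2) ?_
    simp

/-! ### The lattice as a module -/

/-- A point as an element of the lattice. -/
noncomputable def pv (x : ℕ) : ruLattice := if h : x < 16240 then ⟨pt x, pt_mem h⟩ else 0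

theorem pv_val {x : ℕ} (hx : x < 16240) : (pv x).1 = pt x := by rw [pv, dif_pos hx]

/-- A Gaussian multiple of a lattice element. -/
def gsmul (c : GaussianInt) (v : ruLattice) : ruLattice := ⟨c • v.1, smul_mem_lattice c v.2⟩

theorem gsmul_val (c : GaussianInt) (v : ruLattice) : (gsmul c v).1 = c • v.1 := rfl

/-- An automorphism as an additive map into vectors. -/
def gHom (g : fourRu) : ruLattice →+ RuVec :=
  AddMonoidHom.mk' (fun v => (g.1 v).1) fun v w => by rw [g.2.1 v w]; rfl

theorem gHom_apply (g : fourRu) (v : ruLattice) : gHom g v = (g.1 v).1 := rfl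

theorem map_gsmul (g : fourRu) (c : GaussianInt) (v : ruLattice) :
    (g.1 (gsmul c v)).1 = c • (g.1 v).1 := by
  have e : gsmul c v = c.re • v + c.im • ruI v := by
    refine Subtype.ext (funext fun p => ?_)
    apply Zsqrtd.ext <;> simp [gsmul, ruI, gI] <;> ring
  rw [← gHom_apply, e, map_add, map_zsmul, map_zsmul, gHom_apply, gHom_apply, g.2.2.1]
  funext p
  apply Zsqrtd.ext <;> simp [ruI, gI] <;> ring

/-! ### The certificate of a generator -/

/-- The frame images of generator `s`. -/
def gW (s : ℕ) : List ℕ := genW.getD s []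

/-- The rows of generator `s`. -/
def gRow (s : ℕ) : ℕ := genRows.getD s 0

/-- The spread column sum of generator `s`. -/
def gSum (s : ℕ) : ℕ := genSums.getD s 0

/-- The inverse of generator `s`. -/
def gInv (s : ℕ) : ℕ := invTab.getD s 0

/-- The image of spanning point `i` under generator `s`. -/
def gImg (s i : ℕ) : ℕ := (genImg.getD s []).getD i 0

/-- A spanning point. -/
def gsP (i : ℕ) : ℕ := gsList.getD i 0

theorem gs_cert : gsList.length = 47 ∧ ∀ i : Fin 47, gsP i < 16240 := by decide +kernel

/-- The rows of a list of columns, by Horner's rule. -/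
noncomputable def rowsF : List ℕ → ℕ → ℕ :=
  fun l => List.rec (motive := fun _ => ℕ → ℕ) (fun acc => acc)
    (fun a _ ih acc => force (Nat.add (Nat.mul acc 65536) (spread a)) fun v => ih v) l

theorem rowsF_spec : ∀ (l : List ℕ) (acc : ℕ), rowsF l acc = acc * 65536 ^ l.length + buildRows l
  | [], acc => by
    change acc = acc * 65536 ^ 0 + 0
    ring
  | a :: t, acc => by
    change force (Nat.add (Nat.mul acc 65536) (spread a)) (fun v => rowsF t v) = _
    rw [force_eq, rowsF_spec t, show buildRows (a :: t) =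
      Nat.add (Nat.mul (spread a) (Nat.pow 2 (Nat.mul 16 t.length))) (buildRows t) from rfl,
      (natOps _ _).2.2.2.1, (natOps _ _).2.1, (natOps _ _).2.2.2.1, (natOps _ _).2.1,
      (natOps _ _).2.2.2.2.2.1, (natOps _ _).2.1, two_pow_lane, List.length_cons]
    ring

/-- The expected signature of image `q` with respect to all images and their multiples by `i`. -/
noncomputable def expSig (q : ℕ) : ℕ := Nat.add (Nat.mul 26416 JJ) (Nat.mul 16 (Nat.pow 2 (Nat.mul 896 q)))

/-- The images of the frame are orthogonal. -/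
noncomputable def unitChk (W : List ℕ) : Bool :=
  force (buildRefs (colList W)) fun K => force (buildRefSums (colList W)) fun S =>
    allList (fun q => Nat.beq (sigN K S (ptc (W.getD q 0))) (expSig q)) (List.range 28)

/-- The frame images and the rows of `s` are in order. -/
noncomputable def rowOK (s : ℕ) : Bool :=
  force (gRow s) fun K => force (gSum s) fun CS =>
    Nat.beq (gW s).length 28 && allList (fun k => Nat.blt ((gW s).getD k 0) 16240) (List.range 28) &&
      Nat.beq K (rowsF (colList (gW s)) 0) && Nat.beq CS (buildSum (colList (gW s)))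

theorem row_all : allList rowOK (List.range 34) = true := by decide +kernel

/-- The generators given directly: `U`, `V`, their inverses, `Z`, `F`, their inverses. -/
def baseGens : List ℕ := [0, 1, 2, 3, 30, 31, 32, 33]

/-- Generator `s` is invertible and unitary. -/
noncomputable def elOK (s : ℕ) : Bool :=
  force (gRow s) fun K => force (gSum s) fun CS => force (gInv s) fun t => force (gRow t) fun K' =>
    force (gSum t) fun CS' =>
      Nat.blt t 34 && Nat.beq (gInv t) s && unitChk (gW s) &&
      allList (fun i => appPt K CS (gsP i) (gImg s i) && appPt K' CS' (gImg s i) (gsP i)) (List.range 47)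

theorem el_block0 : allList elOK [0, 1, 2, 3] = true := by decide +kernel

theorem el_block1 : allList elOK [30, 31, 32, 33] = true := by decide +kernel

theorem inv_base : ∀ s ∈ baseGens, gInv s ∈ baseGens := by decide +kernel

theorem el_all {s : ℕ} (hs : s ∈ baseGens) : elOK s = true := by
  have h := hs
  rw [show baseGens = [0, 1, 2, 3] ++ [30, 31, 32, 33] from rfl, List.mem_append] at h
  rcases h with h | h
  · have := el_block0
    rw [allList_eq, List.all_eq_true] at this
    exact this _ h
  · have := el_block1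
    rw [allList_eq, List.all_eq_true] at this
    exact this _ h

theorem base_lt : ∀ s ∈ baseGens, s < 34 := by decide +kernel

attribute [local irreducible] buildRows buildSum buildRefs buildRefSums gW gRow gSum gInv gImg gsP pt ptc
  unitChk sigN rowsF baseGens

/-- The facts about the rows of a generator. -/
theorem row_facts {s : ℕ} (hs : s < 34) : IsImages (gW s) ∧
    gRow s = buildRows (colList (gW s)) ∧ gSum s = buildSum (colList (gW s)) := by
  have h := row_all
  rw [allList_eq, List.all_eq_true] at h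
  have h := h s (List.mem_range.2 hs)
  simp only [rowOK, force_eq, allList_eq, List.all_eq_true, List.mem_range, Bool.and_eq_true, Nat.blt_eq] at h
  obtain ⟨⟨⟨h1, h2⟩, h3⟩, h4⟩ := h
  have h3' := Nat.eq_of_beq_eq_true h3
  rw [rowsF_spec, zero_mul, zero_add] at h3'
  exact ⟨⟨Nat.eq_of_beq_eq_true h1, h2⟩, h3', Nat.eq_of_beq_eq_true h4⟩

/-- The facts of a base generator. -/
theorem gen_facts {s : ℕ} (hs : s ∈ baseGens) : IsImages (gW s) ∧
    (gInv s ∈ baseGens ∧ gInv (gInv s) = s) ∧ unitChk (gW s) = true ∧
    ∀ i, i < 47 → appPt (gRow s) (gSum s) (gsP i) (gImg s i) = true ∧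
      appPt (gRow (gInv s)) (gSum (gInv s)) (gImg s i) (gsP i) = true := by
  have h := el_all hs
  simp only [elOK, force_eq, allList_eq, List.all_eq_true, List.mem_range, Bool.and_eq_true, Nat.blt_eq] at h
  obtain ⟨⟨⟨-, h6⟩, h7⟩, h8⟩ := h
  exact ⟨(row_facts (base_lt s hs)).1, ⟨inv_base s hs, Nat.eq_of_beq_eq_true h6⟩, h7, h8⟩

theorem gen_app {s : ℕ} (hs : s < 34) {x y : ℕ} (hx : x < 16240) (h : appPt (gRow s) (gSum s) x y = true) :
    y < 16240 ∧ linW (gW s) (pt x) = (4 : GaussianInt) • pt y :=
  appPt_spec (row_facts hs).2.1 (row_facts hs).2.2 (row_facts hs).1 hx h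

theorem spk_single {q n : ℕ} (hq : q < n) : 65536 ^ (56 * q) = spk (fun j => if j = q then 1 else 0) n := by
  rw [spk, pk, Finset.sum_eq_single (56 * q)]
  · rw [spd_lane, if_pos rfl, one_mul]
  · intro k _ hne
    simp only [spd]
    split
    · rw [if_neg (by omega), zero_mul]
    · rw [zero_mul]
  · intro h; exact absurd (Finset.mem_range.2 (by omega)) h

theorem unit_spec {W : List ℕ} (hW : IsImages W) (h : unitChk W = true) {p q : ℕ} (hp : p < 28) (hq : q < 28) :
    herm (pt (W.getD q 0)) (pt (W.getD p 0)) = if p = q then 16 else 0 := by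
  have hl : (colList W).length = 56 := by simp [colList, hW.1]
  have hok : ∀ a ∈ colList W, Ok a := fun a ha => by
    obtain ⟨k, hk, rfl⟩ := List.getElem_of_mem ha
    rw [← List.getD_eq_getElem _ 0 hk]
    exact ok_colList hW (by omega)
  simp only [unitChk, force_eq, allList_eq, List.all_eq_true, List.mem_range] at h
  have hq' := Nat.eq_of_beq_eq_true (h q hq)
  rw [sigN_spec hl hok (ok_ptc (hW.2 q hq)), expSig, (natOps _ _).2.2.2.1, (natOps _ _).2.1, (natOps _ _).2.1,
    (natOps _ _).2.1, (natOps _ _).2.2.2.2.2.1, show 896 * q = 16 * (56 * q) by ring, two_pow_lane,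
    spk_single (n := 56) (by omega), JJ_eq, spk_mul, spk_mul, spk_add] at hq'
  have hb : ∀ j, j < 56 → ((herm (dv (ptc (W.getD q 0))) (dv ((colList W).getD j 0))).re + 26416).toNat < 65536 :=
    fun j hj => by
      obtain ⟨b1, b2⟩ := herm_bound (ok_ptc (hW.2 q hq)) (ok_colList hW hj)
      omega
  have hl1 := spk_inj hb (fun j _ => by split <;> norm_num) hq' p (by omega)
  have hl2 := spk_inj hb (fun j _ => by split <;> norm_num) hq' (28 + p) (by omega)
  obtain ⟨e1, e2⟩ := getD_colList hW.1 hp
  have b1 := herm_bound (ok_ptc (hW.2 q hq)) (ok_colList hW (show p < 56 by omega))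
  have b2 := herm_bound (ok_ptc (hW.2 q hq)) (ok_colList hW (show 28 + p < 56 by omega))
  rw [e1] at hl1 b1
  rw [e2] at hl2 b2
  rw [(rot_spec (ok_ptc (hW.2 p hp))).2, if_neg (show ¬ 28 + p = q by omega)] at hl2
  rw [(rot_spec (ok_ptc (hW.2 p hp))).2] at b2
  rw [show pt (W.getD q 0) = dv (ptc (W.getD q 0)) by rw [pt], show pt (W.getD p 0) = dv (ptc (W.getD p 0)) by rw [pt]]
  refine Zsqrtd.ext ?_ ?_
  · split at hl1 <;> rename_i hpq
    · rw [if_pos hpq]; simp only [show ((16 : GaussianInt)).re = 16 from rfl]; omega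
    · rw [if_neg hpq]; simp only [show ((0 : GaussianInt)).re = 0 from rfl]; omega
  · rw [herm_im]
    split <;> simp only [show ((16 : GaussianInt)).im = 0 from rfl, show ((0 : GaussianInt)).im = 0 from rfl] <;>
      omega

theorem herm_linW {W : List ℕ} (hW : IsImages W) (h : unitChk W = true) (x y : RuVec) :
    herm (linW W x) (linW W y) = 16 * herm x y := by
  rw [linW, linW, herm_sum_left,
    show herm x y = ∑ k ∈ Finset.range 28, x (pos k) * star (y (pos k)) from sum_idx _, Finset.mul_sum]
  refine Finset.sum_congr rfl fun k hk => ?_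
  rw [herm_smul_left, herm_sum_right, Finset.sum_eq_single k]
  · rw [herm_smul_right, unit_spec hW h (Finset.mem_range.1 hk) (Finset.mem_range.1 hk), if_pos rfl]
    ring
  · intro l hl hne
    rw [herm_smul_right, unit_spec hW h (Finset.mem_range.1 hl) (Finset.mem_range.1 hk), if_neg hne, mul_zero]
  · intro hn; exact absurd hk hn

/-! ### Orbit trees -/

/-- Membership in a list of naturals. -/
noncomputable def memN (a : ℕ) : List ℕ → Bool :=
  fun l => List.rec (motive := fun _ => Bool) false (fun b _ ih => Nat.beq a b || ih) l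

theorem memN_spec {a : ℕ} : ∀ {l : List ℕ}, memN a l = true → a ∈ l
  | [], h => Bool.noConfusion h
  | b :: l, h => by
    change (Nat.beq a b || memN a l) = true at h
    rw [Bool.or_eq_true] at h
    rcases h with h | h
    · rw [Nat.eq_of_beq_eq_true h]; exact List.mem_cons_self ..
    · exact List.mem_cons_of_mem _ (memN_spec h)

/-- The point at position `t` of an orbit tree. -/
noncomputable def treeX (T : Presented.NTree) (t : ℕ) : ℕ := Nat.mod (T.get 40 t) 65536

/-- Position `t` of an orbit tree is in order. -/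
noncomputable def treeChk (T : Presented.NTree) (gens : List ℕ) (root t : ℕ) : Bool :=
  bif Nat.beq t 0 then Nat.beq (treeX T t) root && Nat.blt root 16240 else
    force (T.get 40 t) fun e => force (Nat.mod (Nat.div e 65536) 65536) fun p =>
      force (Nat.div e 4294967296) fun g => force (treeX T p) fun w => force (Nat.mod e 65536) fun x =>
        Nat.blt p t && memN g gens && Nat.blt g 34 && appPt (gRow g) (gSum g) w x

theorem tree_induct {T : Presented.NTree} {gens : List ℕ} {root d n : ℕ}
    (h : checkBelow (treeChk T gens root) d n = true) (P : ℕ → Prop) (h0 : P root)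
    (hstep : ∀ g ∈ gens, g < 34 → ∀ x y, x < 16240 → P x → appPt (gRow g) (gSum g) x y = true → P y) :
    ∀ t, t < n → treeX T t < 16240 ∧ P (treeX T t) := by
  intro t
  induction t using Nat.strong_induction_on with
  | _ t ih =>
    intro ht
    have hc := checkBelow_spec h t ht
    rw [treeChk] at hc
    cases h0' : Nat.beq t 0
    · rw [h0', cond_false] at hc
      simp only [force_eq, (natOps _ _).2.2.2.2.2.2, (natOps _ _).1, Bool.and_eq_true, Nat.blt_eq] at hc
      obtain ⟨⟨⟨hp, hg⟩, hg34⟩, happ⟩ := hc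
      obtain ⟨hw, hP⟩ := ih _ hp (by omega)
      exact ⟨(gen_app hg34 hw happ).1, hstep _ (memN_spec hg) hg34 _ _ hw hP happ⟩
    · rw [h0', cond_true, Bool.and_eq_true, Nat.blt_eq] at hc
      rw [Nat.eq_of_beq_eq_true hc.1]
      exact ⟨hc.2, h0⟩

/-- The generators of the stabiliser of the first `d` points of the base. -/
def lGens (d : ℕ) : List ℕ := levelGens.getD d []

/-- A point of the base. -/
def bP (d : ℕ) : ℕ := baseList.getD d 0

theorem lev0_all : checkBelow (treeChk levTab0 (lGens 0) (bP 0)) 12 4060 = true := by decide +kernel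

/-- The position of a line in the first orbit tree. -/
noncomputable def lev0P (j : ℕ) : ℕ := levPos0.get 13 j

/-- Line `j` occurs at its position. -/
noncomputable def lev0Chk (j : ℕ) : Bool :=
  force (lev0P j) fun t => Nat.blt t 4060 && Nat.beq (Nat.div (treeX levTab0 t) 4) j

theorem lev0_pos : checkBelow lev0Chk 12 4060 = true := by decide +kernel

theorem lev0_base : ∀ g ∈ lGens 0, g ∈ baseGens := by decide +kernel

theorem norm_root : bP 0 < 16240 ∧ ruNorm (pt (bP 0)) = 16 := by decide +kernel

attribute [local irreducible] treeX lev0P lGens bP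

theorem line_induct (P : ℕ → Prop) (h0 : P (bP 0))
    (hshift : ∀ x a, x < 16240 → P x → P (shiftPhase x a))
    (hstep : ∀ g ∈ lGens 0, g < 34 → ∀ x y, x < 16240 → P x → appPt (gRow g) (gSum g) x y = true → P y)
    {x : ℕ} (hx : x < 16240) : P x := by
  have hc := checkBelow_spec lev0_pos (x / 4) (by omega)
  simp only [lev0Chk, force_eq, (natOps _ _).1, Bool.and_eq_true, Nat.blt_eq] at hc
  obtain ⟨hlt, hP⟩ := tree_induct lev0_all P h0 hstep _ hc.1
  have he := Nat.eq_of_beq_eq_true hc.2
  have h := hshift _ (4 - treeX levTab0 (lev0P (x / 4)) % 4 + x % 4) hlt hP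
  rwa [show shiftPhase (treeX levTab0 (lev0P (x / 4))) (4 - treeX levTab0 (lev0P (x / 4)) % 4 + x % 4) = x by
    unfold shiftPhase; omega] at h

theorem norm_gI_pow (a : ℕ) : (gI ^ a).norm = 1 := by
  induction a with
  | zero => decide +kernel
  | succ a ih => rw [pow_succ, Zsqrtd.norm_mul, ih, one_mul]; decide +kernel

theorem ruNorm_pt {x : ℕ} (hx : x < 16240) : ruNorm (pt x) = 16 := by
  refine line_induct (fun x => ruNorm (pt x) = 16) norm_root.2 (fun y a hy h => ?_) (fun g hgm hg y z hy h happ => ?_) hx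
  · rw [pt_shift hy, RuMin.norm_smul', norm_gI_pow, one_mul, h]
  · obtain ⟨-, e⟩ := gen_app hg hy happ
    have hb := gen_facts (lev0_base g hgm)
    have hh := congrArg Zsqrtd.re (herm_linW hb.1 hb.2.2.1 (pt y) (pt y))
    rw [e, herm_smul_left, herm_smul_right] at hh
    rw [ruNorm_herm] at h ⊢
    simp only [Zsqrtd.re_mul, Zsqrtd.im_mul, Zsqrtd.re_star, Zsqrtd.im_star,
      show (4 : GaussianInt).re = 4 from rfl, show (4 : GaussianInt).im = 0 from rfl,
      show (16 : GaussianInt).re = 16 from rfl, show (16 : GaussianInt).im = 0 from rfl] at hh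
    linarith

/-! ### The action on the points -/

theorem exists_move (g : fourRu) {x : ℕ} (hx : x < 16240) :
    ∃ y, y < 16240 ∧ (g.1 (pv x)).1 = pt y :=
  exists_pt (RuMin.lattice_le _ (g.1 (pv x)).2) (by rw [g.2.2.2, pv_val hx, ruNorm_pt hx])

/-- The image of a point. -/
noncomputable def move (g : fourRu) (x : ℕ) : ℕ :=
  if h : x < 16240 then Classical.choose (exists_move g h) else x

theorem move_spec (g : fourRu) {x : ℕ} (hx : x < 16240) :
    move g x < 16240 ∧ (g.1 (pv x)).1 = pt (move g x) := by
  rw [move, dif_pos hx]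
  exact Classical.choose_spec (exists_move g hx)

theorem move_lt (g : fourRu) {x : ℕ} (hx : x < 16240) : move g x < 16240 := (move_spec g hx).1

theorem move_pv (g : fourRu) {x : ℕ} (hx : x < 16240) : g.1 (pv x) = pv (move g x) :=
  Subtype.ext (by rw [(move_spec g hx).2, pv_val (move_lt g hx)])

theorem move_eq {g : fourRu} {x y : ℕ} (hx : x < 16240) (hy : y < 16240) (h : (g.1 (pv x)).1 = pt y) :
    move g x = y :=
  pt_inj (move_lt g hx) hy (by rw [← (move_spec g hx).2, h])

theorem move_one {x : ℕ} (hx : x < 16240) : move 1 x = x :=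
  move_eq hx hx (pv_val hx)

theorem move_mul (g h : fourRu) {x : ℕ} (hx : x < 16240) : move (g * h) x = move g (move h x) := by
  have hy := move_lt h hx
  refine move_eq hx (move_lt g hy) ?_
  rw [show (g * h).1 (pv x) = g.1 (h.1 (pv x)) from rfl, move_pv h hx, (move_spec g hy).2]

theorem move_inv (g : fourRu) {x : ℕ} (hx : x < 16240) : move g⁻¹ (move g x) = x := by
  rw [← move_mul _ _ hx, inv_mul_cancel, move_one hx]

theorem move_inj (g : fourRu) {x y : ℕ} (hx : x < 16240) (hy : y < 16240) (h : move g x = move g y) :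
    x = y := by
  rw [← move_inv g hx, h, move_inv g hy]

theorem move_shift (g : fourRu) {x : ℕ} (hx : x < 16240) (a : ℕ) :
    move g (shiftPhase x a) = shiftPhase (move g x) a := by
  refine move_eq (shiftPhase_lt hx) (shiftPhase_lt (move_lt g hx)) ?_
  rw [show pv (shiftPhase x a) = gsmul (gI ^ a) (pv x) from
    Subtype.ext (by rw [pv_val (shiftPhase_lt hx), gsmul_val, pv_val hx, pt_shift hx]),
    map_gsmul, (move_spec g hx).2, pt_shift (move_lt g hx)]

theorem fr_lt {k : ℕ} (hk : k < 28) : fr k < 16240 := (frame_facts ⟨k, hk⟩).1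

theorem four_app (g : fourRu) (v : ruLattice) :
    (4 : GaussianInt) • (g.1 v).1 = ∑ k ∈ Finset.range 28, v.1 (pos k) • pt (move g (fr k)) := by
  have e : gsmul 4 v = ∑ k ∈ Finset.range 28, gsmul (v.1 (pos k)) (pv (fr k)) := by
    refine Subtype.ext ?_
    rw [AddSubgroup.val_finsetSum]
    exact (four_smul_expand v.1).trans (Finset.sum_congr rfl fun k hk => by
      rw [gsmul_val, pv_val (fr_lt (Finset.mem_range.1 hk))])
  rw [← map_gsmul, e, ← gHom_apply, map_sum]
  exact Finset.sum_congr rfl fun k hk => by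
    rw [gHom_apply, map_gsmul, (move_spec g (fr_lt (Finset.mem_range.1 hk))).2]

theorem ext_frame {g h : fourRu} (hf : ∀ k, k < 28 → move g (fr k) = move h (fr k)) : g = h := by
  refine Subtype.ext (Equiv.ext fun v => Subtype.ext (smul_four_inj ?_))
  rw [four_app, four_app]
  exact Finset.sum_congr rfl fun k hk => by rw [hf k (Finset.mem_range.1 hk)]

theorem ext_move {g h : fourRu} (hf : ∀ x, x < 16240 → move g x = move h x) : g = h :=
  ext_frame fun k hk => hf _ (fr_lt hk)

theorem herm_app (g : fourRu) (v w : ruLattice) : herm (g.1 v).1 (g.1 w).1 = herm v.1 w.1 := by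
  have hre : ∀ v w : ruLattice, (herm (g.1 v).1 (g.1 w).1).re = (herm v.1 w.1).re := by
    intro v w
    have h := g.2.2.2 (v + w)
    rw [g.2.1, show ((g.1 v + g.1 w : ruLattice) : RuVec) = (g.1 v).1 + (g.1 w).1 from rfl,
      show ((v + w : ruLattice) : RuVec) = v.1 + w.1 from rfl, ruNorm_add, ruNorm_add, g.2.2.2, g.2.2.2] at h
    linarith
  refine Zsqrtd.ext (hre v w) ?_
  rw [herm_im, herm_im, ← map_gsmul]
  exact hre v (gsmul gI w)

theorem herm_move (g : fourRu) {x y : ℕ} (hx : x < 16240) (hy : y < 16240) :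
    herm (pt (move g x)) (pt (move g y)) = herm (pt x) (pt y) := by
  rw [← (move_spec g hx).2, ← (move_spec g hy).2, herm_app, pv_val hx, pv_val hy]

/-! ### The elements -/

/-- A quarter of a vector. -/
def quarter (v : RuVec) : RuVec := fun p => ⟨(v p).re / 4, (v p).im / 4⟩

theorem quarter_four (v : RuVec) : quarter ((4 : GaussianInt) • v) = v := by
  funext p
  simp only [quarter, Pi.smul_apply, smul_eq_mul, Zsqrtd.re_mul, Zsqrtd.im_mul,
    show (4 : GaussianInt).re = 4 from rfl, show (4 : GaussianInt).im = 0 from rfl]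
  apply Zsqrtd.ext <;> simp

/-- The set of vectors on which generator `s` acts integrally, with inverse generator undoing it. -/
def goodSet {s : ℕ} (hs : s ∈ baseGens) : Submodule GaussianInt RuVec where
  carrier := {v | ∃ w, w ∈ ruLattice ∧ linW (gW s) v = (4 : GaussianInt) • w ∧
    linW (gW (gInv s)) w = (4 : GaussianInt) • v}
  zero_mem' := ⟨0, zero_mem _, by rw [linW_zero, smul_zero], by rw [linW_zero, smul_zero]⟩
  add_mem' := by
    rintro a b ⟨u, hu, e1, e2⟩ ⟨w, hw, f1, f2⟩
    exact ⟨u + w, add_mem hu hw, by rw [linW_add, e1, f1, smul_add], by rw [linW_add, e2, f2, smul_add]⟩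
  smul_mem' := by
    rintro c a ⟨u, hu, e1, e2⟩
    exact ⟨c • u, smul_mem_lattice c hu, by rw [linW_smul, e1, smul_comm],
      by rw [linW_smul, e2, smul_comm]⟩

theorem good_of_lattice {s : ℕ} (hs : s ∈ baseGens) {v : RuVec} (hv : v ∈ ruLattice) : v ∈ goodSet hs := by
  refine lattice_le_of_gs _ (fun x hx hlt => ?_) hv
  obtain ⟨i, hi, rfl⟩ := List.getElem_of_mem hx
  have hi' : i < 47 := by rw [gs_cert.1] at hi; exact hi
  obtain ⟨h1, h2⟩ := (gen_facts hs).2.2.2 i hi'
  have hg : gsP i = gsList[i] := by
    unfold gsP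
    exact List.getD_eq_getElem _ _ hi
  rw [hg] at h1 h2
  obtain ⟨hy, e1⟩ := gen_app (base_lt s hs) hlt h1
  exact ⟨_, pt_mem hy, e1, (gen_app (base_lt _ (gen_facts hs).2.1.1) hy h2).2⟩

/-- The action of generator `s` on vectors. -/
noncomputable def act (s : ℕ) (v : RuVec) : RuVec := quarter (linW (gW s) v)

theorem act_spec {s : ℕ} (hs : s ∈ baseGens) {v : RuVec} (hv : v ∈ ruLattice) :
    act s v ∈ ruLattice ∧ linW (gW s) v = (4 : GaussianInt) • act s v ∧ act (gInv s) (act s v) = v := by
  obtain ⟨w, hw, e1, e2⟩ := good_of_lattice hs hv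
  have h : act s v = w := by rw [act, e1, quarter_four]
  rw [h]
  exact ⟨hw, e1, by rw [act, e2, quarter_four]⟩

/-- Generator `s` as a permutation of the lattice. -/
noncomputable def gPerm {s : ℕ} (hs : s ∈ baseGens) : Equiv.Perm ruLattice where
  toFun v := ⟨act s v.1, (act_spec hs v.2).1⟩
  invFun v := ⟨act (gInv s) v.1, (act_spec (gen_facts hs).2.1.1 v.2).1⟩
  left_inv v := Subtype.ext (act_spec hs v.2).2.2
  right_inv v := Subtype.ext (by
    have h := (act_spec (gen_facts hs).2.1.1 v.2).2.2
    rwa [(gen_facts hs).2.1.2] at h)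

theorem gPerm_mem {s : ℕ} (hs : s ∈ baseGens) : gPerm hs ∈ fourRu := by
  have h4 : ∀ v : ruLattice, (4 : GaussianInt) • ((gPerm hs v).1) = linW (gW s) v.1 := fun v =>
    (act_spec hs v.2).2.1.symm
  refine ⟨fun v w => Subtype.ext (smul_four_inj ?_), fun v => Subtype.ext (smul_four_inj ?_), fun v => ?_⟩
  · rw [h4, show ((v + w : ruLattice) : RuVec) = v.1 + w.1 from rfl, linW_add,
      show ((gPerm hs v + gPerm hs w : ruLattice) : RuVec) = (gPerm hs v).1 + (gPerm hs w).1 from rfl,
      smul_add, h4, h4]
  · rw [h4, show ((ruI v : ruLattice) : RuVec) = gI • v.1 from rfl, linW_smul,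
      show ((ruI (gPerm hs v) : ruLattice) : RuVec) = gI • (gPerm hs v).1 from rfl, smul_comm, h4]
  · have h := congrArg Zsqrtd.re (herm_linW (gen_facts hs).1 (gen_facts hs).2.2.1 v.1 v.1)
    rw [← h4, herm_smul_left, herm_smul_right] at h
    simp only [Zsqrtd.re_mul, Zsqrtd.im_mul, Zsqrtd.re_star, Zsqrtd.im_star,
      show (4 : GaussianInt).re = 4 from rfl, show (4 : GaussianInt).im = 0 from rfl,
      show (16 : GaussianInt).re = 16 from rfl, show (16 : GaussianInt).im = 0 from rfl] at h
    rw [ruNorm_herm, ruNorm_herm]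
    linarith

/-- Generator `s`. -/
noncomputable def gel (s : ℕ) : fourRu := if hs : s ∈ baseGens then ⟨gPerm hs, gPerm_mem hs⟩ else 1

theorem move_gel {s : ℕ} (hs : s ∈ baseGens) {x y : ℕ} (hx : x < 16240)
    (h : appPt (gRow s) (gSum s) x y = true) : move (gel s) x = y := by
  obtain ⟨hy, e⟩ := gen_app (base_lt s hs) hx h
  refine move_eq hx hy ?_
  rw [gel, dif_pos hs]
  show act s (pv x).1 = pt y
  rw [pv_val hx, act, e, quarter_four]

theorem gel_inv {s : ℕ} (hs : s ∈ baseGens) : gel (gInv s) = (gel s)⁻¹ := by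
  refine eq_inv_of_mul_eq_one_left (Subtype.ext (Equiv.ext fun v => ?_))
  rw [gel, gel, dif_pos hs, dif_pos (gen_facts hs).2.1.1]
  exact Subtype.ext (act_spec hs v.2).2.2

/-- An element acting on the frame as generator `s` acts on all points as generator `s`. -/
theorem move_of_frame {s : ℕ} (hs : s < 34) {g : fourRu}
    (hf : ∀ k, k < 28 → move g (fr k) = (gW s).getD k 0) {x y : ℕ} (hx : x < 16240)
    (h : appPt (gRow s) (gSum s) x y = true) : move g x = y := by
  obtain ⟨hy, e⟩ := gen_app hs hx h
  refine move_eq hx hy (smul_four_inj ?_)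
  rw [four_app, ← e, linW, pv_val hx]
  exact Finset.sum_congr rfl fun k hk => by rw [hf k (Finset.mem_range.1 hk)]

/-- Multiplication by `i`. -/
noncomputable def iel : fourRu :=
  ⟨{ toFun := ruI
     invFun := fun v => ruI (ruI (ruI v))
     left_inv := fun v => Subtype.ext (funext fun p => by
       apply Zsqrtd.ext <;> simp [ruI, gI])
     right_inv := fun v => Subtype.ext (funext fun p => by
       apply Zsqrtd.ext <;> simp [ruI, gI]) },
    ⟨fun v w => Subtype.ext (smul_add gI v.1 w.1), fun _ => rfl, fun v => by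
      show ruNorm (gI • v.1) = ruNorm v.1
      rw [RuMin.norm_smul', show gI.norm = 1 by decide +kernel, one_mul]⟩⟩

theorem move_iel {x : ℕ} (hx : x < 16240) : move iel x = shiftPhase x 1 := by
  refine move_eq hx (shiftPhase_lt hx) ?_
  rw [pt_shift hx, pow_one]
  show gI • (pv x).1 = _
  rw [pv_val hx]

theorem iel_central (g : fourRu) : g * iel = iel * g :=
  Subtype.ext (Equiv.ext fun v => g.2.2.1 v)

end Cfsg.Agent.RuAut
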