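import Cfsg.Agent.Lib.RuAut.Points
import Cfsg.Agent.Lib.RuAut.DataGens
import Cfsg.Agent.Lib.RuAut.DataSpan

/-!
# The lattice is spanned by minimal vectors

All lines are reached from the generating vectors by the monomial maps, except one orbit, a vector of
which is a combination of the others; and the triangular basis consists of combinations of minimal
vectors.
-/

set_option autoImplicit false

namespace Cfsg.Agent.RuAut

open Cfsg.Spor
open Cfsg.Agent.RuMin (num pos herm)
open Cfsg.Agent.Presented (force force_eq checkBelow checkBelow_spec)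

/-! ### Real coordinates -/

theorem rc_add (x y : RuVec) (k : ℕ) : rc (x + y) k = rc x k + rc y k := by
  unfold rc; split <;> rfl

theorem rc_zero (k : ℕ) : rc 0 k = 0 := by
  unfold rc; split <;> rfl

theorem rc_sum {ι : Type*} (s : Finset ι) (f : ι → RuVec) (k : ℕ) :
    rc (∑ i ∈ s, f i) k = ∑ i ∈ s, rc (f i) k :=
  map_sum (⟨⟨fun x => rc x k, rc_zero k⟩, fun x y => rc_add x y k⟩ : RuVec →+ ℤ) f s

theorem rc_smul (a : GaussianInt) (v : RuVec) (k : ℕ) :
    rc (a • v) k = a.re * rc v k + a.im * rc (gI • v) k := by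
  unfold rc
  split <;> simp [gI] <;> ring

theorem smul_four_inj {x y : RuVec} (h : (4 : GaussianInt) • x = (4 : GaussianInt) • y) : x = y :=
  funext fun p => mul_left_cancel₀ (by decide +kernel) (congrFun h p)

/-! ### Linear maps given on the frame -/

/-- Four times the linear map sending the frame to the points `W`. -/
noncomputable def linW (W : List ℕ) (x : RuVec) : RuVec :=
  ∑ k ∈ Finset.range 28, x (pos k) • pt (W.getD k 0)

theorem linW_add (W : List ℕ) (x y : RuVec) : linW W (x + y) = linW W x + linW W y := by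
  simp only [linW, Pi.add_apply, add_smul, Finset.sum_add_distrib]

theorem linW_smul (W : List ℕ) (c : GaussianInt) (x : RuVec) : linW W (c • x) = c • linW W x := by
  simp only [linW, Pi.smul_apply, smul_eq_mul, Finset.smul_sum, smul_smul]

theorem linW_zero (W : List ℕ) : linW W 0 = 0 := by
  simp [linW]

/-- The frame. -/
def fr (p : ℕ) : ℕ := frameList.getD p 0

theorem frame_facts : ∀ p : Fin 28, fr p < 16240 ∧ ∀ q : RuIdx,
    pt (fr p) q = if num q = p.val then 4 else 0 := by decide +kernel

theorem four_smul_expand (x : RuVec) :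
    (4 : GaussianInt) • x = ∑ k ∈ Finset.range 28, x (pos k) • pt (fr k) := by
  funext q
  rw [Finset.sum_apply, Finset.sum_eq_single (num q)]
  · simp only [Pi.smul_apply, smul_eq_mul, (frame_facts ⟨num q, num_lt q⟩).2 q, if_true, pos_num]
    ring
  · intro k hk hne
    simp only [Pi.smul_apply, smul_eq_mul, (frame_facts ⟨k, Finset.mem_range.1 hk⟩).2 q,
      if_neg (Ne.symm hne), mul_zero]
  · intro h; exact absurd (Finset.mem_range.2 (num_lt q)) h

theorem linear_eq_linW (f : RuVec →ₗ[GaussianInt] RuVec) {W : List ℕ}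
    (h : ∀ k, k < 28 → f (pt (fr k)) = pt (W.getD k 0)) (x : RuVec) :
    (4 : GaussianInt) • f x = linW W x := by
  rw [← map_smul, four_smul_expand, map_sum, linW]
  exact Finset.sum_congr rfl fun k hk => by rw [map_smul, h k (Finset.mem_range.1 hk)]

/-- The columns of the map given by `W`. -/
noncomputable def colList (W : List ℕ) : List ℕ := W.map ptc ++ W.map fun x => rot (ptc x)

theorem getD_colList {W : List ℕ} (hl : W.length = 28) {k : ℕ} (hk : k < 28) :
    (colList W).getD k 0 = ptc (W.getD k 0) ∧ (colList W).getD (28 + k) 0 = rot (ptc (W.getD k 0)) := by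
  constructor
  · rw [colList, List.getD_append _ _ _ _ (by simp [hl, hk]), List.getD_eq_getElem _ _ (by simp [hl, hk]),
      List.getElem_map, List.getD_eq_getElem _ _ (by omega)]
  · rw [colList, List.getD_append_right _ _ _ _ (by simp [hl]), List.length_map, hl, Nat.add_sub_cancel_left,
      List.getD_eq_getElem _ _ (by simp [hl, hk]), List.getElem_map, List.getD_eq_getElem _ _ (by omega)]

/-- `W` is a list of 28 points. -/
def IsImages (W : List ℕ) : Prop := W.length = 28 ∧ ∀ k, k < 28 → W.getD k 0 < 16240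

theorem ok_colList {W : List ℕ} (hW : IsImages W) {k : ℕ} (hk : k < 56) : Ok ((colList W).getD k 0) := by
  by_cases h : k < 28
  · rw [(getD_colList hW.1 h).1]; exact ok_ptc (hW.2 k h)
  · obtain ⟨j, rfl⟩ : ∃ j, k = 28 + j := ⟨k - 28, by omega⟩
    rw [(getD_colList hW.1 (show j < 28 by omega)).2]
    exact (rot_spec (ok_ptc (hW.2 j (by omega)))).1

theorem app_code {W : List ℕ} {x : ℕ} (hW : IsImages W) (hx : Ok x) {y : ℕ} (hy : y < 16240)
    (h : appOK (buildRows (colList W)) (buildSum (colList W)) x (ptc y) = true) :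
    linW W (dv x) = (4 : GaussianInt) • pt y := by
  have hl : (colList W).length = 56 := by simp [colList, hW.1]
  refine ext_rc fun l hl' => ?_
  have h' := appOK_spec hl (fun a ha => by
    obtain ⟨k, hk, rfl⟩ := List.getElem_of_mem ha
    rw [← List.getD_eq_getElem _ 0 hk]
    exact ok_colList hW (by omega)) hx (ok_ptc hy) h hl'
  have hr : rc ((4 : GaussianInt) • pt y) l = 4 * rc (pt y) l := by
    rw [rc_smul]; simp
  rw [hr]
  refine Eq.trans ?_ h'
  rw [linW, rc_sum, show (56 : ℕ) = 28 + 28 from rfl, Finset.sum_range_add, ← Finset.sum_add_distrib]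
  refine Finset.sum_congr rfl fun k hk => ?_
  have hk' := Finset.mem_range.1 hk
  obtain ⟨e1, e2⟩ := getD_colList hW.1 hk'
  rw [rc_smul, e1, e2, (rot_spec (ok_ptc (hW.2 k hk'))).2]
  simp only [rc, if_pos hk', if_neg (show ¬ 28 + k < 28 by omega), Nat.add_sub_cancel_left]
  rfl

theorem app_pt {W : List ℕ} {x y : ℕ} (hW : IsImages W) (hx : x < 16240) (hy : y < 16240)
    (h : appOK (buildRows (colList W)) (buildSum (colList W)) (ptc x) (ptc y) = true) :
    linW W (pt x) = (4 : GaussianInt) • pt y :=
  app_code hW (ok_ptc hx) hy h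

/-- Check that the map with rows `K` sends point `x` to point `y`. -/
noncomputable def appPt (K CS x y : ℕ) : Bool :=
  Nat.blt y 16240 && force (ptc x) fun a => force (ptc y) fun b => appOK K CS a b

theorem appPt_spec {W : List ℕ} {K CS x y : ℕ} (hK : K = buildRows (colList W)) (hS : CS = buildSum (colList W))
    (hW : IsImages W) (hx : x < 16240)
    (h : appPt K CS x y = true) : y < 16240 ∧ linW W (pt x) = (4 : GaussianInt) • pt y := by
  simp only [appPt, force_eq, Bool.and_eq_true, Nat.blt_eq, hK, hS] at h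
  exact ⟨h.1, app_pt hW hx h.1 h.2⟩

/-! ### The monomial maps -/

/-- The monomial maps generating the monomial group. -/
def opFun : ℕ → RuVec → RuVec
  | 0 => ruShift
  | 1 => ruRj
  | 2 => ruRk
  | _ => ruSign

theorem opFun_add : ∀ (o : ℕ) (x y : RuVec), opFun o (x + y) = opFun o x + opFun o y
  | 0, x, y => by funext p; simp [opFun, ruShift]
  | 1, x, y => by funext ⟨a, b⟩; fin_cases b <;> simp [opFun, ruRj] <;> ring
  | 2, x, y => by funext ⟨a, b⟩; fin_cases b <;> simp [opFun, ruRk] <;> ring
  | _ + 3, x, y => by funext p; simp only [opFun, ruSign, Pi.add_apply]; split_ifs <;> ring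

theorem opFun_smul : ∀ (o : ℕ) (c : GaussianInt) (x : RuVec), opFun o (c • x) = c • opFun o x
  | 0, c, x => by funext p; simp [opFun, ruShift]
  | 1, c, x => by funext ⟨a, b⟩; fin_cases b <;> simp [opFun, ruRj] <;> ring
  | 2, c, x => by funext ⟨a, b⟩; fin_cases b <;> simp [opFun, ruRk] <;> ring
  | _ + 3, c, x => by funext p; simp only [opFun, ruSign, Pi.smul_apply, smul_eq_mul]; split_ifs <;> ring

/-- The monomial maps as linear maps. -/
def opLin (o : ℕ) : RuVec →ₗ[GaussianInt] RuVec where
  toFun := opFun o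
  map_add' := opFun_add o
  map_smul' := opFun_smul o

/-- The frame images of monomial map `o`. -/
def opImages (o : ℕ) : List ℕ := opW.getD o []

/-- The rows of monomial map `o`. -/
def opRow (o : ℕ) : ℕ := opRows.getD o 0

/-- The spread column sum of monomial map `o`. -/
def opSum (o : ℕ) : ℕ := opSums.getD o 0

theorem opW_cert : ∀ o : Fin 4, (opRow o = buildRows (colList (opImages o)) ∧
    opSum o = buildSum (colList (opImages o))) ∧ (opImages o).length = 28 ∧
    ∀ k : Fin 28, (opImages o).getD k 0 < 16240 ∧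
      ∀ q : RuIdx, opFun o (pt (fr k)) q = pt ((opImages o).getD k 0) q := by decide +kernel

theorem isImages_op (o : Fin 4) : IsImages (opImages o) :=
  ⟨(opW_cert o).2.1, fun k hk => ((opW_cert o).2.2 ⟨k, hk⟩).1⟩

theorem op_linW (o : Fin 4) (x : RuVec) : (4 : GaussianInt) • opFun o x = linW (opImages o) x :=
  linear_eq_linW (opLin o) (fun k hk => funext fun q => ((opW_cert o).2.2 ⟨k, hk⟩).2 q) x

/-- The image of the representative of line `j` under monomial map `o`. -/
noncomputable def opI (e : ℕ) : ℕ := opImg.get 14 e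

/-- One monomial edge. -/
noncomputable def opChk (e : ℕ) : Bool :=
  force (Nat.mod e 4) fun o => appPt (opRow o) (opSum o) (Nat.mul 4 (Nat.div e 4)) (opI e)

theorem op_all : checkBelow opChk 14 16240 = true := by decide +kernel

theorem op_edge {j : ℕ} (hj : j < 4060) (o : Fin 4) :
    opI (4 * j + o) < 16240 ∧ opFun o (pt (4 * j)) = pt (opI (4 * j + o)) := by
  have ho := o.isLt
  have h : force ((4 * j + o.val) % 4) (fun r => appPt (opRow r) (opSum r) (4 * ((4 * j + o.val) / 4)) (opI (4 * j + o))) = true :=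
    checkBelow_spec op_all (4 * j + o) (by omega)
  rw [force_eq] at h
  rw [show (4 * j + o.val) % 4 = o.val by omega, show (4 * j + o.val) / 4 = j by omega] at h
  obtain ⟨h1, h2⟩ := appPt_spec (opW_cert o).1.1 (opW_cert o).1.2 (isImages_op o) (by omega) h
  exact ⟨h1, smul_four_inj (by rw [op_linW, h2])⟩

/-! ### Membership -/

theorem smul_mem_lattice (c : GaussianInt) {v : RuVec} (hv : v ∈ ruLattice) : c • v ∈ ruLattice := by
  have h : c • v = c.re • v + c.im • (gI • v) := by
    funext p
    apply Zsqrtd.ext <;> simp [gI] <;> ring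
  rw [h]
  exact add_mem (zsmul_mem hv _) (zsmul_mem (gI_smul_mem_ruLattice hv) _)

theorem opFun_mem : ∀ (o : ℕ) {v : RuVec}, v ∈ ruLattice → opFun o v ∈ ruLattice := by
  intro o v hv
  rw [ruLattice, AddSubgroup.mem_sInf] at hv ⊢
  intro L hL
  obtain ⟨h1, h2, h3, h4, h5⟩ := hL.2 v (hv L hL)
  match o with
  | 0 => exact h5
  | 1 => exact h2
  | 2 => exact h3
  | _ + 3 => exact h4

theorem table_mem_lattice {v : RuVec} (hv : v ∈ ruTable) : v ∈ ruLattice := by
  rw [ruLattice, AddSubgroup.mem_sInf]
  exact fun L hL => hL.1 v hv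

theorem line_mem_iff {x : ℕ} (hx : x < 16240) : pt x ∈ ruLattice ↔ pt (4 * (x / 4)) ∈ ruLattice := by
  have e1 : shiftPhase x (4 - x % 4) = 4 * (x / 4) := by unfold shiftPhase; omega
  have e2 : shiftPhase (4 * (x / 4)) (x % 4) = x := by unfold shiftPhase; omega
  constructor
  · intro h; rw [← e1, pt_shift hx]; exact smul_mem_lattice _ h
  · intro h; rw [← e2, pt_shift (by omega)]; exact smul_mem_lattice _ h

/-- The position of a line in the order of membership proofs. -/
noncomputable def memP (j : ℕ) : ℕ := memPos.get 12 j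

/-- The entry at a position. -/
noncomputable def memE (t : ℕ) : ℕ := memTab.get 40 t

/-- Check of the entry for line `j`. -/
noncomputable def memChk (j : ℕ) : Bool :=
  force (memP j) fun t => force (memE t) fun e =>
    Nat.beq (e % 65536) j &&
      (bif Nat.blt (e / 65536 % 65536) 4060 then
        force (memE (e / 65536 % 65536)) fun f =>
          Nat.blt (f % 65536) 4060 && Nat.blt (memP (f % 65536)) t && Nat.blt (e / 4294967296) 4 &&
            Nat.beq (opI (4 * (f % 65536) + e / 4294967296) / 4) j
      else bif Nat.beq (e / 65536 % 65536) 4080 then Nat.beq (extraRoot / 4) j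
      else Nat.blt (e / 65536 % 65536) 4080 && Nat.beq (rootList.getD (e / 65536 % 65536 - 4060) 0 / 4) j)

theorem mem_all : checkBelow memChk 12 4060 = true := by decide +kernel

theorem root_cert : extraRoot < 16240 ∧ ∀ i : Fin 20, rootList.getD i 0 < 16240 ∧
    ∀ q : RuIdx, ruTable.getD i 0 q = pt (rootList.getD i 0) q := by decide +kernel

/-- A combination of points. -/
noncomputable def combPt : List (ℕ × ℤ × ℤ) → RuVec
  | [] => 0
  | e :: l => (⟨e.2.1, e.2.2⟩ : GaussianInt) • pt e.1 + combPt l

theorem combPt_mem : ∀ {l : List (ℕ × ℤ × ℤ)}, (∀ e ∈ l, pt e.1 ∈ ruLattice) → combPt l ∈ ruLattice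
  | [], _ => zero_mem _
  | e :: l, h => add_mem (smul_mem_lattice _ (h e (List.mem_cons_self ..)))
      (combPt_mem fun f hf => h f (List.mem_cons_of_mem _ hf))

theorem extra_cert : (∀ e ∈ extraComb, e.1 < 16240 ∧ memP (e.1 / 4) < memP (extraRoot / 4)) ∧
    ∀ q : RuIdx, pt extraRoot q = combPt extraComb q := by decide +kernel

attribute [local irreducible] memP memE opI pt

theorem line_mem : ∀ (t j : ℕ), j < 4060 → memP j = t → pt (4 * j) ∈ ruLattice := by
  intro t
  induction t using Nat.strong_induction_on with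
  | _ t ih =>
    intro j hj ht
    have hsub : ∀ x, x < 16240 → memP (x / 4) < t → pt x ∈ ruLattice := fun x hx hlt =>
      (line_mem_iff hx).2 (ih _ hlt _ (by omega) rfl)
    have h := checkBelow_spec mem_all j hj
    simp only [memChk, force_eq, ht, Bool.and_eq_true] at h
    obtain ⟨-, h⟩ := h
    set e := memE t
    cases hc : Nat.blt (e / 65536 % 65536) 4060
    · rw [hc, cond_false] at h
      cases hd : Nat.beq (e / 65536 % 65536) 4080
      · rw [hd, cond_false, Bool.and_eq_true, Nat.blt_eq] at h
        obtain ⟨hi, hr⟩ := h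
        have hr' := Nat.eq_of_beq_eq_true hr
        have hlo : 4060 ≤ e / 65536 % 65536 := by
          by_contra hlt
          rw [show Nat.blt (e / 65536 % 65536) 4060 = true by rw [Nat.blt_eq]; omega] at hc
          exact Bool.noConfusion hc
        obtain ⟨hr1, hr2⟩ := root_cert.2 ⟨e / 65536 % 65536 - 4060, by omega⟩
        have hl : ruTable.length = 20 := rfl
        have hm : pt (rootList.getD (e / 65536 % 65536 - 4060) 0) ∈ ruLattice := by
          rw [← funext hr2, List.getD_eq_getElem _ _ (show e / 65536 % 65536 - 4060 < ruTable.length by omega)]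
          exact table_mem_lattice (List.getElem_mem _)
        rw [← hr']
        exact (line_mem_iff hr1).1 hm
      · rw [hd, cond_true] at h
        have hr := Nat.eq_of_beq_eq_true h
        rw [← hr]
        refine (line_mem_iff root_cert.1).1 ?_
        rw [funext extra_cert.2]
        refine combPt_mem fun f hf => ?_
        obtain ⟨h1, h2⟩ := extra_cert.1 f hf
        exact hsub _ h1 (by rw [hr, ht] at h2; exact h2)
    · rw [hc, cond_true] at h
      simp only [force_eq, Bool.and_eq_true, Nat.blt_eq] at h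
      obtain ⟨⟨⟨hl, hp⟩, ho⟩, hr⟩ := h
      have hr' := Nat.eq_of_beq_eq_true hr
      obtain ⟨h1, h2⟩ := op_edge hl ⟨e / 4294967296, ho⟩
      have hm : pt (opI (4 * (memE (e / 65536 % 65536) % 65536) + e / 4294967296)) ∈ ruLattice :=
        h2 ▸ opFun_mem _ (ih _ hp _ hl rfl)
      rw [← hr']
      exact (line_mem_iff h1).1 hm

theorem pt_mem {x : ℕ} (hx : x < 16240) : pt x ∈ ruLattice :=
  (line_mem_iff hx).2 (line_mem _ _ (by omega) rfl)

theorem basis_cert : ∀ i : Fin 28, (∀ e ∈ basisComb.getD i [], e.1 < 16240 ∧ e.1 ∈ gsList) ∧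
    ∀ q : RuIdx, RuMin.vec (RuMin.basis.getD i []) q = combPt (basisComb.getD i []) q := by decide +kernel

theorem span_le_lattice {v : RuVec} (hv : v ∈ RuMin.span) : v ∈ ruLattice := by
  induction hv using Submodule.span_induction with
  | mem x hx =>
    obtain ⟨b, hb, rfl⟩ := hx
    obtain ⟨i, hi, rfl⟩ := List.getElem_of_mem hb
    have hl : RuMin.basis.length = 28 := rfl
    obtain ⟨h1, h2⟩ := basis_cert ⟨i, hl ▸ hi⟩
    rw [← List.getD_eq_getElem _ [] hi, funext h2]
    exact combPt_mem fun e he => pt_mem (h1 e he).1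
  | zero => exact zero_mem _
  | add x y _ _ hx hy => exact add_mem hx hy
  | smul c x _ hx => exact smul_mem_lattice c hx

theorem pt_mem_span {x : ℕ} (hx : x < 16240) : pt x ∈ RuMin.span := RuMin.lattice_le _ (pt_mem hx)

/-- A submodule containing the spanning points contains the lattice. -/
theorem lattice_le_of_gs (S : Submodule GaussianInt RuVec)
    (h : ∀ x ∈ gsList, x < 16240 → pt x ∈ S) {v : RuVec} (hv : v ∈ ruLattice) : v ∈ S := by
  have key : RuMin.span ≤ S := by
    refine Submodule.span_le.2 ?_
    rintro _ ⟨b, hb, rfl⟩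
    obtain ⟨i, hi, rfl⟩ := List.getElem_of_mem hb
    have hl : RuMin.basis.length = 28 := rfl
    obtain ⟨h1, h2⟩ := basis_cert ⟨i, hl ▸ hi⟩
    rw [← List.getD_eq_getElem _ [] hi, funext h2]
    generalize basisComb.getD (⟨i, hl ▸ hi⟩ : Fin 28) [] = l at h1
    clear h2
    induction l with
    | nil => exact S.zero_mem
    | cons e l ih =>
      exact S.add_mem (S.smul_mem _ (h _ (h1 e (List.mem_cons_self ..)).2 (h1 e (List.mem_cons_self ..)).1))
        (ih fun f hf => h1 f (List.mem_cons_of_mem _ hf))
  exact key (RuMin.lattice_le v hv)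

end Cfsg.Agent.RuAut
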