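import Cfsg.Agent.Lib.RuAut.Residue

/-!
# There are no further minimal vectors

A lattice vector of norm 16 has a parity word of weight 0, 8 or 16. Up to the monomial group there are 65
cases; in each the congruences modulo 4 leave exactly the vectors of the table.
-/

set_option autoImplicit false

namespace Cfsg.Agent.RuAut

open Cfsg.Spor
open Cfsg.Agent.RuMin (num pos herm)
open Cfsg.Agent.Presented (force force_eq checkBelow checkBelow_spec)

/-- The sum of the squares of the real coordinates. -/
def NS (x : RuVec) : ℤ := ∑ k ∈ Finset.range 56, rc x k ^ 2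

theorem ruNorm_eq (x : RuVec) : ruNorm x = NS x := by
  rw [ruNorm, NS, sum_idx, show (56 : ℕ) = 28 + 28 from rfl, Finset.sum_range_add, ← Finset.sum_add_distrib]
  refine Finset.sum_congr rfl fun k hk => ?_
  simp only [rc, if_pos (Finset.mem_range.1 hk), if_neg (show ¬ 28 + k < 28 by omega), Nat.add_sub_cancel_left,
    Zsqrtd.norm_def]
  ring

theorem rc_linW {W : List ℕ} (hW : IsImages W) (x : RuVec) (l : ℕ) :
    rc (linW W x) l = ∑ k ∈ Finset.range 56, rc x k * rc (dv ((colList W).getD k 0)) l := by
  rw [linW, rc_sum, show (56 : ℕ) = 28 + 28 from rfl, Finset.sum_range_add, ← Finset.sum_add_distrib]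
  refine Finset.sum_congr rfl fun k hk => ?_
  have hk' := Finset.mem_range.1 hk
  obtain ⟨e1, e2⟩ := getD_colList hW.1 hk'
  rw [rc_smul, e1, e2, (rot_spec (ok_ptc (hW.2 k hk'))).2]
  simp only [rc, if_pos hk', if_neg (show ¬ 28 + k < 28 by omega), Nat.add_sub_cancel_left]
  rfl

/-! ### The monomial maps on coordinates and on points -/

/-- The coordinate read by a monomial map. -/
def piN (o l : ℕ) : ℕ := opPi.getD o 0 / 256 ^ l % 256

/-- The condition on column `k` of a monomial map. -/
noncomputable def piChk (o k : ℕ) : Bool :=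
  force ((colList (opImages o)).getD k 0) fun c => Presented.allList (fun l =>
    bif Nat.beq (piN o l) k then Nat.beq (dgt c l) 4 || Nat.beq (dgt c l) 12 else Nat.beq (dgt c l) 8)
    (List.range 56)

theorem pi_cert : ∀ o : Fin 3, (∀ k : Fin 56, piChk o k = true) ∧ (∀ l : Fin 56, piN o l < 56) ∧
    (∀ k : Fin 56, ∃ l : Fin 56, piN o l = k) := by decide +kernel

theorem rc_op (o : Fin 3) (x : RuVec) {l : ℕ} (hl : l < 56) :
    rc (opFun o x) l = rc x (piN o l) ∨ rc (opFun o x) l = - rc x (piN o l) := by
  obtain ⟨h1, h2, -⟩ := pi_cert o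
  have h : rc ((4 : GaussianInt) • opFun o x) l = rc (linW (opImages o) x) l := by
    exact congrArg (fun v => rc v l) (op_linW ⟨o.val, by omega⟩ x)
  rw [rc_linW (isImages_op (⟨o.val, by omega⟩ : Fin 4)), rc_smul,
    show (4 : GaussianInt).re = 4 from rfl, show (4 : GaussianInt).im = 0 from rfl, zero_mul, add_zero] at h
  have hd : ∀ k, k < 56 → (piN o l = k → dgt ((colList (opImages o)).getD k 0) l = 4 ∨
      dgt ((colList (opImages o)).getD k 0) l = 12) ∧
      (piN o l ≠ k → dgt ((colList (opImages o)).getD k 0) l = 8) := fun k hk => by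
    have hh := h1 ⟨k, hk⟩
    rw [piChk, force_eq, Presented.allList_eq, List.all_eq_true] at hh
    have := hh l (List.mem_range.2 hl)
    constructor
    · intro e
      rw [show Nat.beq (piN o l) k = true by rw [e]; exact Nat.beq_refl k, cond_true, Bool.or_eq_true] at this
      rcases this with t | t
      · exact .inl (Nat.eq_of_beq_eq_true t)
      · exact .inr (Nat.eq_of_beq_eq_true t)
    · intro e
      rw [show Nat.beq (piN o l) k = false by
        cases hb : Nat.beq (piN o l) k
        · rfl
        · exact absurd (Nat.eq_of_beq_eq_true hb) e, cond_false] at this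
      exact Nat.eq_of_beq_eq_true this
  have hpi : piN o l < 56 := h2 ⟨l, hl⟩
  rw [Finset.sum_eq_single (piN o l)] at h
  · rw [rc_dv _ hl] at h
    rcases (hd _ hpi).1 rfl with e | e <;> rw [e] at h
    · right; push_cast at h; linarith
    · left; push_cast at h; linarith
  · intro k hk hne
    rw [rc_dv _ hl, (hd k (Finset.mem_range.1 hk)).2 (Ne.symm hne)]
    simp
  · intro hh; exact absurd (Finset.mem_range.2 hpi) hh

theorem NS_op (o : Fin 3) (x : RuVec) : NS (opFun o x) = NS x := by
  obtain ⟨-, h2, h3⟩ := pi_cert o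
  have hsurj : Function.Surjective fun l : Fin 56 => (⟨piN o l, h2 l⟩ : Fin 56) := fun k => by
    obtain ⟨l, hl⟩ := h3 k
    exact ⟨l, Fin.ext hl⟩
  rw [NS, NS, Finset.sum_range, Finset.sum_range]
  refine Fintype.sum_bijective _ ⟨Finite.injective_iff_surjective.2 hsurj, hsurj⟩ _ _ fun l => ?_
  rcases rc_op o x l.isLt with h | h <;> rw [h] <;> ring

theorem op_pt (o : Fin 4) {x : ℕ} (hx : x < 16240) : ∃ y, y < 16240 ∧ opFun o (pt x) = pt y := by
  obtain ⟨h1, h2⟩ := op_edge (j := x / 4) (by omega) o
  refine ⟨shiftPhase (opI (4 * (x / 4) + o)) (x % 4), shiftPhase_lt h1, ?_⟩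
  have e : x = shiftPhase (4 * (x / 4)) (x % 4) := by unfold shiftPhase; omega
  conv_lhs => rw [e, pt_shift (by omega), opFun_smul, h2]
  rw [pt_shift h1]

theorem op_iter_pt (o : Fin 4) : ∀ (n : ℕ) {x : ℕ}, x < 16240 →
    ∃ y, y < 16240 ∧ (opFun o)^[n] (pt x) = pt y
  | 0, x, hx => ⟨x, hx, rfl⟩
  | n + 1, x, hx => by
    obtain ⟨y, hy, e⟩ := op_pt o hx
    obtain ⟨z, hz, e'⟩ := op_iter_pt o n hy
    exact ⟨z, hz, by rw [Function.iterate_succ_apply, e, e']⟩

theorem op_period : ∀ o : Fin 3, ∃ n, ∀ x : RuVec, (opFun o)^[n + 1] x = x := by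
  intro o
  fin_cases o
  · refine ⟨6, fun x => funext fun ⟨a, b⟩ => ?_⟩
    simp only [Function.iterate_succ, Function.iterate_zero, Function.comp_apply, id_eq, opFun, ruShift]
    have h7 : ∀ a : Fin 7, a + 1 + 1 + 1 + 1 + 1 + 1 + 1 = a := by decide
    rw [h7]
  · refine ⟨3, fun x => funext fun ⟨a, b⟩ => ?_⟩
    fin_cases b <;>
      simp [Function.iterate_succ, opFun, ruRj, gI] <;> apply Zsqrtd.ext <;> simp
  · refine ⟨3, fun x => funext fun ⟨a, b⟩ => ?_⟩
    fin_cases b <;>
      simp [Function.iterate_succ, opFun, ruRk, gI] <;> apply Zsqrtd.ext <;> simp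

theorem op_preimage (o : Fin 3) {x : RuVec} {m : ℕ} (hm : m < 16240) (h : opFun o x = pt m) :
    ∃ y, y < 16240 ∧ x = pt y := by
  obtain ⟨n, hn⟩ := op_period o
  obtain ⟨y, hy, e⟩ := op_iter_pt (Fin.castLE (by norm_num) o) n hm
  refine ⟨y, hy, ?_⟩
  rw [← e, ← h]
  exact ((Function.iterate_succ_apply _ _ _).symm.trans (hn x)).symm

/-! ### Light words -/

/-- The index of a light word. -/
noncomputable def lightT (n : ℕ) : ℕ := lightTab.get 19 n

/-- The mask of a light word. -/
noncomputable def lightW (n : ℕ) : ℕ := lightWord.get 56 n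

/-- The reduction step of a light word. -/
noncomputable def lightE (n : ℕ) : ℕ := lightEdge.get 22 n

theorem light_list : lightList = (List.range 1709).map lightT := by decide +kernel

/-- The position of a light word is consistent. -/
noncomputable def wordChk (n : ℕ) : Bool :=
  force (lightT n) fun i => Nat.blt i 524288 && Nat.beq (wordMask i) (lightW n)

theorem word_all : checkBelow wordChk 11 1709 = true := by decide +kernel

theorem word_facts {n : ℕ} (hn : n < 1709) : lightT n < 2 ^ 19 ∧ wordMask (lightT n) = lightW n := by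
  have h := checkBelow_spec word_all n hn
  rw [wordChk, force_eq, Bool.and_eq_true, Nat.blt_eq] at h
  exact ⟨h.1, Nat.eq_of_beq_eq_true h.2⟩

theorem word_piv {i r : ℕ} (hr : r < 19) : bz ((wordMask i).testBit (pivN r)) = bz (i.testBit r) := by
  rw [wordMask, testBit_selXor, Finset.sum_eq_single r]
  · simp [piv_cert.2 ⟨r, hr⟩ ⟨r, hr⟩, bz]
  · intro j hj hne
    rw [piv_cert.2 ⟨r, hr⟩ ⟨j, Finset.mem_range.1 hj⟩,
      decide_eq_false (by simpa [Fin.ext_iff] using Ne.symm hne)]
    simp [bz]
  · intro h; exact absurd (Finset.mem_range.2 hr) h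

theorem wordIdx_eq {x : RuVec} {i : ℕ} (hi : i < 2 ^ 19)
    (h : ∀ k, k < 56 → xb x k = bz ((wordMask i).testBit k)) : wordIdx x = i := by
  refine Nat.eq_of_testBit_eq fun r => ?_
  by_cases hr : r < 19
  · exact bz_inj _ _ (by rw [testBit_wordIdx x hr, h _ (piv_cert.1 ⟨r, hr⟩), word_piv hr])
  · rw [Nat.testBit_lt_two_pow (lt_of_lt_of_le (wordIdx_lt x) (Nat.pow_le_pow_right (by norm_num) (by omega))),
      Nat.testBit_lt_two_pow (lt_of_lt_of_le hi (Nat.pow_le_pow_right (by norm_num) (by omega)))]

/-! ### The representative words -/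

/-- The coordinates of a case. -/
def cOrd (c j : ℕ) : ℕ := (caseOrder.getD c []).getD j 0

/-- The number of coordinates of a case. -/
def cLen (c : ℕ) : ℕ := (caseOrder.getD c []).length

/-- An equation of a case, as a sum of rows. -/
def cSel (c e : ℕ) : ℕ := (caseSels.getD c []).getD e 0

/-- The number of equations of a case. -/
def cEqs (c : ℕ) : ℕ := (caseSels.getD c []).length

/-- A column of the equations of a case. -/
def cCol (c j : ℕ) : ℕ := (caseCols.getD c []).getD j 0

/-- The equations complete at a step. -/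
def cMask (c j : ℕ) : ℕ := (caseMasks.getD c []).getD j 0

/-- The right hand sides of a case. -/
def cT (c : ℕ) : ℕ := caseTarget.getD c 0

/-- A sum of rows, in lanes. -/
noncomputable def selP (sel : ℕ) : ℕ → ℕ :=
  fun n => Nat.rec (motive := fun _ => ℕ) 0 (fun r ih => force ih fun a =>
    bif sel.testBit r then Nat.add a (rowCert.getD r (0, [])).1 else a) n

/-- The coefficient at coordinate `k` of a sum of rows. -/
noncomputable def selU (sel k : ℕ) : ℕ := dgt (selP sel 19) k

theorem selP_step (sel n : ℕ) : selP sel (n + 1) =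
    bif sel.testBit n then selP sel n + (rowCert.getD n (0, [])).1 else selP sel n :=
  Cfsg.Agent.Presented.force_eq (selP sel n) fun a =>
    bif sel.testBit n then Nat.add a (rowCert.getD n (0, [])).1 else a

theorem row_pk {n : ℕ} (h : n < 19) : (rowCert.getD n (0, [])).1 = pk (resD n) 56 :=
  (row_cert ⟨n, h⟩).2.2

theorem pk_const_zero (N : ℕ) : (0 : ℕ) = pk (fun _ => 0) N := by simp [pk]

theorem selP_eq' (sel : ℕ) (R : ℕ → ℕ → ℕ) (N : ℕ) (P : ℕ → ℕ)
    (h0 : P 0 = 0) (hs : ∀ n, n < 19 → P (n + 1) = bif sel.testBit n then P n + pk (R n) N else P n)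
    (n : ℕ) (h : n ≤ 19) :
    P n = pk (fun k => ∑ r ∈ Finset.range n, if sel.testBit r then R r k else 0) N := by
  induction n with
  | zero => rw [h0]; exact (pk_const_zero N).trans (pk_congr fun k _ => by simp)
  | succ n ih =>
    rw [hs n (by omega), ih (by omega)]
    cases hb : sel.testBit n
    · exact pk_congr fun k _ => by simp [Finset.sum_range_succ, hb]
    · rw [cond_true, pk_add]
      exact pk_congr fun k _ => by simp [Finset.sum_range_succ, hb]

theorem selP_zero (sel : ℕ) : selP sel 0 = 0 := rfl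

theorem selP_eq (sel : ℕ) (n : ℕ) (h : n ≤ 19) :
    selP sel n = pk (fun k => ∑ r ∈ Finset.range n, if sel.testBit r then resD r k else 0) 56 :=
  selP_eq' sel resD 56 (selP sel) (selP_zero sel) (fun m hm => row_pk hm ▸ selP_step sel m) n h

theorem selU_eq (sel : ℕ) {k : ℕ} (hk : k < 56) :
    selU sel k = ∑ r ∈ Finset.range 19, if sel.testBit r then resD r k else 0 := by
  rw [selU, selP_eq sel 19 le_rfl, dgt_pk 56 _ (fun j hj => ?_) k, if_pos hk]
  refine lt_of_le_of_lt (Finset.sum_le_card_nsmul _ _ 3 fun r hr => ?_) (by simp)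
  split
  · have := ((row_cert ⟨r, Finset.mem_range.1 hr⟩).2.1 ⟨j, hj⟩).2
    simp at this
    omega
  · norm_num

theorem selU_def (sel k : ℕ) : dgt (selP sel 19) k = selU sel k := rfl

theorem bit_decide {a b : ℕ} (h : a = b) : decide (a % 2 = 1) = decide (b % 2 = 1) := by subst h; rfl

theorem sel_congr {x : RuVec} (hx : x ∈ RuMin.span) (sel : ℕ) :
    (∑ k ∈ Finset.range 56, rc x k * (selU sel k : ℤ)) % 4 = 0 := by
  rw [Finset.sum_congr rfl fun k hk => show rc x k * (selU sel k : ℤ) =
    ∑ r ∈ Finset.range 19, rc x k * ((if sel.testBit r then resD r k else 0 : ℕ) : ℤ) by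
      rw [selU_eq sel (Finset.mem_range.1 hk), Nat.cast_sum, Finset.mul_sum]]
  rw [Finset.sum_comm, Finset.sum_int_mod, Finset.sum_eq_zero]
  · rfl
  intro r hr
  by_cases h : sel.testBit r
  · simpa [h] using row_congr hx (Finset.mem_range.1 hr)
  · simp [h]

/-- The assignments of signs allowed by the equations complete so far. -/
def solve (c : ℕ) : ℕ → List (ℕ × ℕ)
  | 0 => [(0, 0)]
  | i + 1 => ((solve c i).flatMap fun e => [e, (e.1 ^^^ cCol c i, e.2 ^^^ 2 ^ cOrd c i)]).filter
      fun e => Nat.beq (e.1 &&& cMask c i) (cT c &&& cMask c i)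

/-- The lane of a solution. -/
def solLane (w neg k : ℕ) : ℕ := bif w.testBit k then (bif neg.testBit k then 7 else 9) else 8

/-- A sum over an initial segment, by the recursor. -/
noncomputable def natSum (f : ℕ → ℕ) : ℕ → ℕ :=
  fun n => Nat.rec (motive := fun _ => ℕ) 0 (fun k ih => force ih fun a => Nat.add a (f k)) n

theorem natSum_eq (f : ℕ → ℕ) : ∀ n, natSum f n = ∑ k ∈ Finset.range n, f k
  | 0 => rfl
  | n + 1 => by
    have e : natSum f (n + 1) = force (natSum f n) fun a => Nat.add a (f n) := rfl
    rw [e, force_eq, natSum_eq f n, (natOps _ _).2.2.2.1, Finset.sum_range_succ]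

/-- The weight, by the recursor. -/
noncomputable def wtN (w n : ℕ) : ℕ := natSum (fun k => Nat.land (Nat.shiftRight w k) 1) n

theorem wtN_eq (w n : ℕ) : wtN w n = wt w n := by
  rw [wtN, natSum_eq, wt]
  refine Finset.sum_congr rfl fun k _ => ?_
  show w >>> k &&& 1 = _
  rw [Nat.and_one_is_mod, Nat.shiftRight_eq_div_pow, Nat.testBit_eq_decide_div_mod_eq]
  rcases Nat.mod_two_eq_zero_or_one (w / 2 ^ k) with h | h <;> simp [h]

theorem bit_eq {a b i j : ℕ} (h : Nat.land (Nat.shiftRight a i) 1 = Nat.land (Nat.shiftRight b j) 1) :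
    a.testBit i = b.testBit j := by
  change a >>> i &&& 1 = b >>> j &&& 1 at h
  rw [Nat.and_one_is_mod, Nat.and_one_is_mod, Nat.shiftRight_eq_div_pow, Nat.shiftRight_eq_div_pow] at h
  rw [Nat.testBit_eq_decide_div_mod_eq, Nat.testBit_eq_decide_div_mod_eq, h]

/-- The solutions match the points. -/
noncomputable def solOK (w : ℕ) : List (ℕ × ℕ) → List ℕ → Bool :=
  fun l => List.rec (motive := fun _ => List ℕ → Bool) (fun ps => ps.isEmpty)
    (fun e _ ih ps => match ps with
      | [] => false
      | p :: ps => (force e.2 fun neg => force (ptc p) fun code => Nat.blt p 16240 &&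
          Presented.allList (fun k => Nat.beq (dgt code k) (solLane w neg k)) (List.range 56)) && ih ps) l

theorem solOK_spec {w : ℕ} : ∀ {l : List (ℕ × ℕ)} {ps : List ℕ}, solOK w l ps = true → ∀ e ∈ l,
    ∃ p, p < 16240 ∧ ∀ k, k < 56 → dgt (ptc p) k = solLane w e.2 k
  | [], _, _ => fun e he => absurd he List.not_mem_nil
  | a :: l, [], h => by simp [solOK] at h
  | a :: l, p :: ps, h => by
    change ((force a.2 fun neg => force (ptc p) fun code => Nat.blt p 16240 &&
      Presented.allList (fun k => Nat.beq (dgt code k) (solLane w neg k)) (List.range 56)) && solOK w l ps) = true at h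
    rw [Bool.and_eq_true, force_eq, force_eq, Bool.and_eq_true, Nat.blt_eq, Presented.allList_eq,
      List.all_eq_true] at h
    intro e he
    rcases List.mem_cons.1 he with rfl | he
    · exact ⟨p, h.1.1, fun k hk => Nat.eq_of_beq_eq_true (h.1.2 k (List.mem_range.2 hk))⟩
    · exact solOK_spec h.2 e he

/-- A case of weight 16 is in order. -/
noncomputable def case16 (c : ℕ) : Bool :=
  decide (cEqs c ≤ 19) &&
  Presented.allList (fun j => Nat.blt (cOrd c j) 56) (List.range 16) &&
  Presented.allList (fun e => force (selP (cSel c e) 19) fun P =>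
    Nat.beq (natSum (fun j => dgt P (cOrd c j)) 16 % 4) (bif (cT c).testBit e then 2 else 0) &&
    Presented.allList (fun j => (cCol c j).testBit e == decide (dgt P (cOrd c j) % 2 = 1)) (List.range 16))
    (List.range (cEqs c)) &&
  Presented.allList (fun i => Nat.blt (cMask c i) (2 ^ cEqs c) && Presented.allList (fun j =>
    Nat.ble j i || Nat.beq (cCol c j &&& cMask c i) 0) (List.range 16)) (List.range 16) &&
  solOK (lightW (caseWord.getD c 0)) (solve c 16) (caseSols.getD c [])

/-- A case of weight 8 is in order. -/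
noncomputable def case8 (c : ℕ) : Bool :=
  decide (cEqs c ≤ 19) && Nat.blt (cT c) (2 ^ cEqs c) && !(Nat.beq (cT c) 0) &&
  Presented.allList (fun e => force (selP (cSel c e) 19) fun P =>
    Nat.beq (natSum (fun j => dgt P (cOrd c j)) 8 % 4) (bif (cT c).testBit e then 2 else 0) &&
    Presented.allList (fun j => decide (dgt P (cOrd c j) % 2 = 0)) (List.range 8) &&
    Presented.allList (fun k => (cCol c k).testBit e == decide (dgt P k % 2 = 1)) (List.range 56))
    (List.range (cEqs c)) &&
  Presented.allList (fun a => Nat.blt (cCol c a) (2 ^ cEqs c) && !(Nat.beq (cCol c a) (cT c)) &&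
    Presented.allList (fun b => Nat.ble b a || !(Nat.beq (cCol c a ^^^ cCol c b) (cT c))) (List.range 56))
    (List.range 56)

/-- A case is in order. -/
noncomputable def caseChk (c : ℕ) : Bool :=
  force (lightW (caseWord.getD c 0)) fun w => force (cLen c) fun n =>
    Nat.beq (wtN w 56) n && decide ((caseOrder.getD c []).Nodup) &&
      Nat.beq w (listMask (caseOrder.getD c [])) &&
      Nat.blt (caseWord.getD c 0) 1709 &&
      (bif Nat.beq n 16 then case16 c else bif Nat.beq n 8 then case8 c else Nat.beq n 0)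

theorem case_block0 : Presented.allList caseChk (List.range' 0 5) = true := by decide +kernel

theorem case_block1 : Presented.allList caseChk (List.range' 5 5) = true := by decide +kernel

theorem case_block2 : Presented.allList caseChk (List.range' 10 5) = true := by decide +kernel

theorem case_block3 : Presented.allList caseChk (List.range' 15 5) = true := by decide +kernel

theorem case_block4 : Presented.allList caseChk (List.range' 20 5) = true := by decide +kernel

theorem case_block5 : Presented.allList caseChk (List.range' 25 5) = true := by decide +kernel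

theorem case_block6 : Presented.allList caseChk (List.range' 30 5) = true := by decide +kernel

theorem case_block7 : Presented.allList caseChk (List.range' 35 5) = true := by decide +kernel

theorem case_block8 : Presented.allList caseChk (List.range' 40 5) = true := by decide +kernel

theorem case_block9 : Presented.allList caseChk (List.range' 45 5) = true := by decide +kernel

theorem case_block10 : Presented.allList caseChk (List.range' 50 5) = true := by decide +kernel

theorem case_block11 : Presented.allList caseChk (List.range' 55 5) = true := by decide +kernel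

theorem case_block12 : Presented.allList caseChk (List.range' 60 5) = true := by decide +kernel

theorem case_all (c : Fin 65) : caseChk c = true := by
  have hh : ∀ a, a ≤ c.val → c.val < a + 5 → Presented.allList caseChk (List.range' a 5) = true →
      caseChk c = true := fun a h1 h2 h => by
    rw [Presented.allList_eq, List.all_eq_true] at h
    exact h _ (List.mem_range'_1.2 ⟨h1, h2⟩)
  have := c.isLt
  by_cases h0 : c.val < 5
  · exact hh 0 (by omega) (by omega) case_block0
  by_cases h1 : c.val < 10
  · exact hh 5 (by omega) (by omega) case_block1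
  by_cases h2 : c.val < 15
  · exact hh 10 (by omega) (by omega) case_block2
  by_cases h3 : c.val < 20
  · exact hh 15 (by omega) (by omega) case_block3
  by_cases h4 : c.val < 25
  · exact hh 20 (by omega) (by omega) case_block4
  by_cases h5 : c.val < 30
  · exact hh 25 (by omega) (by omega) case_block5
  by_cases h6 : c.val < 35
  · exact hh 30 (by omega) (by omega) case_block6
  by_cases h7 : c.val < 40
  · exact hh 35 (by omega) (by omega) case_block7
  by_cases h8 : c.val < 45
  · exact hh 40 (by omega) (by omega) case_block8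
  by_cases h9 : c.val < 50
  · exact hh 45 (by omega) (by omega) case_block9
  by_cases h10 : c.val < 55
  · exact hh 50 (by omega) (by omega) case_block10
  by_cases h11 : c.val < 60
  · exact hh 55 (by omega) (by omega) case_block11
  exact hh 60 (by omega) (by omega) case_block12

/-- One reduction step is in order. -/
noncomputable def edgeChk (n : ℕ) : Bool :=
  force (lightE n) fun e => bif Nat.blt e 8192 then
    force (Nat.mod e 2048) fun p => force (Nat.div e 2048) fun o => force (lightW n) fun w =>
      force (lightW p) fun v => force (opPi.getD o 0) fun P => Nat.blt p n && Nat.blt o 3 &&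
        Presented.checkBlock (fun l => Nat.beq (Nat.land (Nat.shiftRight v l) 1)
          (Nat.land (Nat.shiftRight w (Nat.land (Nat.shiftRight P (Nat.mul 8 l)) 255)) 1)) 56 6 0
  else Nat.blt (Nat.div e 16384) 65 && Nat.beq (caseWord.getD (Nat.div e 16384) 0) n

theorem edge_all : checkBelow edgeChk 11 1709 = true := by decide +kernel

/-- The column of a coordinate in the code. -/
def synN (k : ℕ) : ℕ := synPack / 2 ^ (19 * k) % 2 ^ 19

theorem syn_cert : ∀ k : Fin 56, synN k < 2 ^ 19 ∧
    ∀ r : Fin 19, Nat.testBit (synN k) r = (rowN r).testBit k := by decide +kernel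

/-- The syndrome of the pair at a position. -/
noncomputable def pairSyn (n : ℕ) : ℕ :=
  force (pairList.get 12 n) fun e => synN (e % 64) ^^^ synN (e / 64)

/-- Pairs are sorted by their syndromes. -/
noncomputable def pairSorted (n : ℕ) : Bool := Nat.blt (pairSyn n) (pairSyn (n + 1))

/-- Pairs are found at their positions. -/
noncomputable def pairFound (e : ℕ) : Bool :=
  bif Nat.blt (Nat.div e 56) (Nat.mod e 56) then force (pairPos.get 11 e) fun n =>
    Nat.blt n 1540 && Nat.beq (pairList.get 12 n) (Nat.div e 56 + 64 * Nat.mod e 56)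
  else true

theorem pair_all : checkBelow pairSorted 11 1539 = true ∧ checkBelow pairFound 12 3136 = true := by
  decide +kernel

theorem axis_cert : ∀ k : Fin 56, ∀ s : Fin 2, axisList.getD (2 * k.val + s.val) 0 < 16240 ∧
    ∀ l : Fin 56, rc (pt (axisList.getD (2 * k.val + s.val) 0)) l =
      if l = k then (if s = 0 then 4 else -4) else 0 := by decide +kernel

attribute [local irreducible] lightT lightW lightE wordMask pt ptc selU selP synN solOK
  Cfsg.Agent.Presented.NTree.get

theorem pairSyn_lt {m n : ℕ} (hmn : m < n) (hn : n < 1540) : pairSyn m < pairSyn n := by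
  obtain ⟨d, rfl⟩ : ∃ d, n = m + 1 + d := ⟨n - m - 1, by omega⟩
  clear hmn
  have hs : ∀ i, i < 1539 → pairSyn i < pairSyn (i + 1) := fun i hi => by
    have := checkBelow_spec pair_all.1 i hi
    rwa [pairSorted, Nat.blt_eq] at this
  induction d with
  | zero => exact hs m (by omega)
  | succ d ih => exact (ih (by omega)).trans (hs (m + 1 + d) (by omega))

theorem pair_inj {a b c d : ℕ} (hab : a < b) (hb : b < 56) (hcd : c < d) (hd : d < 56)
    (h : synN a ^^^ synN b = synN c ^^^ synN d) : a = c ∧ b = d := by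
  have key : ∀ a b, a < b → b < 56 → ∃ n, n < 1540 ∧ pairList.get 12 n = a + 64 * b ∧
      pairSyn n = synN a ^^^ synN b := by
    intro a b hab hb
    have := checkBelow_spec pair_all.2 (56 * a + b) (by omega)
    simp only [pairFound, force_eq, (natOps _ _).1, (natOps _ _).2.2.2.2.2.2, show (56 * a + b) / 56 = a by omega,
      show (56 * a + b) % 56 = b by omega, show Nat.blt a b = true by rw [Nat.blt_eq]; exact hab, cond_true,
      Bool.and_eq_true, Nat.blt_eq] at this
    refine ⟨_, this.1, Nat.eq_of_beq_eq_true this.2, ?_⟩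
    rw [pairSyn, force_eq, Nat.eq_of_beq_eq_true this.2, show (a + 64 * b) % 64 = a by omega,
      show (a + 64 * b) / 64 = b by omega]
  obtain ⟨m, hm, e1, s1⟩ := key a b hab hb
  obtain ⟨n, hn, e2, s2⟩ := key c d hcd hd
  have : m = n := by
    rcases lt_trichotomy m n with h' | h' | h'
    · have := pairSyn_lt h' hn; omega
    · exact h'
    · have := pairSyn_lt h' hm; omega
  subst this
  rw [e1] at e2
  omega

theorem pair_inj' {a b c d : ℕ} (hab : a ≠ b) (ha : a < 56) (hb : b < 56) (hcd : c ≠ d) (hc : c < 56)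
    (hd : d < 56) (h : synN a ^^^ synN b = synN c ^^^ synN d) : a = c ∨ a = d := by
  rcases Nat.lt_or_gt_of_ne hab with h1 | h1 <;> rcases Nat.lt_or_gt_of_ne hcd with h2 | h2
  · exact .inl (pair_inj h1 hb h2 hd h).1
  · exact .inr (pair_inj h1 hb h2 hc (by rw [h, Nat.xor_comm])).1
  · exact .inr (pair_inj h1 ha h2 hd (by rw [← h, Nat.xor_comm])).2
  · exact .inl (pair_inj h1 ha h2 hc (by rw [Nat.xor_comm, h, Nat.xor_comm])).2

/-- An exclusive sum with given support. -/
theorem selXor_support (f : ℕ → ℕ) (p : ℕ → Bool) {n : ℕ} (S : Finset ℕ)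
    (hS : ∀ k, k ∈ S ↔ k < n ∧ p k = true) (e : ℕ) :
    bz ((selXor f p n).testBit e) = ∑ k ∈ S, bz ((f k).testBit e) := by
  rw [testBit_selXor, show S = (Finset.range n).filter fun k => p k = true by
    ext k; simp [hS], Finset.sum_filter]
  exact Finset.sum_congr rfl fun k _ => by cases p k <;> simp [bz]

theorem odd_square {a : ℤ} (h : a % 2 = 1) : 1 ≤ a ^ 2 := by
  have : a ≠ 0 := by rintro rfl; simp at h
  nlinarith [Int.one_le_abs this, sq_abs a, abs_nonneg a]

theorem cast_emod (a : ℤ) : ((a : ℤ) : ZMod 2) = bz (decide (a % 2 = 1)) := by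
  rcases Int.emod_two_eq_zero_or_one a with h | h
  · rw [(ZMod.intCast_zmod_eq_zero_iff_dvd a 2).2 (Int.dvd_of_emod_eq_zero h)]
    simp [bz, h]
  · obtain ⟨b, rfl⟩ : ∃ b, a = 2 * b + 1 := ⟨a / 2, by omega⟩
    push_cast
    rw [show (2 : ZMod 2) = 0 from rfl]
    simp [bz, h]

theorem natCast_odd (a : ℕ) : ((a : ℤ) : ZMod 2) = bz (decide (a % 2 = 1)) := by
  rw [cast_emod]; congr 1; simp only [decide_eq_decide]; omega

/-- The facts of a case. -/
theorem case_facts {c : ℕ} (hc : c < 65) :
    caseWord.getD c 0 < 1709 ∧ wt (lightW (caseWord.getD c 0)) 56 = cLen c ∧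
    (∀ i j, i < j → j < cLen c → j < 16 → cOrd c i ≠ cOrd c j) ∧
    (∀ k, k < 56 → ((lightW (caseWord.getD c 0)).testBit k = true ↔ k ∈ caseOrder.getD c [])) ∧
    ((cLen c = 16 ∧ case16 c = true) ∨ (cLen c = 8 ∧ case8 c = true) ∨ cLen c = 0) := by
  have h : caseChk c = true := case_all ⟨c, hc⟩
  simp only [caseChk, force_eq, Bool.and_eq_true, decide_eq_true_eq, Nat.blt_eq] at h
  obtain ⟨⟨⟨⟨h1, h2⟩, h3⟩, h4⟩, h5⟩ := h
  have h1' := Nat.eq_of_beq_eq_true h1
  rw [wtN_eq] at h1'
  refine ⟨h4, h1', fun i j hij hj _ => ?_, fun k hk => ?_, ?_⟩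
  · unfold cLen at hj
    have hi : i < (caseOrder.getD c []).length := lt_trans hij hj
    rw [cOrd, cOrd, List.getD_eq_getElem _ _ hi, List.getD_eq_getElem _ _ hj, Ne, h2.getElem_inj_iff]
    omega
  · rw [Nat.eq_of_beq_eq_true h3, listMask_spec, decide_eq_true_eq]
  · cases e16 : Nat.beq (cLen c) 16
    · rw [e16, cond_false] at h5
      cases e8 : Nat.beq (cLen c) 8
      · rw [e8, cond_false] at h5
        exact .inr (.inr (Nat.eq_of_beq_eq_true h5))
      · rw [e8, cond_true] at h5
        exact .inr (.inl ⟨Nat.eq_of_beq_eq_true e8, h5⟩)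
    · rw [e16, cond_true] at h5
      exact .inl ⟨Nat.eq_of_beq_eq_true e16, h5⟩

/-- A sum supported on the coordinates of a case. -/
theorem sum_case {M : Type*} [AddCommMonoid M] {c : ℕ} (hc : c < 65) (f : ℕ → M)
    (hlen : cLen c ≤ 16) (h56 : ∀ j, j < cLen c → cOrd c j < 56)
    (hz : ∀ k, k < 56 → (lightW (caseWord.getD c 0)).testBit k = false → f k = 0) :
    ∑ k ∈ Finset.range 56, f k = ∑ j ∈ Finset.range (cLen c), f (cOrd c j) := by
  obtain ⟨-, -, hinj, hmem, -⟩ := case_facts hc
  have hi : Set.InjOn (cOrd c) (Finset.range (cLen c) : Set ℕ) := by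
    intro i hi j hj h
    simp only [Finset.coe_range, Set.mem_Iio] at hi hj
    rcases lt_trichotomy i j with h' | h' | h'
    · exact absurd h (hinj i j h' hj (by omega))
    · exact h'
    · exact absurd h.symm (hinj j i h' hi (by omega))
  rw [← Finset.sum_image hi]
  refine (Finset.sum_subset ?_ ?_).symm
  · intro k hk
    obtain ⟨j, hj, rfl⟩ := Finset.mem_image.1 hk
    exact Finset.mem_range.2 (h56 j (Finset.mem_range.1 hj))
  · intro k hk hni
    have hk' := Finset.mem_range.1 hk
    refine hz k hk' ?_
    by_contra hb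
    simp only [Bool.not_eq_false] at hb
    obtain ⟨j, hj, e⟩ := List.getElem_of_mem ((hmem k hk').1 hb)
    exact hni (Finset.mem_image.2 ⟨j, Finset.mem_range.2 hj, by
      rw [cOrd, List.getD_eq_getElem _ _ hj, e]⟩)

theorem ord_lt {c : ℕ} (hc : c < 65) (h56 : ∀ k ∈ caseOrder.getD c [], k < 56) {j : ℕ} (hj : j < cLen c) :
    cOrd c j < 56 ∧ (lightW (caseWord.getD c 0)).testBit (cOrd c j) = true := by
  have hm : cOrd c j ∈ caseOrder.getD c [] := by
    unfold cLen at hj
    rw [cOrd, List.getD_eq_getElem _ _ hj]; exact List.getElem_mem _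
  exact ⟨h56 _ hm, ((case_facts hc).2.2.2.1 _ (h56 _ hm)).2 hm⟩

theorem order_bound : ∀ c : Fin 65, ∀ k ∈ caseOrder.getD c [], k < 56 := by decide +kernel

theorem case16_ok {c : ℕ} (hc : c < 65) (hlen : cLen c = 16) (h16 : case16 c = true) {x : RuVec}
    (hx : x ∈ RuMin.span) (hN : NS x = 16)
    (hodd : ∀ k, k < 56 → (rc x k % 2 = 1 ↔ (lightW (caseWord.getD c 0)).testBit k = true)) :
    ∃ m, m < 16240 ∧ x = pt m := by
  set w := lightW (caseWord.getD c 0) with hw
  have hwt : wt w 56 = 16 := hlen ▸ (case_facts hc).2.1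
  have hle : ∀ k ∈ Finset.range 56, ((w.testBit k).toNat : ℤ) ≤ rc x k ^ 2 := fun k hk => by
    cases hb : w.testBit k
    · exact le_trans (by simp) (sq_nonneg _)
    · simpa using odd_square ((hodd k (Finset.mem_range.1 hk)).2 hb)
  have hsum : ∑ k ∈ Finset.range 56, ((w.testBit k).toNat : ℤ) = ∑ k ∈ Finset.range 56, rc x k ^ 2 := by
    rw [← Nat.cast_sum]
    change ((wt w 56 : ℕ) : ℤ) = NS x
    rw [hwt, hN]; rfl
  have hsq := (Finset.sum_eq_sum_iff_of_le hle).1 hsum
  have hoff : ∀ k, k < 56 → w.testBit k = false → rc x k = 0 := fun k hk hb => by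
    have := hsq k (Finset.mem_range.2 hk); rw [hb] at this; simpa using this.symm
  have hon : ∀ k, k < 56 → w.testBit k = true → rc x k = 1 ∨ rc x k = -1 := fun k hk hb => by
    have := hsq k (Finset.mem_range.2 hk); rw [hb] at this
    exact sq_eq_one_iff.1 (by simpa using this.symm)
  have hord := fun {j : ℕ} (hj : j < 16) => ord_lt hc (order_bound ⟨c, hc⟩) (j := j) (hlen.symm ▸ hj)
  let ng : ℕ → Bool := fun j => decide (rc x (cOrd c j) = -1)
  simp only [case16, Presented.allList_eq, List.all_eq_true, List.mem_range, force_eq, Bool.and_eq_true,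
    decide_eq_true_eq, Bool.or_eq_true, Nat.blt_eq, Nat.ble_eq, beq_iff_eq] at h16
  obtain ⟨⟨⟨⟨-, -⟩, heq⟩, hmask⟩, hsol⟩ := h16
  -- each equation determines a bit of the full syndrome
  have hfull : ∀ e, e < cEqs c →
      bz ((selXor (cCol c) ng 16).testBit e) = bz ((cT c).testBit e) := by
    intro e he
    obtain ⟨hT', hcol⟩ := heq e he
    have hT : (∑ j ∈ Finset.range 16, selU (cSel c e) (cOrd c j)) % 4 =
        (bif (cT c).testBit e then 2 else 0) := by
      have := Nat.eq_of_beq_eq_true hT'; rw [natSum_eq] at this; simp only [selU_def] at this; exact this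
    have h4 := sel_congr hx (cSel c e)
    rw [sum_case hc (fun k => rc x k * (selU (cSel c e) k : ℤ)) (le_of_eq hlen)
      (fun j hj => (hord (hlen ▸ hj)).1) (fun k hk hb => by rw [hoff k hk hb, zero_mul]), hlen] at h4
    have hterm : ∀ j ∈ Finset.range 16, rc x (cOrd c j) * (selU (cSel c e) (cOrd c j) : ℤ) =
        (selU (cSel c e) (cOrd c j) : ℤ) - 2 * (bif ng j then (selU (cSel c e) (cOrd c j) : ℤ) else 0) := by
      intro j hj
      obtain ⟨h1, h2⟩ := hord (Finset.mem_range.1 hj)
      rcases hon _ h1 h2 with h | h <;> simp [ng, h]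
      ring
    rw [Finset.sum_congr rfl hterm, Finset.sum_sub_distrib, ← Finset.mul_sum] at h4
    have hTz : (∑ j ∈ Finset.range 16, (selU (cSel c e) (cOrd c j) : ℤ)) % 4 =
        bif (cT c).testBit e then 2 else 0 := by
      rw [← Nat.cast_sum]
      cases hb : (cT c).testBit e <;> rw [hb] at hT <;> simp only [cond_true, cond_false] at hT ⊢ <;> omega
    have h2 : (∑ j ∈ Finset.range 16, (bif ng j then (selU (cSel c e) (cOrd c j) : ℤ) else 0)) % 2 =
        bif (cT c).testBit e then 1 else 0 := by
      cases hb : (cT c).testBit e <;> rw [hb] at hTz <;> simp only [cond_true, cond_false] at hTz ⊢ <;> omega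
    have h3 := cast_emod (∑ j ∈ Finset.range 16, (bif ng j then (selU (cSel c e) (cOrd c j) : ℤ) else 0))
    rw [Int.cast_sum, h2] at h3
    rw [testBit_selXor]
    refine Eq.trans ?_ (h3.trans ?_)
    · refine Finset.sum_congr rfl fun j hj => ?_
      rw [hcol j (Finset.mem_range.1 hj), bit_decide (selU_def (cSel c e) (cOrd c j))]
      cases ng j
      · simp [bz]
      · simp only [cond_true, natCast_odd]
        simp [bz]
    · cases (cT c).testBit e <;> rfl
  have hinv : ∀ i, i ≤ 16 →
      (selXor (cCol c) ng i, selXor (fun j => 2 ^ cOrd c j) ng i) ∈ solve c i := by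
    intro i
    induction i with
    | zero => exact fun _ => by simp [solve, selXor]
    | succ i ih =>
      intro hi
      rw [solve, List.mem_filter]
      refine ⟨List.mem_flatMap.2 ⟨_, ih (by omega), ?_⟩, ?_⟩
      · cases hb : ng i <;> simp [selXor, hb]
      · obtain ⟨hml, hz⟩ := hmask i (by omega)
        suffices h : selXor (cCol c) ng (i + 1) &&& cMask c i = cT c &&& cMask c i by
          rw [h]; exact Nat.beq_refl _
        refine Nat.eq_of_testBit_eq fun e => ?_
        rw [Nat.testBit_and, Nat.testBit_and]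
        cases hm : (cMask c i).testBit e
        · simp
        · rw [Bool.and_true, Bool.and_true]
          have he : e < cEqs c := by
            by_contra hge
            rw [Nat.testBit_lt_two_pow (lt_of_lt_of_le hml (Nat.pow_le_pow_right (by norm_num) (not_lt.1 hge)))] at hm
            exact Bool.noConfusion hm
          refine bz_inj _ _ (Eq.trans ?_ (hfull e he))
          rw [testBit_selXor, testBit_selXor]
          refine Finset.sum_subset (Finset.range_subset_range.2 (by omega)) fun j hj hnj => ?_
          simp only [Finset.mem_range] at hj hnj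
          rcases hz j hj with h | h
          · omega
          · have := congrArg (fun n => Nat.testBit n e) (Nat.eq_of_beq_eq_true h)
            simp only [Nat.testBit_and, hm, Bool.and_true, Nat.zero_testBit] at this
            simp [this, bz]
  obtain ⟨p, hp, hl⟩ := solOK_spec hsol _ (hinv 16 le_rfl)
  refine ⟨p, hp, ext_rc fun k hk => ?_⟩
  have hd := hl k hk
  rw [pt, rc_dv _ hk, hd, solLane, ← hw]
  cases hb : w.testBit k
  · simp [hoff k hk hb]
  · obtain ⟨-, -, hinj, hmem, -⟩ := case_facts hc
    obtain ⟨j, hj, ej⟩ := List.getElem_of_mem ((hmem k hk).1 hb)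
    have hj16 : j < 16 := hlen ▸ hj
    have hoj : cOrd c j = k := by rw [cOrd, List.getD_eq_getElem _ _ hj, ej]
    have hbit : bz ((selXor (fun j => 2 ^ cOrd c j) ng 16).testBit k) = bz (ng j) := by
      rw [testBit_selXor, Finset.sum_eq_single j]
      · simp [hoj, bz, Nat.testBit_two_pow_self]
      · intro i hi hne
        have hi' := Finset.mem_range.1 hi
        have hne' : cOrd c i ≠ k := by
          rcases Nat.lt_or_gt_of_ne hne with h | h
          · exact fun e => hinj i j h (hlen ▸ hj16) hj16 (e.trans hoj.symm)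
          · exact fun e => hinj j i h (hlen ▸ hi') hi' (hoj.trans e.symm)
        simp [bz, Nat.testBit_two_pow_of_ne hne']
      · intro h; exact absurd (Finset.mem_range.2 hj16) h
    rw [cond_true, bz_inj _ _ hbit]
    rcases hon k hk hb with h | h <;> simp [ng, hoj, h]

theorem case8_ok {c : ℕ} (hc : c < 65) (hlen : cLen c = 8) (h8 : case8 c = true) {x : RuVec}
    (hx : x ∈ RuMin.span) (hN : NS x = 16)
    (hodd : ∀ k, k < 56 → (rc x k % 2 = 1 ↔ (lightW (caseWord.getD c 0)).testBit k = true)) : False := by
  set w := lightW (caseWord.getD c 0) with hw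
  have hwt : wt w 56 = 8 := hlen ▸ (case_facts hc).2.1
  have hord := fun {j : ℕ} (hj : j < 8) => ord_lt hc (order_bound ⟨c, hc⟩) (j := j) (hlen.symm ▸ hj)
  let z : ℕ → Bool := fun k => !w.testBit k && decide (rc x k / 2 % 2 = 1)
  let S : Finset ℕ := (Finset.range 56).filter fun k => z k = true
  have hcard : 4 * (S.card : ℤ) + 8 ≤ 16 := by
    have h1 : ∀ k ∈ Finset.range 56,
        ((4 * (z k).toNat + (w.testBit k).toNat : ℕ) : ℤ) ≤ rc x k ^ 2 := by
      intro k hk
      cases hb : w.testBit k
      · cases hz : z k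
        · simpa using sq_nonneg _
        · simp only [z, hb, Bool.not_false, Bool.true_and, decide_eq_true_eq] at hz
          have hev : rc x k % 2 = 0 := by
            rcases Int.emod_two_eq_zero_or_one (rc x k) with h | h
            · exact h
            · rw [(hodd k (Finset.mem_range.1 hk)).1 h] at hb; exact Bool.noConfusion hb
          have := odd_square hz
          have h2 : rc x k = 2 * (rc x k / 2) := by omega
          push_cast
          simp only [Bool.toNat_true, Bool.toNat_false, Nat.cast_one, Nat.cast_zero]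
          rw [h2]; nlinarith
      · simp only [z, hb, Bool.not_true, Bool.false_and]
        simpa using odd_square ((hodd k (Finset.mem_range.1 hk)).2 hb)
    have h2 := Finset.sum_le_sum h1
    rw [show ∑ k ∈ Finset.range 56, rc x k ^ 2 = NS x from rfl, hN, ← Nat.cast_sum, Finset.sum_add_distrib,
      ← Finset.mul_sum, show ∑ k ∈ Finset.range 56, (w.testBit k).toNat = wt w 56 from rfl, hwt,
      show ∑ k ∈ Finset.range 56, (z k).toNat = S.card by
        rw [Finset.card_filter]; exact Finset.sum_congr rfl fun k _ => by cases z k <;> simp] at h2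
    exact_mod_cast h2
  simp only [case8, Presented.allList_eq, List.all_eq_true, List.mem_range, force_eq, Bool.and_eq_true,
    decide_eq_true_eq, Bool.or_eq_true, Nat.blt_eq, Nat.ble_eq, beq_iff_eq, Bool.not_eq_true'] at h8
  obtain ⟨⟨⟨⟨-, hTlt⟩, hT0⟩, heq⟩, hpair⟩ := h8
  have hsyn : selXor (cCol c) z 56 = cT c := by
    refine Nat.eq_of_testBit_eq fun e => ?_
    by_cases he : e < cEqs c
    swap
    · have hp : 2 ^ cEqs c ≤ 2 ^ e := Nat.pow_le_pow_right (by norm_num) (not_lt.1 he)
      rw [Nat.testBit_lt_two_pow (lt_of_lt_of_le hTlt hp), Nat.testBit_lt_two_pow (lt_of_lt_of_le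
        (selXor_lt 56 fun k hk => (hpair k hk).1.1) hp)]
    obtain ⟨⟨hT', heven⟩, hcol⟩ := heq e he
    have hT : (∑ j ∈ Finset.range 8, selU (cSel c e) (cOrd c j)) % 4 =
        (bif (cT c).testBit e then 2 else 0) := by
      have := Nat.eq_of_beq_eq_true hT'; rw [natSum_eq] at this; simp only [selU_def] at this; exact this
    have h4 := sel_congr hx (cSel c e)
    have hsplit : ∀ k ∈ Finset.range 56, rc x k * (selU (cSel c e) k : ℤ) % 4 =
        ((bif w.testBit k then (selU (cSel c e) k : ℤ) else 0) +
          2 * (bif z k then (selU (cSel c e) k : ℤ) else 0)) % 4 := by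
      intro k hk
      have hk' := Finset.mem_range.1 hk
      cases hb : w.testBit k
      · have hev : rc x k % 2 = 0 := by
          rcases Int.emod_two_eq_zero_or_one (rc x k) with h | h
          · exact h
          · rw [(hodd k hk').1 h] at hb; exact Bool.noConfusion hb
        obtain ⟨y, hy⟩ : ∃ y, rc x k = 2 * y := ⟨rc x k / 2, by omega⟩
        rcases Int.emod_two_eq_zero_or_one y with h | h
        · have : z k = false := by simp [z, hb, hy, h]
          obtain ⟨t, rfl⟩ : ∃ t, y = 2 * t := ⟨y / 2, by omega⟩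
          rw [this, hy]
          simp only [cond_false, mul_zero, add_zero]
          rw [show 2 * (2 * t) * (selU (cSel c e) k : ℤ) = 4 * (t * selU (cSel c e) k) by ring]
          simp
        · have : z k = true := by simp [z, hb, hy, h]
          obtain ⟨t, rfl⟩ : ∃ t, y = 2 * t + 1 := ⟨y / 2, by omega⟩
          rw [this, hy]
          simp only [cond_false, cond_true, zero_add]
          rw [show 2 * (2 * t + 1) * (selU (cSel c e) k : ℤ) =
            2 * (selU (cSel c e) k : ℤ) + 4 * (t * selU (cSel c e) k) by ring, Int.add_mul_emod_self_left]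
      · have : z k = false := by simp [z, hb]
        obtain ⟨j, hj, ej⟩ := List.getElem_of_mem (((case_facts hc).2.2.2.1 k hk').1 hb)
        have hj8 : j < 8 := lt_of_lt_of_eq hj hlen
        have hev := heven j hj8
        rw [selU_def] at hev
        rw [cOrd, List.getD_eq_getElem _ _ hj, ej] at hev
        obtain ⟨u, hu⟩ : ∃ u : ℤ, (selU (cSel c e) k : ℤ) = 2 * u := ⟨(selU (cSel c e) k / 2 : ℕ), by omega⟩
        obtain ⟨t, ht⟩ : ∃ t, rc x k = 2 * t + 1 := ⟨rc x k / 2, by have := (hodd k hk').2 hb; omega⟩
        rw [this, hu, ht]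
        simp only [cond_true, cond_false, mul_zero, add_zero]
        rw [show (2 * t + 1) * (2 * u) = 2 * u + 4 * (t * u) by ring, Int.add_mul_emod_self_left]
    rw [Finset.sum_int_mod, Finset.sum_congr rfl hsplit, ← Finset.sum_int_mod, Finset.sum_add_distrib,
      ← Finset.mul_sum,
      sum_case hc (fun k => bif w.testBit k then (selU (cSel c e) k : ℤ) else 0) (by omega)
        (fun j hj => (hord (hlen ▸ hj)).1) (fun k _ hb => by rw [← hw] at hb; simp [hb]), hlen,
      Finset.sum_congr rfl (g := fun j => (selU (cSel c e) (cOrd c j) : ℤ)) fun j hj => by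
        rw [(hord (Finset.mem_range.1 hj)).2, cond_true]] at h4
    have hTz : (∑ j ∈ Finset.range 8, (selU (cSel c e) (cOrd c j) : ℤ)) % 4 =
        bif (cT c).testBit e then 2 else 0 := by
      rw [← Nat.cast_sum]
      cases hb : (cT c).testBit e <;> rw [hb] at hT <;> simp only [cond_true, cond_false] at hT ⊢ <;> omega
    have h2 : (∑ k ∈ Finset.range 56, (bif z k then (selU (cSel c e) k : ℤ) else 0)) % 2 =
        bif (cT c).testBit e then 1 else 0 := by
      cases hb : (cT c).testBit e <;> rw [hb] at hTz <;> simp only [cond_true, cond_false] at hTz ⊢ <;> omega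
    have h3 := cast_emod (∑ k ∈ Finset.range 56, (bif z k then (selU (cSel c e) k : ℤ) else 0))
    rw [Int.cast_sum, h2] at h3
    refine bz_inj _ _ ?_
    rw [testBit_selXor]
    refine Eq.trans ?_ (h3.trans ?_)
    · refine Finset.sum_congr rfl fun k hk => ?_
      rw [hcol k (Finset.mem_range.1 hk), bit_decide (selU_def (cSel c e) k)]
      cases z k
      · simp [bz]
      · simp only [cond_true, natCast_odd]
        simp [bz]
    · cases (cT c).testBit e <;> rfl
  have hS : ∀ k, k ∈ S ↔ k < 56 ∧ z k = true := fun k => by simp [S]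
  have hT0' : cT c ≠ 0 := fun h => by rw [h] at hT0; exact Bool.noConfusion hT0
  have hc2 : S.card ≤ 2 := by omega
  have hval : ∀ v, (∀ e, bz (Nat.testBit v e) = ∑ k ∈ S, bz ((cCol c k).testBit e)) → v = cT c := fun v hv => by
    rw [← hsyn]
    exact Nat.eq_of_testBit_eq fun e => bz_inj _ _ (by rw [hv, selXor_support _ _ S hS])
  interval_cases hn : S.card
  · rw [Finset.card_eq_zero] at hn
    exact hT0' (hval 0 fun e => by simp [hn, bz]).symm
  · obtain ⟨a, ha⟩ := Finset.card_eq_one.1 hn
    have ha' : a < 56 := ((hS a).1 (by simp [ha])).1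
    have h := hval (cCol c a) fun e => by simp [ha]
    have := (hpair a ha').1.2
    rw [h, Nat.beq_refl] at this
    exact Bool.noConfusion this
  · obtain ⟨a, b, hab, hS2⟩ := Finset.card_eq_two.1 hn
    have ha' : a < 56 := ((hS a).1 (by simp [hS2])).1
    have hb' : b < 56 := ((hS b).1 (by simp [hS2])).1
    have h := hval (cCol c a ^^^ cCol c b) fun e => by
      rw [hS2, Finset.sum_pair hab, Nat.testBit_xor, bz_xor]
    rcases Nat.lt_or_gt_of_ne hab with hlt | hlt
    · rcases (hpair a ha').2 b hb' with t | t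
      · omega
      · rw [h, Nat.beq_refl] at t; exact Bool.noConfusion t
    · rcases (hpair b hb').2 a ha' with t | t
      · omega
      · rw [Nat.xor_comm, h, Nat.beq_refl] at t; exact Bool.noConfusion t

theorem case0_ok {x : RuVec} (hx : x ∈ RuMin.span) (hN : NS x = 16)
    (heven : ∀ k, k < 56 → rc x k % 2 = 0) : ∃ m, m < 16240 ∧ x = pt m := by
  have hy : ∀ k, k < 56 → rc x k = 2 * (rc x k / 2) := fun k hk => by have := heven k hk; omega
  have hsum : ∑ k ∈ Finset.range 56, (rc x k / 2) ^ 2 = 4 := by
    have : NS x = 4 * ∑ k ∈ Finset.range 56, (rc x k / 2) ^ 2 := by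
      rw [NS, Finset.mul_sum]
      exact Finset.sum_congr rfl fun k hk => by
        conv_lhs => rw [hy k (Finset.mem_range.1 hk)]
        ring
    omega
  by_cases hbig : ∃ k, k < 56 ∧ 4 ≤ (rc x k / 2) ^ 2
  · obtain ⟨k, hk, h4⟩ := hbig
    rw [← Finset.add_sum_erase _ _ (Finset.mem_range.2 hk)] at hsum
    have hnn : 0 ≤ ∑ l ∈ (Finset.range 56).erase k, (rc x l / 2) ^ 2 := Finset.sum_nonneg fun l _ => sq_nonneg _
    have hzero := (Finset.sum_eq_zero_iff_of_nonneg fun l _ => sq_nonneg _).1
      (show ∑ l ∈ (Finset.range 56).erase k, (rc x l / 2) ^ 2 = 0 by omega)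
    have hk2 : rc x k / 2 = 2 ∨ rc x k / 2 = -2 :=
      sq_eq_sq_iff_eq_or_eq_neg.1 (show (rc x k / 2) ^ 2 = 2 ^ 2 by norm_num; omega)
    obtain ⟨s, hs⟩ : ∃ s : Fin 2, rc x k = if s = 0 then 4 else -4 := by
      have := hy k hk
      rcases hk2 with h | h
      · exact ⟨0, by rw [if_pos rfl]; omega⟩
      · exact ⟨1, by rw [if_neg (by decide)]; omega⟩
    obtain ⟨hm, hl⟩ := axis_cert ⟨k, hk⟩ s
    refine ⟨_, hm, ext_rc fun l hl' => ?_⟩
    rw [hl ⟨l, hl'⟩]
    by_cases hlk : l = k
    · subst hlk; rw [if_pos rfl, hs]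
    · rw [if_neg (by simpa [Fin.ext_iff] using hlk)]
      have h0 := hzero l (Finset.mem_erase.2 ⟨hlk, Finset.mem_range.2 hl'⟩)
      rw [sq, mul_self_eq_zero] at h0
      have := hy l hl'
      omega
  · push Not at hbig
    let z : ℕ → Bool := fun k => decide (rc x k / 2 % 2 = 1)
    let S : Finset ℕ := (Finset.range 56).filter fun k => z k = true
    have hS : ∀ k, k ∈ S ↔ k < 56 ∧ z k = true := fun k => by simp [S]
    have hval : ∀ k, k < 56 → (rc x k / 2) ^ 2 = ((z k).toNat : ℤ) := by
      intro k hk
      have h1 := hbig k hk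
      have h3 : -1 ≤ rc x k / 2 ∧ rc x k / 2 ≤ 1 := ⟨by nlinarith, by nlinarith⟩
      simp only [z]
      rcases (by omega : rc x k / 2 = -1 ∨ rc x k / 2 = 0 ∨ rc x k / 2 = 1) with h | h | h <;> rw [h] <;> rfl
    have hcard : S.card = 4 := by
      rw [Finset.sum_congr rfl fun k hk => hval k (Finset.mem_range.1 hk), ← Nat.cast_sum,
        show ∑ k ∈ Finset.range 56, (z k).toNat = S.card by
          rw [Finset.card_filter]; exact Finset.sum_congr rfl fun k _ => by cases z k <;> simp] at hsum
      exact_mod_cast hsum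
    have hsyn : selXor synN z 56 = 0 := by
      refine Nat.eq_of_testBit_eq fun r => ?_
      by_cases hr : r < 19
      swap
      · rw [Nat.testBit_lt_two_pow (lt_of_lt_of_le (selXor_lt 56 fun k hk => (syn_cert ⟨k, hk⟩).1)
          (Nat.pow_le_pow_right (by norm_num) (not_lt.1 hr))), Nat.zero_testBit]
      have h4 := row_congr hx hr
      rw [show ∑ k ∈ Finset.range 56, rc x k * (resD r k : ℤ) =
          2 * ∑ k ∈ Finset.range 56, rc x k / 2 * (resD r k : ℤ) by
        rw [Finset.mul_sum]
        exact Finset.sum_congr rfl fun k hk => by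
          conv_lhs => rw [hy k (Finset.mem_range.1 hk)]
          ring] at h4
      have h3 : ((∑ k ∈ Finset.range 56, rc x k / 2 * (resD r k : ℤ) : ℤ) : ZMod 2) = 0 :=
        (ZMod.intCast_zmod_eq_zero_iff_dvd _ 2).2 (by omega)
      rw [Int.cast_sum] at h3
      refine bz_inj _ _ ?_
      rw [testBit_selXor, Nat.zero_testBit, show bz false = 0 from rfl, ← h3]
      refine Finset.sum_congr rfl fun k hk => ?_
      rw [Int.cast_mul, natCast_odd, cast_emod, (syn_cert ⟨k, Finset.mem_range.1 hk⟩).2 ⟨r, hr⟩,
        ((row_cert ⟨r, hr⟩).2.1 ⟨k, Finset.mem_range.1 hk⟩).1]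
    obtain ⟨a, ha⟩ := Finset.card_pos.1 (show 0 < S.card by omega)
    have h3 : (S.erase a).card = 3 := by rw [Finset.card_erase_of_mem ha, hcard]
    obtain ⟨b, c, d, hbc, hbd, hcd, he⟩ := Finset.card_eq_three.1 h3
    have hb : b ∈ S.erase a := by rw [he]; simp
    have hc : c ∈ S.erase a := by rw [he]; simp
    have hd : d ∈ S.erase a := by rw [he]; simp
    rw [Finset.mem_erase] at hb hc hd
    have hx4 : synN a ^^^ synN b = synN c ^^^ synN d := by
      refine Nat.eq_of_testBit_eq fun e => bz_inj _ _ ?_
      have h0 := selXor_support synN z S hS e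
      rw [hsyn, ← Finset.insert_erase ha, Finset.sum_insert (Finset.notMem_erase a S), he,
        Finset.sum_insert (by simp [hbc, hbd]), Finset.sum_pair hcd, Nat.zero_testBit,
        show bz false = 0 from rfl] at h0
      rw [Nat.testBit_xor, Nat.testBit_xor, bz_xor, bz_xor]
      revert h0
      generalize bz ((synN a).testBit e) = p
      generalize bz ((synN b).testBit e) = q
      generalize bz ((synN c).testBit e) = r
      generalize bz ((synN d).testBit e) = s
      revert p q r s
      decide +kernel
    rcases pair_inj' (Ne.symm hb.1) ((hS a).1 ha).1 ((hS b).1 hb.2).1 hcd ((hS c).1 hc.2).1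
      ((hS d).1 hd.2).1 hx4 with h | h
    · exact absurd h.symm hc.1
    · exact absurd h.symm hd.1

/-! ### Conclusion -/

theorem light_cases : ∀ n, n < 1709 → ∀ x : RuVec, x ∈ RuMin.span → NS x = 16 →
    wordIdx x = lightT n → ∃ m, m < 16240 ∧ x = pt m := by
  intro n
  induction n using Nat.strong_induction_on with
  | _ n ih =>
    intro hn x hx hN hidx
    have hodd : ∀ k, k < 56 → (rc x k % 2 = 1 ↔ (lightW n).testBit k = true) := fun k hk => by
      rw [odd_iff hx hk, hidx, (word_facts hn).2]
    have h := checkBelow_spec edge_all n hn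
    simp only [edgeChk, force_eq, (natOps _ _).1, (natOps _ _).2.2.2.2.2.2] at h
    cases hlt : Nat.blt (lightE n) 8192
    · rw [hlt, cond_false, Bool.and_eq_true, Nat.blt_eq] at h
      have hn' := Nat.eq_of_beq_eq_true h.2
      obtain ⟨-, hwt, -, hmem, hcase⟩ := case_facts h.1
      rw [← hn'] at hodd
      rcases hcase with ⟨hl, h16⟩ | ⟨hl, h8⟩ | hl
      · exact case16_ok h.1 hl h16 hx hN hodd
      · exact (case8_ok h.1 hl h8 hx hN hodd).elim
      · refine case0_ok hx hN fun k hk => ?_
        rcases Int.emod_two_eq_zero_or_one (rc x k) with h' | h'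
        · exact h'
        · have := (hmem k hk).1 ((hodd k hk).1 h')
          rw [cLen, List.length_eq_zero_iff] at hl
          rw [hl] at this
          exact absurd this List.not_mem_nil
    · rw [hlt, cond_true, Bool.and_eq_true, Bool.and_eq_true, Nat.blt_eq, Nat.blt_eq] at h
      obtain ⟨⟨hp, ho⟩, hl⟩ := h
      let o : Fin 3 := ⟨lightE n / 2048, ho⟩
      have hy : opFun o x ∈ RuMin.span :=
        RuMin.lattice_le _ (opFun_mem _ (span_le_lattice hx))
      obtain ⟨m, hm, he⟩ := ih _ hp (by omega) (opFun o x) hy (by rw [NS_op, hN]) (by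
        refine wordIdx_eq (word_facts (by omega)).1 fun k hk => ?_
        have hbit := bit_eq (Nat.eq_of_beq_eq_true
          (Presented.checkBlock_spec hl k (Nat.zero_le _) (by omega) hk))
        have hpi : Nat.land (Nat.shiftRight (opPi.getD (lightE n / 2048) 0) (Nat.mul 8 k)) 255 =
            piN (lightE n / 2048) k := by
          show opPi.getD (lightE n / 2048) 0 >>> (8 * k) &&& 255 = _
          rw [piN, show (255 : ℕ) = 2 ^ 8 - 1 from rfl, Nat.and_two_pow_sub_one_eq_mod,
            Nat.shiftRight_eq_div_pow, pow_mul]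
          rfl
        rw [hpi] at hbit
        rw [(word_facts (by omega)).2, hbit]
        have hpk := (pi_cert o).2.1 ⟨k, hk⟩
        have hb : bz ((lightW n).testBit (piN o k)) = xb x (piN o k) := by
          rw [parity_eq hx hpk, hidx, (word_facts hn).2]
        rw [show bz ((lightW n).testBit (piN (lightE n / 2048) k)) = _ from hb, xb, xb]
        rcases rc_op o x hk with e | e <;> rw [e]
        rw [Int.cast_neg, ZMod.neg_eq_self_mod_two])
      exact op_preimage o hm he

/-- Every lattice vector of norm 16 is in the table. -/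
theorem exists_pt {x : RuVec} (hx : x ∈ RuMin.span) (hN : ruNorm x = 16) : ∃ m, m < 16240 ∧ x = pt m := by
  rw [ruNorm_eq] at hN
  have hw : wt (wordMask (wordIdx x)) 56 ≤ 16 := by
    have h : ((wt (wordMask (wordIdx x)) 56 : ℕ) : ℤ) ≤ NS x := by
      rw [wt, Nat.cast_sum]
      refine Finset.sum_le_sum fun k hk => ?_
      cases hb : (wordMask (wordIdx x)).testBit k
      · simpa using sq_nonneg _
      · simpa using odd_square ((odd_iff hx (Finset.mem_range.1 hk)).2 hb)
    omega
  have hm := light_mem (wordIdx_lt x) hw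
  rw [light_list, List.mem_map] at hm
  obtain ⟨n, hn, he⟩ := hm
  exact light_cases n (List.mem_range.1 hn) x hx hN he.symm

end Cfsg.Agent.RuAut
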