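import Cfsg.Agent.Lib.RuAut.Gens
import Cfsg.Agent.Lib.RuAut.DataScan
import Cfsg.Agent.Lib.RuAut.DataFix

/-!
# Signatures with respect to the base

An automorphism fixing the first `d` points of the base preserves the products with them.  The points with
the signature of the next base point are those of an orbit tree, and with all six the signature determines
22 further points which, with the base, span.
-/

set_option autoImplicit false
set_option maxRecDepth 20000

namespace Cfsg.Agent.RuAut

open Cfsg.Spor
open Cfsg.Agent.RuMin (num pos herm)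
open Cfsg.Agent.Presented (force force_eq allList allList_eq checkBelow checkBelow_spec checkBelow_of_block
  checkBlock checkBlock_join)

/-- The automorphism fixes the first `d` points of the base. -/
def Fixes (g : fourRu) (d : ℕ) : Prop := ∀ j, j < d → move g (bP j) = bP j

/-- The point of reference `j`. -/
def rP (j : ℕ) : ℕ := bif Nat.beq (j % 2) 0 then bP (j / 2) else shiftPhase (bP (j / 2)) 1

/-- The code of the zero vector. -/
noncomputable def zeroC : ℕ := Nat.mul 8 J56

/-- The references of the scan. -/
noncomputable def scanRefs : List ℕ :=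
  (List.range 56).map fun j => bif Nat.blt j 12 then ptc (rP j) else zeroC

theorem refs_cert : refRows = buildRefs scanRefs ∧ refSums = buildRefSums scanRefs ∧
    (∀ j : Fin 6, bP j < 16240) ∧ (∀ j : Fin 12, rP j < 16240) ∧ okN zeroC = true ∧
    ∀ p : RuIdx, dv zeroC p = 0 := by decide +kernel

/-- The signature of a point. -/
noncomputable def sigX (x : ℕ) : ℕ := force (ptc x) fun c => sigN refRows refSums c

/-- A lane of a signature. -/
noncomputable def lane (x j : ℕ) : ℕ :=
  ((herm (pt x) (dv (scanRefs.getD j 0))).re + 26416).toNat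

/-- Membership among the first `n` entries of a tree. -/
noncomputable def inT (T : Presented.NTree) (x : ℕ) : ℕ → Bool :=
  fun n => Nat.rec (motive := fun _ => Bool) false (fun t ih => Nat.beq (treeX T t) x || ih) n

/-- The position of a line in tree 1. -/
noncomputable def lev1P (j : ℕ) : ℕ := levPos1.get 13 j

/-- Membership in tree 1. -/
noncomputable def inT1 (x : ℕ) : Bool :=
  force (lev1P (Nat.div x 4)) fun t => Nat.blt t 2304 && Nat.beq (treeX levTab1 t) x

/-- The part of a signature given by the first `d` points of the base. -/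
noncomputable def sigPre (v d : ℕ) : ℕ := Nat.mod v (Nat.pow 2 (Nat.mul 896 (Nat.mul 2 d)))

/-- The target at level `d`. -/
def tgt (d : ℕ) : ℕ := scanTgt.getD d 0

theorem tgt_cert : ∀ d : Fin 6, sigPre (sigX (bP d)) d = tgt d := by decide +kernel

theorem fix_cert : allList (fun e => Nat.blt e.2 16240 && Nat.beq (sigX e.2) e.1) fixSigs = true := by
  decide +kernel

/-- The index of a fixed point with the hash of a signature. -/
noncomputable def fixI (v : ℕ) : ℕ := fixIdx.get 5 (Nat.mod v fixHash)

/-- A point is compared with the fixed point of the same hash. -/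
noncomputable def fixScan (v x : ℕ) : Bool :=
  force (fixI v) fun i => bif Nat.blt i 22 then
    (bif Nat.beq v (fixSigs.getD i (0, 0)).1 then Nat.beq x (fixSigs.getD i (0, 0)).2 else true) else true

theorem hash_cert : fixSigs.length = 22 ∧ ∀ i : Fin 22, fixI (fixSigs.getD i (0, 0)).1 = i := by decide +kernel

/-- Point `x` is in order. -/
noncomputable def scanChk (x : ℕ) : Bool :=
  force (sigX x) fun v =>
    (bif Nat.beq (sigPre v 1) (tgt 1) then inT1 x else true) &&
    (bif Nat.beq (sigPre v 2) (tgt 2) then inT levTab2 x 78 else true) &&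
    (bif Nat.beq (sigPre v 3) (tgt 3) then inT levTab3 x 2 else true) &&
    (bif Nat.beq (sigPre v 4) (tgt 4) then inT levTab4 x 25 else true) &&
    (bif Nat.beq (sigPre v 5) (tgt 5) then inT levTab5 x 4 else true) &&
    fixScan v x

theorem scan_block0 : checkBlock scanChk 16240 8 0 = true := by decide +kernel

theorem scan_block1 : checkBlock scanChk 16240 8 256 = true := by decide +kernel

theorem scan_block2 : checkBlock scanChk 16240 8 512 = true := by decide +kernel

theorem scan_block3 : checkBlock scanChk 16240 8 768 = true := by decide +kernel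

theorem scan_block4 : checkBlock scanChk 16240 8 1024 = true := by decide +kernel

theorem scan_block5 : checkBlock scanChk 16240 8 1280 = true := by decide +kernel

theorem scan_block6 : checkBlock scanChk 16240 8 1536 = true := by decide +kernel

theorem scan_block7 : checkBlock scanChk 16240 8 1792 = true := by decide +kernel

theorem scan_block8 : checkBlock scanChk 16240 8 2048 = true := by decide +kernel

theorem scan_block9 : checkBlock scanChk 16240 8 2304 = true := by decide +kernel

theorem scan_block10 : checkBlock scanChk 16240 8 2560 = true := by decide +kernel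

theorem scan_block11 : checkBlock scanChk 16240 8 2816 = true := by decide +kernel

theorem scan_block12 : checkBlock scanChk 16240 8 3072 = true := by decide +kernel

theorem scan_block13 : checkBlock scanChk 16240 8 3328 = true := by decide +kernel

theorem scan_block14 : checkBlock scanChk 16240 8 3584 = true := by decide +kernel

theorem scan_block15 : checkBlock scanChk 16240 8 3840 = true := by decide +kernel

theorem scan_block16 : checkBlock scanChk 16240 8 4096 = true := by decide +kernel

theorem scan_block17 : checkBlock scanChk 16240 8 4352 = true := by decide +kernel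

theorem scan_block18 : checkBlock scanChk 16240 8 4608 = true := by decide +kernel

theorem scan_block19 : checkBlock scanChk 16240 8 4864 = true := by decide +kernel

theorem scan_block20 : checkBlock scanChk 16240 8 5120 = true := by decide +kernel

theorem scan_block21 : checkBlock scanChk 16240 8 5376 = true := by decide +kernel

theorem scan_block22 : checkBlock scanChk 16240 8 5632 = true := by decide +kernel

theorem scan_block23 : checkBlock scanChk 16240 8 5888 = true := by decide +kernel

theorem scan_block24 : checkBlock scanChk 16240 8 6144 = true := by decide +kernel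

theorem scan_block25 : checkBlock scanChk 16240 8 6400 = true := by decide +kernel

theorem scan_block26 : checkBlock scanChk 16240 8 6656 = true := by decide +kernel

theorem scan_block27 : checkBlock scanChk 16240 8 6912 = true := by decide +kernel

theorem scan_block28 : checkBlock scanChk 16240 8 7168 = true := by decide +kernel

theorem scan_block29 : checkBlock scanChk 16240 8 7424 = true := by decide +kernel

theorem scan_block30 : checkBlock scanChk 16240 8 7680 = true := by decide +kernel

theorem scan_block31 : checkBlock scanChk 16240 8 7936 = true := by decide +kernel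

theorem scan_block32 : checkBlock scanChk 16240 8 8192 = true := by decide +kernel

theorem scan_block33 : checkBlock scanChk 16240 8 8448 = true := by decide +kernel

theorem scan_block34 : checkBlock scanChk 16240 8 8704 = true := by decide +kernel

theorem scan_block35 : checkBlock scanChk 16240 8 8960 = true := by decide +kernel

theorem scan_block36 : checkBlock scanChk 16240 8 9216 = true := by decide +kernel

theorem scan_block37 : checkBlock scanChk 16240 8 9472 = true := by decide +kernel

theorem scan_block38 : checkBlock scanChk 16240 8 9728 = true := by decide +kernel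

theorem scan_block39 : checkBlock scanChk 16240 8 9984 = true := by decide +kernel

theorem scan_block40 : checkBlock scanChk 16240 8 10240 = true := by decide +kernel

theorem scan_block41 : checkBlock scanChk 16240 8 10496 = true := by decide +kernel

theorem scan_block42 : checkBlock scanChk 16240 8 10752 = true := by decide +kernel

theorem scan_block43 : checkBlock scanChk 16240 8 11008 = true := by decide +kernel

theorem scan_block44 : checkBlock scanChk 16240 8 11264 = true := by decide +kernel

theorem scan_block45 : checkBlock scanChk 16240 8 11520 = true := by decide +kernel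

theorem scan_block46 : checkBlock scanChk 16240 8 11776 = true := by decide +kernel

theorem scan_block47 : checkBlock scanChk 16240 8 12032 = true := by decide +kernel

theorem scan_block48 : checkBlock scanChk 16240 8 12288 = true := by decide +kernel

theorem scan_block49 : checkBlock scanChk 16240 8 12544 = true := by decide +kernel

theorem scan_block50 : checkBlock scanChk 16240 8 12800 = true := by decide +kernel

theorem scan_block51 : checkBlock scanChk 16240 8 13056 = true := by decide +kernel

theorem scan_block52 : checkBlock scanChk 16240 8 13312 = true := by decide +kernel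

theorem scan_block53 : checkBlock scanChk 16240 8 13568 = true := by decide +kernel

theorem scan_block54 : checkBlock scanChk 16240 8 13824 = true := by decide +kernel

theorem scan_block55 : checkBlock scanChk 16240 8 14080 = true := by decide +kernel

theorem scan_block56 : checkBlock scanChk 16240 8 14336 = true := by decide +kernel

theorem scan_block57 : checkBlock scanChk 16240 8 14592 = true := by decide +kernel

theorem scan_block58 : checkBlock scanChk 16240 8 14848 = true := by decide +kernel

theorem scan_block59 : checkBlock scanChk 16240 8 15104 = true := by decide +kernel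

theorem scan_block60 : checkBlock scanChk 16240 8 15360 = true := by decide +kernel

theorem scan_block61 : checkBlock scanChk 16240 8 15616 = true := by decide +kernel

theorem scan_block62 : checkBlock scanChk 16240 8 15872 = true := by decide +kernel

theorem scan_block63 : checkBlock scanChk 16240 8 16128 = true := by decide +kernel

theorem scan_all : checkBelow scanChk 14 16240 = true :=
  checkBelow_of_block (by decide +kernel)
    (checkBlock_join 13 (checkBlock_join 12 (checkBlock_join 11 (checkBlock_join 10 (checkBlock_join 9
      (checkBlock_join 8 scan_block0 scan_block1) (checkBlock_join 8 scan_block2 scan_block3))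
      (checkBlock_join 9 (checkBlock_join 8 scan_block4 scan_block5) (checkBlock_join 8 scan_block6
      scan_block7))) (checkBlock_join 10 (checkBlock_join 9 (checkBlock_join 8 scan_block8 scan_block9)
      (checkBlock_join 8 scan_block10 scan_block11)) (checkBlock_join 9 (checkBlock_join 8 scan_block12
      scan_block13) (checkBlock_join 8 scan_block14 scan_block15)))) (checkBlock_join 11 (checkBlock_join
      10 (checkBlock_join 9 (checkBlock_join 8 scan_block16 scan_block17) (checkBlock_join 8 scan_block18
      scan_block19)) (checkBlock_join 9 (checkBlock_join 8 scan_block20 scan_block21) (checkBlock_join 8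
      scan_block22 scan_block23))) (checkBlock_join 10 (checkBlock_join 9 (checkBlock_join 8 scan_block24
      scan_block25) (checkBlock_join 8 scan_block26 scan_block27)) (checkBlock_join 9 (checkBlock_join 8
      scan_block28 scan_block29) (checkBlock_join 8 scan_block30 scan_block31))))) (checkBlock_join 12
      (checkBlock_join 11 (checkBlock_join 10 (checkBlock_join 9 (checkBlock_join 8 scan_block32
      scan_block33) (checkBlock_join 8 scan_block34 scan_block35)) (checkBlock_join 9 (checkBlock_join 8
      scan_block36 scan_block37) (checkBlock_join 8 scan_block38 scan_block39))) (checkBlock_join 10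
      (checkBlock_join 9 (checkBlock_join 8 scan_block40 scan_block41) (checkBlock_join 8 scan_block42
      scan_block43)) (checkBlock_join 9 (checkBlock_join 8 scan_block44 scan_block45) (checkBlock_join 8
      scan_block46 scan_block47)))) (checkBlock_join 11 (checkBlock_join 10 (checkBlock_join 9
      (checkBlock_join 8 scan_block48 scan_block49) (checkBlock_join 8 scan_block50 scan_block51))
      (checkBlock_join 9 (checkBlock_join 8 scan_block52 scan_block53) (checkBlock_join 8 scan_block54
      scan_block55))) (checkBlock_join 10 (checkBlock_join 9 (checkBlock_join 8 scan_block56 scan_block57)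
      (checkBlock_join 8 scan_block58 scan_block59)) (checkBlock_join 9 (checkBlock_join 8 scan_block60
      scan_block61) (checkBlock_join 8 scan_block62 scan_block63))))))

/-- The frame in terms of the base and the fixed points. -/
noncomputable def fixCombOK (k : ℕ) : Bool :=
  allList (fun e => Nat.blt e.1 16240 && memN e.1 (baseList ++ fixSigs.map Prod.snd)) (fixComb.getD k [])

theorem comb_cert : ∀ k : Fin 28, fixCombOK k = true ∧
    ∀ p : RuIdx, combPt (fixComb.getD k []) p = (fixDen : GaussianInt) * pt (fr k) p := by decide +kernel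

attribute [local irreducible] sigN refRows refSums ptc pt scanRefs bP rP tgt treeX lev1P fr fixComb fixDen
  fixSigs zeroC fixI

theorem ok_refs {j : ℕ} (hj : j < 56) :
    Ok (scanRefs.getD j 0) ∧
      dv (scanRefs.getD j 0) = if j < 12 then pt (rP j) else 0 := by
  have e : scanRefs.getD j 0 = bif Nat.blt j 12 then ptc (rP j) else zeroC := by
    with_unfolding_all
      rw [scanRefs, List.getD_eq_getElem _ _ (by simp [hj]), List.getElem_map, List.getElem_range]
  rw [e]
  by_cases h : j < 12
  · rw [show Nat.blt j 12 = true by rw [Nat.blt_eq]; exact h, cond_true, if_pos h]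
    exact ⟨ok_ptc (refs_cert.2.2.2.1 ⟨j, h⟩), by rw [pt]⟩
  · rw [show Nat.blt j 12 = false from Bool.eq_false_iff.2 (by rw [ne_eq, Nat.blt_eq]; exact h), cond_false,
      if_neg h]
    exact ⟨okN_spec refs_cert.2.2.2.2.1, funext refs_cert.2.2.2.2.2⟩

theorem refs_length : scanRefs.length = 56 := by
  with_unfolding_all simp [scanRefs]

theorem ok_refs' : ∀ a ∈ scanRefs, Ok a := fun a ha => by
  obtain ⟨k, hk, rfl⟩ := List.getElem_of_mem ha
  rw [← List.getD_eq_getElem _ 0 hk]
  exact (ok_refs (by rw [refs_length] at hk; exact hk)).1

theorem sigX_eq {x : ℕ} (hx : x < 16240) : sigX x = spk (lane x) 56 := by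
  rw [sigX, force_eq, refs_cert.1, refs_cert.2.1, sigN_spec refs_length ok_refs' (ok_ptc hx)]
  exact spk_congr fun j _ => by rw [lane, pt]

theorem lane_lt {x : ℕ} (hx : x < 16240) {j : ℕ} (hj : j < 56) : lane x j < 65536 := by
  have := herm_bound (ok_ptc hx) (ok_refs hj).1
  rw [lane, pt]
  omega

theorem spk_mod {f : ℕ → ℕ} {m n : ℕ} (h : ∀ l, l < m → f l < 65536) (hmn : m ≤ n) :
    spk f n % 65536 ^ (56 * m) = spk f m := by
  obtain ⟨r, rfl⟩ : ∃ r, n = m + r := ⟨n - m, by omega⟩
  rw [spk, spk, mul_add]
  exact (pk_split_div _ _ _ fun j hj => spd_lt h hj).1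

theorem sigPre_eq {x : ℕ} (hx : x < 16240) {d : ℕ} (hd : d ≤ 6) : sigPre (sigX x) d = spk (lane x) (2 * d) := by
  rw [sigPre, (natOps _ _).2.2.2.2.2.2, (natOps _ _).2.2.2.2.2.1, (natOps _ _).2.1, (natOps _ _).2.1,
    show 896 * (2 * d) = 16 * (56 * (2 * d)) by ring, two_pow_lane, sigX_eq hx]
  exact spk_mod (fun l hl => lane_lt hx (by omega)) (by omega)

theorem bP_lt {j : ℕ} (hj : j < 6) : bP j < 16240 := refs_cert.2.2.1 ⟨j, hj⟩

theorem rP_fixed {g : fourRu} {d : ℕ} (hg : Fixes g d) {j : ℕ} (hj : j < 2 * d) (hd : d ≤ 6) :
    move g (rP j) = rP j := by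
  have e : rP j = bif Nat.beq (j % 2) 0 then bP (j / 2) else shiftPhase (bP (j / 2)) 1 := by
    with_unfolding_all rfl
  rw [e]
  cases Nat.beq (j % 2) 0
  · rw [cond_false, move_shift g (bP_lt (by omega)), hg _ (by omega)]
  · rw [cond_true]; exact hg _ (by omega)

theorem lane_move {g : fourRu} {d : ℕ} (hg : Fixes g d) (hd : d ≤ 6) {x : ℕ} (hx : x < 16240) {j : ℕ}
    (hj : j < 2 * d) : lane (move g x) j = lane x j := by
  rw [lane, lane, (ok_refs (show j < 56 by omega)).2, if_pos (show j < 12 by omega)]
  conv_lhs => rw [← rP_fixed hg hj hd]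
  rw [herm_move g hx (refs_cert.2.2.2.1 ⟨j, by omega⟩)]

theorem sigPre_move {g : fourRu} {d : ℕ} (hg : Fixes g d) (hd : d ≤ 6) {x : ℕ} (hx : x < 16240) :
    sigPre (sigX (move g x)) d = sigPre (sigX x) d := by
  rw [sigPre_eq (move_lt g hx) hd, sigPre_eq hx hd]
  exact spk_congr fun j hj => lane_move hg hd hx hj

theorem sigX_move {g : fourRu} (hg : Fixes g 6) {x : ℕ} (hx : x < 16240) : sigX (move g x) = sigX x := by
  rw [sigX_eq (move_lt g hx), sigX_eq hx]
  refine spk_congr fun j hj => ?_
  by_cases h : j < 12
  · exact lane_move hg le_rfl hx (by omega)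
  · rw [lane, lane, (ok_refs hj).2, if_neg h]
    simp [herm]

theorem inT_spec {T : Presented.NTree} {x : ℕ} : ∀ {n : ℕ}, inT T x n = true → ∃ t, t < n ∧ treeX T t = x
  | 0, h => Bool.noConfusion h
  | n + 1, h => by
    change (Nat.beq (treeX T n) x || inT T x n) = true at h
    rw [Bool.or_eq_true] at h
    rcases h with h | h
    · exact ⟨n, by omega, Nat.eq_of_beq_eq_true h⟩
    · obtain ⟨t, ht, e⟩ := inT_spec h
      exact ⟨t, by omega, e⟩

theorem bif_true' {b x : Bool} (h : (bif b then x else true) = true) (hb : b = true) : x = true := by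
  subst hb; exact h

theorem scan_facts {x : ℕ} (hx : x < 16240) :
    (sigPre (sigX x) 1 = tgt 1 → ∃ t, t < 2304 ∧ treeX levTab1 t = x ∧ lev1P (x / 4) = t) ∧
    (sigPre (sigX x) 2 = tgt 2 → ∃ t, t < 78 ∧ treeX levTab2 t = x) ∧
    (sigPre (sigX x) 3 = tgt 3 → ∃ t, t < 2 ∧ treeX levTab3 t = x) ∧
    (sigPre (sigX x) 4 = tgt 4 → ∃ t, t < 25 ∧ treeX levTab4 t = x) ∧
    (sigPre (sigX x) 5 = tgt 5 → ∃ t, t < 4 ∧ treeX levTab5 t = x) ∧
    fixScan (sigX x) x = true := by
  have h := checkBelow_spec scan_all x hx
  simp only [scanChk, force_eq, Bool.and_eq_true] at h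
  obtain ⟨⟨⟨⟨⟨h1, h2⟩, h3⟩, h4⟩, h5⟩, h6⟩ := h
  refine ⟨fun e => ?_, fun e => ?_, fun e => ?_, fun e => ?_, fun e => ?_, h6⟩
  · have := bif_true' h1 (by rw [e]; exact Nat.beq_refl _)
    simp only [inT1, force_eq, (natOps _ _).1, Bool.and_eq_true, Nat.blt_eq] at this
    exact ⟨_, this.1, Nat.eq_of_beq_eq_true this.2, rfl⟩
  · exact inT_spec (bif_true' h2 (by rw [e]; exact Nat.beq_refl _))
  · exact inT_spec (bif_true' h3 (by rw [e]; exact Nat.beq_refl _))
  · exact inT_spec (bif_true' h4 (by rw [e]; exact Nat.beq_refl _))
  · exact inT_spec (bif_true' h5 (by rw [e]; exact Nat.beq_refl _))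

theorem fixScan_spec {v x : ℕ} (h : fixScan v x = true) {e : ℕ × ℕ} (he : e ∈ fixSigs) (hv : v = e.1) :
    x = e.2 := by
  obtain ⟨i, hi, rfl⟩ := List.getElem_of_mem he
  have hi' : i < 22 := by rw [hash_cert.1] at hi; exact hi
  have hh := hash_cert.2 ⟨i, hi'⟩
  simp only [List.getD_eq_getElem _ _ hi] at hh
  rw [fixScan, force_eq, hv, hh, show Nat.blt i 22 = true by rw [Nat.blt_eq]; exact hi', cond_true,
    List.getD_eq_getElem _ _ hi] at h
  exact Nat.eq_of_beq_eq_true (bif_true' h (Nat.beq_refl _))

theorem fixed_listed {g : fourRu} (hg : Fixes g 6) {x : ℕ} (hx : x ∈ baseList ++ fixSigs.map Prod.snd) :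
    move g x = x := by
  rcases List.mem_append.1 hx with h | h
  · obtain ⟨i, hi, rfl⟩ := List.getElem_of_mem h
    have hl : baseList.length = 6 := rfl
    have := hg i (by omega)
    have e : bP i = baseList[i] := by with_unfolding_all exact List.getD_eq_getElem _ _ hi
    rwa [e] at this
  · obtain ⟨e, he, rfl⟩ := List.mem_map.1 h
    have hc := fix_cert
    rw [allList_eq, List.all_eq_true] at hc
    have hc := hc e he
    rw [Bool.and_eq_true, Nat.blt_eq] at hc
    refine fixScan_spec (scan_facts (move_lt g hc.1)).2.2.2.2.2 he ?_
    rw [sigX_move hg hc.1]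
    exact Nat.eq_of_beq_eq_true hc.2

/-- A combination of points, in the lattice. -/
noncomputable def combV : List (ℕ × ℤ × ℤ) → ruLattice
  | [] => 0
  | e :: l => gsmul ⟨e.2.1, e.2.2⟩ (pv e.1) + combV l

theorem combV_spec (g : fourRu) : ∀ {l : List (ℕ × ℤ × ℤ)}, (∀ e ∈ l, e.1 < 16240 ∧ move g e.1 = e.1) →
    (g.1 (combV l)).1 = combPt l ∧ (combV l).1 = combPt l
  | [], _ => ⟨map_zero (gHom g), rfl⟩
  | e :: l, h => by
    obtain ⟨h1, h2⟩ := h e (List.mem_cons_self ..)
    obtain ⟨i1, i2⟩ := combV_spec g fun f hf => h f (List.mem_cons_of_mem _ hf)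
    constructor
    · rw [combV, g.2.1, show ((g.1 (gsmul ⟨e.2.1, e.2.2⟩ (pv e.1)) + g.1 (combV l) : ruLattice) : RuVec) =
        (g.1 (gsmul ⟨e.2.1, e.2.2⟩ (pv e.1))).1 + (g.1 (combV l)).1 from rfl, map_gsmul, (move_spec g h1).2, h2,
        i1, combPt]
    · rw [combV, show ((gsmul ⟨e.2.1, e.2.2⟩ (pv e.1) + combV l : ruLattice) : RuVec) =
        (gsmul ⟨e.2.1, e.2.2⟩ (pv e.1)).1 + (combV l).1 from rfl, gsmul_val, pv_val h1, i2, combPt]

theorem den_ne : (fixDen : GaussianInt) ≠ 0 := by
  rw [Nat.cast_ne_zero]
  with_unfolding_all decide +kernel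

theorem comb_facts {k : ℕ} (hk : k < 28) :
    (∀ e ∈ fixComb.getD k [], e.1 < 16240 ∧ e.1 ∈ baseList ++ fixSigs.map Prod.snd) ∧
      combPt (fixComb.getD k []) = (fixDen : GaussianInt) • pt (fr k) := by
  refine ⟨fun e he => ?_, funext (comb_cert ⟨k, hk⟩).2⟩
  have h := (comb_cert ⟨k, hk⟩).1
  rw [fixCombOK, allList_eq, List.all_eq_true] at h
  have h := h e he
  rw [Bool.and_eq_true, Nat.blt_eq] at h
  exact ⟨h.1, memN_spec h.2⟩

/-- Only the identity fixes the base. -/
theorem eq_one_of_fixes {g : fourRu} (hg : Fixes g 6) : g = 1 := by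
  refine ext_frame fun k hk => ?_
  have hx := fr_lt hk
  rw [move_one hx]
  obtain ⟨hp, hc⟩ := comb_facts hk
  obtain ⟨c1, c2⟩ := combV_spec g fun e he => ⟨(hp e he).1, fixed_listed hg (hp e he).2⟩
  refine move_eq hx hx (funext fun p => mul_left_cancel₀ den_ne ?_)
  rw [show combV (fixComb.getD k []) = gsmul (fixDen : GaussianInt) (pv (fr k)) from
    Subtype.ext (by rw [c2, hc, gsmul_val, pv_val hx]), map_gsmul, hc] at c1
  exact congrFun c1 p

end Cfsg.Agent.RuAut
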