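import Cfsg.Agent.Lib.RuAut.Strong
import Cfsg.Agent.Lib.RuAut.Scan

/-!
# The order of the automorphism group

A stabiliser chain of length six: the orbits have 16240, 2304, 78, 2, 25 and 4 points, and the group is
generated by `U`, `V` and the scalars.
-/

set_option autoImplicit false
set_option maxRecDepth 20000

namespace Cfsg.Agent.RuAut

open Cfsg.Spor
open Cfsg.Agent.Presented (force force_eq allList allList_eq checkBelow checkBelow_spec)

/-- The group generated by `U`, `V` and `i`. -/
def genGrp : Subgroup fourRu := Subgroup.closure {gel 0, gel 1, iel}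

theorem sel_mem_gen (s : ℕ) : sel s ∈ genGrp :=
  Subgroup.closure_mono (fun g hg => by
    rcases hg with rfl | rfl
    · exact Or.inl rfl
    · exact Or.inr (Or.inl rfl)) (sel_mem s)

theorem iel_mem_gen : iel ∈ genGrp := Subgroup.subset_closure (by simp)

/-- The stabiliser of the first `d` points of the base. -/
noncomputable def St (d : ℕ) (hd : d ≤ 6) : Subgroup fourRu where
  carrier := {g | Fixes g d}
  one_mem' := fun j hj => move_one (bP_lt (by omega))
  mul_mem' := by
    intro a b ha hb j hj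
    rw [move_mul _ _ (bP_lt (by omega)), hb j hj, ha j hj]
  inv_mem' := by
    intro a ha j hj
    conv_lhs => rw [← ha j hj]
    exact move_inv a (bP_lt (by omega))

theorem mem_St {d : ℕ} {hd : d ≤ 6} {g : fourRu} : g ∈ St d hd ↔ Fixes g d := Iff.rfl

theorem fixes_mul {g h : fourRu} {d : ℕ} (hd : d ≤ 6) (hg : Fixes g d) (hh : Fixes h d) : Fixes (g * h) d :=
  (St d hd).mul_mem hg hh

theorem fixes_succ {g : fourRu} {d : ℕ} : Fixes g (d + 1) ↔ Fixes g d ∧ move g (bP d) = bP d := by
  constructor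
  · exact fun h => ⟨fun j hj => h j (by omega), h d (by omega)⟩
  · rintro ⟨h1, h2⟩ j hj
    rcases Nat.lt_succ_iff_lt_or_eq.1 hj with h | rfl
    · exact h1 j h
    · exact h2

/-! ### The certificates of the orbit trees -/

theorem lev_gens : ∀ d : Fin 6, ∀ g ∈ lGens d, g < 30 ∧
    ∀ j : Fin 6, j < d → appPt (gRow g) (gSum g) (bP j) (bP j) = true := by decide +kernel

theorem lev1_all : checkBelow (treeChk levTab1 (lGens 1) (bP 1)) 12 2304 = true := by decide +kernel

theorem lev2_all : checkBelow (treeChk levTab2 (lGens 2) (bP 2)) 7 78 = true := by decide +kernel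

theorem lev3_all : checkBelow (treeChk levTab3 (lGens 3) (bP 3)) 2 2 = true := by decide +kernel

theorem lev4_all : checkBelow (treeChk levTab4 (lGens 4) (bP 4)) 5 25 = true := by decide +kernel

theorem lev5_all : checkBelow (treeChk levTab5 (lGens 5) (bP 5)) 3 4 = true := by decide +kernel

/-- An entry of tree 1 sits at the position of its line and has the signature of the second base point. -/
noncomputable def t1Chk (t : ℕ) : Bool :=
  force (treeX levTab1 t) fun x => Nat.beq (lev1P (Nat.div x 4)) t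

theorem t1_all : checkBelow t1Chk 12 2304 = true := by decide +kernel

/-- The entries of a tree differ from the earlier ones. -/
noncomputable def distinctChk (T : Presented.NTree) (n : ℕ) : Bool :=
  allList (fun t => !(inT T (treeX T t) t)) (List.range n)

theorem distinct_all : distinctChk levTab2 78 = true ∧ distinctChk levTab3 2 = true ∧
    distinctChk levTab4 25 = true ∧ distinctChk levTab5 4 = true := by decide +kernel

attribute [local irreducible] treeX lev1P lGens bP appPt gRow gSum sigX tgt sigPre inT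

theorem inT_complete {T : Presented.NTree} {x : ℕ} : ∀ {n t : ℕ}, t < n → treeX T t = x → inT T x n = true
  | n + 1, t, ht, e => by
    have hu : inT T x (n + 1) = (Nat.beq (treeX T n) x || inT T x n) := by with_unfolding_all rfl
    rw [hu, Bool.or_eq_true]
    rcases Nat.lt_succ_iff_lt_or_eq.1 ht with h | rfl
    · exact Or.inr (inT_complete h e)
    · left; rw [e]; exact Nat.beq_refl x

theorem distinct_inj {T : Presented.NTree} {n : ℕ} (h : distinctChk T n = true) {s t : ℕ} (hs : s < n)
    (ht : t < n) (e : treeX T s = treeX T t) : s = t := by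
  rw [distinctChk, allList_eq, List.all_eq_true] at h
  rcases lt_trichotomy s t with hlt | heq | hlt
  · have := h t (List.mem_range.2 ht)
    rw [inT_complete hlt e] at this
    exact Bool.noConfusion this
  · exact heq
  · have := h s (List.mem_range.2 hs)
    rw [inT_complete hlt e.symm] at this
    exact Bool.noConfusion this

theorem sel_fixes {d g : ℕ} (hd : d < 6) (hg : g ∈ lGens d) : g < 30 ∧ Fixes (sel g) d := by
  obtain ⟨h1, h2⟩ := lev_gens ⟨d, hd⟩ g hg
  exact ⟨h1, fun j hj => move_sel h1 (bP_lt (by omega)) (h2 ⟨j, by omega⟩ hj)⟩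

theorem tree_reach {T : Presented.NTree} {d k n : ℕ} (hd : d < 6) (r : ℕ) (hr : r < 16240)
    (h : checkBelow (treeChk T (lGens d) r) k n = true) :
    ∀ t, t < n → treeX T t < 16240 ∧ ∃ g ∈ genGrp, Fixes g d ∧ move g r = treeX T t := by
  refine tree_induct h (fun x => ∃ g ∈ genGrp, Fixes g d ∧ move g r = x)
    ⟨1, genGrp.one_mem, fun j hj => move_one (bP_lt (by omega)), move_one hr⟩ ?_
  rintro s hs - x y hx ⟨g, hgm, hgf, rfl⟩ happ
  obtain ⟨hs30, hsf⟩ := sel_fixes hd hs
  exact ⟨sel s * g, genGrp.mul_mem (sel_mem_gen s) hgm, fixes_mul (by omega) hsf hgf,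
    by rw [move_mul _ _ hr, move_sel hs30 hx happ]⟩

theorem reach0 {x : ℕ} (hx : x < 16240) : ∃ g ∈ genGrp, move g (bP 0) = x := by
  have hb : bP 0 < 16240 := bP_lt (by norm_num)
  refine line_induct (fun x => ∃ g ∈ genGrp, move g (bP 0) = x) ⟨1, genGrp.one_mem, move_one hb⟩ ?_ ?_ hx
  · intro y a hy hP
    induction a with
    | zero =>
      obtain ⟨g, hg, e⟩ := hP
      exact ⟨g, hg, by rw [e]; unfold shiftPhase; omega⟩
    | succ a ih =>
      obtain ⟨g, hg, e⟩ := ih
      refine ⟨iel * g, genGrp.mul_mem iel_mem_gen hg, ?_⟩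
      rw [move_mul _ _ hb, e, move_iel (shiftPhase_lt hy)]
      unfold shiftPhase
      omega
  · rintro s hs - y z hy ⟨g, hg, rfl⟩ happ
    exact ⟨sel s * g, genGrp.mul_mem (sel_mem_gen s) hg, by
      rw [move_mul _ _ hb, move_sel (sel_fixes (by norm_num) hs).1 hy happ]⟩

/-- The orbit length at level `d`. -/
def levN : ℕ → ℕ
  | 0 => 16240
  | 1 => 2304
  | 2 => 78
  | 3 => 2
  | 4 => 25
  | 5 => 4
  | _ => 1

/-- The orbit at level `d`. -/
noncomputable def levX : ℕ → ℕ → ℕ
  | 0, t => t
  | 1, t => treeX levTab1 t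
  | 2, t => treeX levTab2 t
  | 3, t => treeX levTab3 t
  | 4, t => treeX levTab4 t
  | _, t => treeX levTab5 t

theorem lev_reach : ∀ d, d < 6 → ∀ t, t < levN d →
    levX d t < 16240 ∧ ∃ g ∈ genGrp, Fixes g d ∧ move g (bP d) = levX d t
  | 0, _, t, ht => ⟨ht, by
    obtain ⟨g, hg, e⟩ := reach0 (x := t) ht
    exact ⟨g, hg, fun j hj => absurd hj (by omega), e⟩⟩
  | 1, h, t, ht => tree_reach h _ (bP_lt h) lev1_all t ht
  | 2, h, t, ht => tree_reach h _ (bP_lt h) lev2_all t ht
  | 3, h, t, ht => tree_reach h _ (bP_lt h) lev3_all t ht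
  | 4, h, t, ht => tree_reach h _ (bP_lt h) lev4_all t ht
  | 5, h, t, ht => tree_reach h _ (bP_lt h) lev5_all t ht
  | n + 6, h, _, _ => absurd h (by omega)

theorem lev_inj : ∀ d, d < 6 → ∀ s t, s < levN d → t < levN d → levX d s = levX d t → s = t
  | 0, _, _, _, _, _, e => e
  | 1, _, s, t, hs, ht, e => by
    have h1 := checkBelow_spec t1_all s hs
    have h2 := checkBelow_spec t1_all t ht
    rw [t1Chk, force_eq] at h1 h2
    rw [← Nat.eq_of_beq_eq_true h1, ← Nat.eq_of_beq_eq_true h2]
    exact congrArg (fun x => lev1P (Nat.div x 4)) e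
  | 2, _, _, _, hs, ht, e => distinct_inj distinct_all.1 hs ht e
  | 3, _, _, _, hs, ht, e => distinct_inj distinct_all.2.1 hs ht e
  | 4, _, _, _, hs, ht, e => distinct_inj distinct_all.2.2.1 hs ht e
  | 5, _, _, _, hs, ht, e => distinct_inj distinct_all.2.2.2 hs ht e
  | n + 6, h, _, _, _, _, _ => absurd h (by omega)

theorem lev_complete : ∀ d, d < 6 → ∀ g : fourRu, Fixes g d → ∃ t, t < levN d ∧ levX d t = move g (bP d) := by
  intro d hd g hg
  have hy := move_lt g (bP_lt hd)
  have hsig : sigPre (sigX (move g (bP d))) d = tgt d :=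
    (sigPre_move hg (by omega) (bP_lt hd)).trans (tgt_cert ⟨d, hd⟩)
  obtain ⟨s1, s2, s3, s4, s5, -⟩ := scan_facts hy
  rcases (by omega : d = 0 ∨ d = 1 ∨ d = 2 ∨ d = 3 ∨ d = 4 ∨ d = 5) with rfl | rfl | rfl | rfl | rfl | rfl
  · exact ⟨_, hy, rfl⟩
  · obtain ⟨t, ht, e, -⟩ := s1 hsig; exact ⟨t, ht, e⟩
  · obtain ⟨t, ht, e⟩ := s2 hsig; exact ⟨t, ht, e⟩
  · obtain ⟨t, ht, e⟩ := s3 hsig; exact ⟨t, ht, e⟩
  · obtain ⟨t, ht, e⟩ := s4 hsig; exact ⟨t, ht, e⟩
  · obtain ⟨t, ht, e⟩ := s5 hsig; exact ⟨t, ht, e⟩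

attribute [local irreducible] levX levN

/-- A representative for each point of the orbit. -/
noncomputable def repr' (d : ℕ) (hd : d < 6) (t : Fin (levN d)) : fourRu :=
  Classical.choose (lev_reach d hd t t.isLt).2

theorem repr_spec (d : ℕ) (hd : d < 6) (t : Fin (levN d)) :
    repr' d hd t ∈ genGrp ∧ Fixes (repr' d hd t) d ∧ move (repr' d hd t) (bP d) = levX d t :=
  Classical.choose_spec (lev_reach d hd t t.isLt).2

theorem repr_inv_mem {d : ℕ} (hd : d < 6) {t : Fin (levN d)} {g : fourRu} (hg : Fixes g d)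
    (e : levX d t = move g (bP d)) : Fixes ((repr' d hd t)⁻¹ * g) (d + 1) := by
  obtain ⟨-, h2, h3⟩ := repr_spec d hd t
  refine fixes_succ.2 ⟨fixes_mul (by omega) ((St d (by omega)).inv_mem h2) hg, ?_⟩
  rw [move_mul _ _ (bP_lt hd), ← e, ← h3, move_inv _ (bP_lt hd)]

theorem card_step (d : ℕ) (hd : d < 6) :
    Nat.card (St d (by omega)) = levN d * Nat.card (St (d + 1) (by omega)) := by
  let f : Fin (levN d) × St (d + 1) (by omega) → St d (by omega) := fun p =>
    ⟨repr' d hd p.1 * p.2.1, fixes_mul (by omega) (repr_spec d hd p.1).2.1 (fixes_succ.1 p.2.2).1⟩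
  have hf : Function.Bijective f := by
    constructor
    · rintro ⟨s, a⟩ ⟨t, b⟩ e
      have e' : repr' d hd s * a.1 = repr' d hd t * b.1 := congrArg Subtype.val e
      have hm := congrArg (fun g => move g (bP d)) e'
      simp only [move_mul _ _ (bP_lt hd)] at hm
      rw [(fixes_succ.1 a.2).2, (fixes_succ.1 b.2).2, (repr_spec d hd s).2.2, (repr_spec d hd t).2.2] at hm
      obtain rfl : s = t := Fin.ext (lev_inj d hd s t s.isLt t.isLt hm)
      exact Prod.ext rfl (Subtype.ext (mul_left_cancel e'))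
    · intro g
      obtain ⟨t, ht, e⟩ := lev_complete d hd g.1 g.2
      exact ⟨⟨⟨t, ht⟩, ⟨_, repr_inv_mem hd g.2 (t := ⟨t, ht⟩) e⟩⟩, Subtype.ext (mul_inv_cancel_left _ _)⟩
  rw [← Nat.card_congr (Equiv.ofBijective f hf), Nat.card_prod, Nat.card_eq_fintype_card (α := Fin (levN d)),
    Fintype.card_fin]

theorem St_six : St 6 le_rfl = ⊥ :=
  (Subgroup.eq_bot_iff_forall _).2 fun _ hg => eq_one_of_fixes hg

theorem St_zero : St 0 (by norm_num) = ⊤ :=
  (Subgroup.eq_top_iff' _).2 fun _ j hj => absurd hj (by omega)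

/-- The order of the automorphism group. -/
theorem card_fourRu : Nat.card fourRu = 583704576000 := by
  have h0 : Nat.card (St 0 (by norm_num)) = Nat.card fourRu := by rw [St_zero]; exact Subgroup.card_top
  have h6 : Nat.card (St 6 le_rfl) = 1 := by rw [St_six]; exact Subgroup.card_bot
  rw [← h0, card_step 0 (by norm_num), card_step 1 (by norm_num), card_step 2 (by norm_num),
    card_step 3 (by norm_num), card_step 4 (by norm_num), card_step 5 (by norm_num), h6]
  with_unfolding_all rfl

instance finite_fourRu : Finite fourRu :=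
  Nat.finite_of_card_ne_zero (by rw [card_fourRu]; norm_num)

theorem St_le (d : ℕ) (hd : d ≤ 6) : St d hd ≤ genGrp := by
  intro g hg
  induction h : 6 - d generalizing d g with
  | zero =>
    obtain rfl : d = 6 := by omega
    rw [eq_one_of_fixes hg]
    exact genGrp.one_mem
  | succ n ih =>
    have hd' : d < 6 := by omega
    obtain ⟨t, ht, e⟩ := lev_complete d hd' g hg
    have := ih (d + 1) (by omega) (repr_inv_mem hd' hg (t := ⟨t, ht⟩) e) (by omega)
    have h2 := genGrp.mul_mem (repr_spec d hd' ⟨t, ht⟩).1 this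
    rwa [mul_inv_cancel_left] at h2

/-- `U`, `V` and `i` generate. -/
theorem genGrp_eq : genGrp = ⊤ :=
  (Subgroup.eq_top_iff' _).2 fun _ => St_le 0 (by norm_num) (fun j hj => absurd hj (by omega))

end Cfsg.Agent.RuAut
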