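import Cfsg.Agent.Lib.RuAut.Simple
import Cfsg.Agent.Lib.RuAut.DataOut
import Cfsg.Agent.Lib.RuAut.DataOutOrbit

/-!
# Relations, orbits and products used for the automorphisms of the Rudvalis group
-/

set_option autoImplicit false
set_option maxRecDepth 20000

namespace Cfsg.Agent.RuAut

open Cfsg.Spor
open Cfsg.Agent.RuMin (num pos herm)
open Cfsg.Agent.Presented (force force_eq allList allList_eq checkBelow checkBelow_spec checkBelow_of_block
  checkBlock checkBlock_join)

/-! ### One product -/

/-- The real part of a product of two coded vectors, shifted. -/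
noncomputable def kd (a b : ℕ) : ℕ :=
  Nat.sub (Nat.add (Nat.mod (Nat.div (Nat.mul a (rev b)) (Nat.pow 2 880)) 65536) 30000)
    (Nat.mul 8 (Nat.add (Nat.mod a 65535) (Nat.mod b 65535)))

/-- The same for two points. -/
noncomputable def kdP (x y : ℕ) : ℕ := force (ptc x) fun a => force (ptc y) fun b => kd a b

theorem kd_spec {a b : ℕ} (ha : Ok a) (hb : Ok b) :
    kd a b = ((herm (dv a) (dv b)).re + 26416).toNat := by
  have h : Nat.mul a (rev b) = pk (conv (dgt a) (fun k => dgt b (55 - k)) 56 56) 111 := by
    conv_lhs => rw [← pk_dgt 56 a ha.1, rev_eq]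
    exact pk_prod _ _ 56 56 111 (by norm_num)
  have hlt : ∀ m, m < 111 → conv (dgt a) (fun k => dgt b (55 - k)) 56 56 m < 65536 := fun m _ => by
    refine lt_of_le_of_lt (Finset.sum_le_card_nsmul _ _ 144 fun k hk => ?_) (by simp)
    have h1 := ha.2 k (Finset.mem_range.1 hk)
    split
    · have h2 := hb.2 (55 - (m - k)) (by omega)
      exact le_trans (Nat.mul_le_mul h1.2 h2.2) (by norm_num)
    · norm_num
  have hd := dgt_pk 111 _ hlt 55
  rw [if_pos (by norm_num), ← h] at hd
  have hc : conv (dgt a) (fun k => dgt b (55 - k)) 56 56 55 =
      ∑ k ∈ Finset.range 56, dgt a k * dgt b k := by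
    refine Finset.sum_congr rfl fun k hk => ?_
    have := Finset.mem_range.1 hk
    simp only [if_pos (show k ≤ 55 ∧ 55 - k < 56 by omega), show 55 - (55 - k) = k by omega]
  rw [hc] at hd
  rw [kd, (natOps _ _).2.2.2.2.1, (natOps _ _).2.2.2.1, (natOps _ _).2.1, (natOps _ _).2.1,
    (natOps _ _).2.2.2.1, (natOps _ _).2.2.2.2.2.2, (natOps _ _).2.2.2.2.2.2, (natOps _ _).2.2.2.2.2.2,
    (natOps _ _).1, (natOps _ _).2.2.2.2.2.1,
    show (880 : ℕ) = 16 * 55 from rfl, two_pow_lane, ← (natOps _ _).2.1,
    show Nat.mul a (rev b) / 65536 ^ 55 % 65536 = dgt (Nat.mul a (rev b)) 55 from rfl, hd,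
    mod_sum ha, mod_sum hb, herm_re]
  have he : ∑ k ∈ Finset.range 56, rc (dv a) k * rc (dv b) k =
      ∑ k ∈ Finset.range 56, ((dgt a k : ℤ) * dgt b k - 8 * dgt a k - 8 * dgt b k + 64) :=
    Finset.sum_congr rfl fun k hk => by
      rw [rc_dv _ (Finset.mem_range.1 hk), rc_dv _ (Finset.mem_range.1 hk)]; ring
  have sx := Finset.sum_le_card_nsmul (Finset.range 56) (fun k => dgt a k) 12
    fun k hk => (ha.2 k (Finset.mem_range.1 hk)).2
  have sy := Finset.sum_le_card_nsmul (Finset.range 56) (fun k => dgt b k) 12
    fun k hk => (hb.2 k (Finset.mem_range.1 hk)).2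
  simp only [smul_eq_mul, Finset.card_range] at sx sy
  rw [he, Finset.sum_add_distrib, Finset.sum_sub_distrib, Finset.sum_sub_distrib, ← Finset.mul_sum,
    ← Finset.mul_sum]
  simp only [← Nat.cast_mul, ← Nat.cast_sum, Finset.sum_const, Finset.card_range, nsmul_eq_mul]
  omega

theorem kdP_eq {x y : ℕ} (hx : x < 16240) (hy : y < 16240) :
    kdP x y = ((herm (pt x) (pt y)).re + 26416).toNat := by
  rw [kdP, force_eq, force_eq, kd_spec (ok_ptc hx) (ok_ptc hy)]
  rfl

/-! ### Relations -/

/-- `n` copies of a letter. -/
def rep (n i : ℕ) : List ℕ := List.replicate n i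

/-- Two words differ by a scalar. -/
noncomputable def eqChk (v w : List ℕ) (a : ℕ) : Bool :=
  allList (fun k => Nat.beq (pEval v (fr k)) (shiftPhase (pEval w (fr k)) a)) (List.range 28) &&
    allList (fun i => Nat.blt i 4) (v ++ w)

theorem eqChk_spec {v w : List ℕ} {a : ℕ} (h : eqChk v w a = true) : pWord v = iel ^ a * pWord w := by
  simp only [eqChk, allList_eq, List.all_eq_true, List.mem_range, Bool.and_eq_true, Nat.blt_eq,
    List.mem_append] at h
  refine ext_frame fun k hk => ?_
  rw [pEval_spec (fun i hi => h.2 i (.inl hi)) (fr_lt hk), move_mul _ _ (fr_lt hk),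
    move_iel_pow a (move_lt _ (fr_lt hk)), pEval_spec (fun i hi => h.2 i (.inr hi)) (fr_lt hk),
    Nat.eq_of_beq_eq_true (h.1 k hk)]

theorem rel_Z : eqChk [2, 2] [] 0 = true := by decide +kernel

theorem rel_F : eqChk (rep 7 3) [] 0 = true := by decide +kernel

theorem rel_ZF : eqChk [3, 2] [2, 3] 0 = true := by decide +kernel

theorem rel_VF : eqChk [3, 1] [1, 3] 0 = true := by decide +kernel

theorem rel_VZ : eqChk [2, 1] [1, 2] 2 = true := by decide +kernel

theorem rel_FU : eqChk [0, 3] (3 :: rep 16 0) 0 = true := by decide +kernel

theorem rel_ZU : eqChk [0, 2] (2 :: rep 28 0) 0 = true := by decide +kernel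

/-- The word of the first relator in terms of `u ^ k` and the image of `v`. -/
def relA (k : ℕ) (v : List ℕ) : List ℕ := (List.replicate 15 (v ++ rep k 0)).flatten

/-- The word of the second relator. -/
def relB (k : ℕ) (v : List ℕ) : List ℕ :=
  (List.replicate 20 (v ++ rep (3 * k) 0 ++ v ++ rep k 0)).flatten

theorem relA_one : eqChk (relA 1 [1]) [] 1 = true := by decide +kernel

theorem relB_one : eqChk (relB 1 [1]) [] 0 = true := by decide +kernel

/-- A word moves the line of the first frame point. -/
noncomputable def moves (w : List ℕ) : Bool :=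
  allList (fun i => Nat.blt i 4) w && !(Nat.beq (pEval w (fr 0) / 4) (fr 0 / 4))

theorem bad_cases : moves (relA 1 [2, 1]) = true ∧ moves (relA 2 [1]) = true ∧
    moves (relB 2 [2, 1]) = true ∧ moves [0] = true ∧ moves [2] = true ∧ moves [3] = true := by
  decide +kernel

/-! ### The orbit of the base point under `U` -/

theorem uPts_cert : ∀ i : Fin 29, uPts.getD i 0 = pEval (rep i 0) (bP 0) := by decide +kernel

theorem uPts_len : uPts.length = 29 := by decide +kernel

/-- The lines of the orbit. -/
def uLines : List ℕ := uPts.map (· / 4)

/-- A line with the same products as the base line is in the orbit. -/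
noncomputable def uScan (j : ℕ) : Bool :=
  force (Nat.mul 4 j) fun x =>
    bif Nat.beq (kdP x (shiftPhase (pEval (rep 2 0) x) 1)) (uTgt.getD 0 0) then
      bif Nat.beq (kdP x (shiftPhase (pEval (rep 3 0) x) 1)) (uTgt.getD 1 0) then
        bif Nat.beq (kdP x (pEval (rep 4 0) x)) (uTgt.getD 2 0) then memN j uLines else true
      else true
    else true

theorem uTgt_cert : kdP (bP 0) (shiftPhase (pEval (rep 2 0) (bP 0)) 1) = uTgt.getD 0 0 ∧
    kdP (bP 0) (shiftPhase (pEval (rep 3 0) (bP 0)) 1) = uTgt.getD 1 0 ∧
    kdP (bP 0) (pEval (rep 4 0) (bP 0)) = uTgt.getD 2 0 := by decide +kernel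

/-- The frame in terms of the orbit. -/
noncomputable def uCombOK (k : ℕ) : Bool :=
  allList (fun e => Nat.blt e.1 16240 && memN e.1 uPts) (uComb.getD k [])

theorem uComb_cert : ∀ k : Fin 28, uCombOK k = true ∧
    ∀ p : RuIdx, combPt (uComb.getD k []) p = (uDen : GaussianInt) * pt (fr k) p := by decide +kernel

/-! ### The centraliser of `Z` and `F` -/

/-- The words `F ^ k` and `Z F ^ k`. -/
def hWord (h : ℕ) : List ℕ := rep (h % 7) 3 ++ rep (h / 7) 2

/-- The words representing the centraliser of `Z` and `F`. -/
def cWord (e : ℕ) : List ℕ := rep (e % 7) 3 ++ ([[], [2], [1], [2, 1]].getD (e / 7) [])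

theorem cPts_cert : cPts.length = 28 ∧ cPt0 < 16240 ∧ cPt1 < 16240 ∧
    (∀ h : Fin 14, cPts.getD h 0 = pEval (hWord h) cPt0 ∧ cPts.getD (14 + h) 0 = pEval (hWord h) cPt1) := by
  decide +kernel

theorem cLines_cert : cLines.length = 28 ∧
    ∀ e : Fin 28, cLines.getD e 0 = pEval (cWord e) cPt0 / 4 := by decide +kernel

/-- A line with the same products as that of the first point is in the list. -/
noncomputable def cScan (j : ℕ) : Bool :=
  force (Nat.mul 4 j) fun x =>
    bif Nat.beq (kdP x (pEval (rep 1 3) x)) (cTgt.getD 0 0) then
      bif Nat.beq (kdP x (shiftPhase (pEval (rep 2 3) x) 1)) (cTgt.getD 1 0) then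
        bif Nat.beq (kdP x (shiftPhase (pEval (rep 3 3) x) 1)) (cTgt.getD 2 0) then memN j cLines else true
      else true
    else true

theorem cTgt_cert : kdP cPt0 (pEval (rep 1 3) cPt0) = cTgt.getD 0 0 ∧
    kdP cPt0 (shiftPhase (pEval (rep 2 3) cPt0) 1) = cTgt.getD 1 0 ∧
    kdP cPt0 (shiftPhase (pEval (rep 3 3) cPt0) 1) = cTgt.getD 2 0 := by decide +kernel

theorem cNonorth : (Nat.beq (kdP cPt0 (pEval [2] cPt0)) 26416 &&
    Nat.beq (kdP cPt0 (shiftPhase (pEval [2] cPt0) 1)) 26416) = false := by decide +kernel

/-- The references for the second point. -/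
noncomputable def cRefs : List ℕ :=
  (List.range 56).map fun j => bif Nat.blt j 14 then ptc (cPts.getD j 0)
    else bif Nat.blt j 28 then ptc (shiftPhase (cPts.getD (j - 14) 0) 1) else zeroC

theorem cRefs_cert : cRefRows = buildRefs cRefs ∧ cRefSums = buildRefSums cRefs ∧
    sigN cRefRows cRefSums (ptc cPt1) = cSig := by decide +kernel

/-- Only the second point has its signature. -/
noncomputable def cSigChk (x : ℕ) : Bool :=
  force (ptc x) fun c => bif Nat.beq (sigN cRefRows cRefSums c) cSig then Nat.beq x cPt1 else true

/-- The frame in terms of the images of the two points. -/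
noncomputable def cCombOK (k : ℕ) : Bool :=
  allList (fun e => Nat.blt e.1 16240 && memN e.1 cPts) (cComb.getD k [])

theorem cComb_cert : ∀ k : Fin 28, cCombOK k = true ∧
    ∀ p : RuIdx, combPt (cComb.getD k []) p = (cDen : GaussianInt) * pt (fr k) p := by decide +kernel

/-! ### The scans -/

/-- The line at a position of an orbit order. -/
noncomputable def ordLine (T : Presented.NTree) (t : ℕ) : ℕ := Nat.mod (T.get 40 t) 65536

/-- Position `t` of an orbit order: a representative passing `scan`, or the image of an earlier line. -/
noncomputable def ordChk (T : Presented.NTree) (letters : List ℕ) (scan : ℕ → Bool) (t : ℕ) : Bool :=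
  force (T.get 40 t) fun e => force (Nat.mod e 65536) fun j => force (Nat.div e 4294967296) fun i =>
    force (Nat.mod (Nat.div e 65536) 65536) fun p => Nat.blt j 4060 &&
      (bif Nat.beq i 255 then scan j else
        Nat.blt p t && memN i letters && Nat.blt i 4 &&
          Nat.beq (Nat.div (pImg i (Nat.mul 4 (ordLine T p))) 4) j)

/-- Line `j` occurs at its position. -/
noncomputable def posChk (T P : Presented.NTree) (j : ℕ) : Bool :=
  force (P.get 12 j) fun t => Nat.blt t 4060 && Nat.beq (ordLine T t) j

theorem uOrder_all : checkBelow (ordChk uOrder [0] uScan) 12 4060 = true := by decide +kernel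

theorem uPos_all : checkBelow (posChk uOrder uPos) 12 4060 = true := by decide +kernel

theorem cOrder_all : checkBelow (ordChk cOrder [1, 2, 3] cScan) 12 4060 = true := by decide +kernel

theorem cPos_all : checkBelow (posChk cOrder cPos) 12 4060 = true := by decide +kernel

/-- The lines of the orbit are carried to each other by `U`. -/
theorem uLines_closed : ∀ i : Fin 29, memN (pImg 0 (4 * uLines.getD i 0) / 4) uLines = true := by
  decide +kernel

/-- The listed lines are carried to each other by `V`, `Z` and `F`. -/
theorem cLines_closed : ∀ i : Fin 3, ∀ e : Fin 28,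
    memN (pImg (i.val + 1) (4 * cLines.getD e 0) / 4) cLines = true := by decide +kernel

/-! ### The signature scan -/

theorem cSigChk_block0 : checkBlock cSigChk 16240 8 0 = true := by decide +kernel

theorem cSigChk_block1 : checkBlock cSigChk 16240 8 256 = true := by decide +kernel

theorem cSigChk_block2 : checkBlock cSigChk 16240 8 512 = true := by decide +kernel

theorem cSigChk_block3 : checkBlock cSigChk 16240 8 768 = true := by decide +kernel

theorem cSigChk_block4 : checkBlock cSigChk 16240 8 1024 = true := by decide +kernel

theorem cSigChk_block5 : checkBlock cSigChk 16240 8 1280 = true := by decide +kernel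

theorem cSigChk_block6 : checkBlock cSigChk 16240 8 1536 = true := by decide +kernel

theorem cSigChk_block7 : checkBlock cSigChk 16240 8 1792 = true := by decide +kernel

theorem cSigChk_block8 : checkBlock cSigChk 16240 8 2048 = true := by decide +kernel

theorem cSigChk_block9 : checkBlock cSigChk 16240 8 2304 = true := by decide +kernel

theorem cSigChk_block10 : checkBlock cSigChk 16240 8 2560 = true := by decide +kernel

theorem cSigChk_block11 : checkBlock cSigChk 16240 8 2816 = true := by decide +kernel

theorem cSigChk_block12 : checkBlock cSigChk 16240 8 3072 = true := by decide +kernel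

theorem cSigChk_block13 : checkBlock cSigChk 16240 8 3328 = true := by decide +kernel

theorem cSigChk_block14 : checkBlock cSigChk 16240 8 3584 = true := by decide +kernel

theorem cSigChk_block15 : checkBlock cSigChk 16240 8 3840 = true := by decide +kernel

theorem cSigChk_block16 : checkBlock cSigChk 16240 8 4096 = true := by decide +kernel

theorem cSigChk_block17 : checkBlock cSigChk 16240 8 4352 = true := by decide +kernel

theorem cSigChk_block18 : checkBlock cSigChk 16240 8 4608 = true := by decide +kernel

theorem cSigChk_block19 : checkBlock cSigChk 16240 8 4864 = true := by decide +kernel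

theorem cSigChk_block20 : checkBlock cSigChk 16240 8 5120 = true := by decide +kernel

theorem cSigChk_block21 : checkBlock cSigChk 16240 8 5376 = true := by decide +kernel

theorem cSigChk_block22 : checkBlock cSigChk 16240 8 5632 = true := by decide +kernel

theorem cSigChk_block23 : checkBlock cSigChk 16240 8 5888 = true := by decide +kernel

theorem cSigChk_block24 : checkBlock cSigChk 16240 8 6144 = true := by decide +kernel

theorem cSigChk_block25 : checkBlock cSigChk 16240 8 6400 = true := by decide +kernel

theorem cSigChk_block26 : checkBlock cSigChk 16240 8 6656 = true := by decide +kernel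

theorem cSigChk_block27 : checkBlock cSigChk 16240 8 6912 = true := by decide +kernel

theorem cSigChk_block28 : checkBlock cSigChk 16240 8 7168 = true := by decide +kernel

theorem cSigChk_block29 : checkBlock cSigChk 16240 8 7424 = true := by decide +kernel

theorem cSigChk_block30 : checkBlock cSigChk 16240 8 7680 = true := by decide +kernel

theorem cSigChk_block31 : checkBlock cSigChk 16240 8 7936 = true := by decide +kernel

theorem cSigChk_block32 : checkBlock cSigChk 16240 8 8192 = true := by decide +kernel

theorem cSigChk_block33 : checkBlock cSigChk 16240 8 8448 = true := by decide +kernel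

theorem cSigChk_block34 : checkBlock cSigChk 16240 8 8704 = true := by decide +kernel

theorem cSigChk_block35 : checkBlock cSigChk 16240 8 8960 = true := by decide +kernel

theorem cSigChk_block36 : checkBlock cSigChk 16240 8 9216 = true := by decide +kernel

theorem cSigChk_block37 : checkBlock cSigChk 16240 8 9472 = true := by decide +kernel

theorem cSigChk_block38 : checkBlock cSigChk 16240 8 9728 = true := by decide +kernel

theorem cSigChk_block39 : checkBlock cSigChk 16240 8 9984 = true := by decide +kernel

theorem cSigChk_block40 : checkBlock cSigChk 16240 8 10240 = true := by decide +kernel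

theorem cSigChk_block41 : checkBlock cSigChk 16240 8 10496 = true := by decide +kernel

theorem cSigChk_block42 : checkBlock cSigChk 16240 8 10752 = true := by decide +kernel

theorem cSigChk_block43 : checkBlock cSigChk 16240 8 11008 = true := by decide +kernel

theorem cSigChk_block44 : checkBlock cSigChk 16240 8 11264 = true := by decide +kernel

theorem cSigChk_block45 : checkBlock cSigChk 16240 8 11520 = true := by decide +kernel

theorem cSigChk_block46 : checkBlock cSigChk 16240 8 11776 = true := by decide +kernel

theorem cSigChk_block47 : checkBlock cSigChk 16240 8 12032 = true := by decide +kernel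

theorem cSigChk_block48 : checkBlock cSigChk 16240 8 12288 = true := by decide +kernel

theorem cSigChk_block49 : checkBlock cSigChk 16240 8 12544 = true := by decide +kernel

theorem cSigChk_block50 : checkBlock cSigChk 16240 8 12800 = true := by decide +kernel

theorem cSigChk_block51 : checkBlock cSigChk 16240 8 13056 = true := by decide +kernel

theorem cSigChk_block52 : checkBlock cSigChk 16240 8 13312 = true := by decide +kernel

theorem cSigChk_block53 : checkBlock cSigChk 16240 8 13568 = true := by decide +kernel

theorem cSigChk_block54 : checkBlock cSigChk 16240 8 13824 = true := by decide +kernel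

theorem cSigChk_block55 : checkBlock cSigChk 16240 8 14080 = true := by decide +kernel

theorem cSigChk_block56 : checkBlock cSigChk 16240 8 14336 = true := by decide +kernel

theorem cSigChk_block57 : checkBlock cSigChk 16240 8 14592 = true := by decide +kernel

theorem cSigChk_block58 : checkBlock cSigChk 16240 8 14848 = true := by decide +kernel

theorem cSigChk_block59 : checkBlock cSigChk 16240 8 15104 = true := by decide +kernel

theorem cSigChk_block60 : checkBlock cSigChk 16240 8 15360 = true := by decide +kernel

theorem cSigChk_block61 : checkBlock cSigChk 16240 8 15616 = true := by decide +kernel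

theorem cSigChk_block62 : checkBlock cSigChk 16240 8 15872 = true := by decide +kernel

theorem cSigChk_block63 : checkBlock cSigChk 16240 8 16128 = true := by decide +kernel

theorem cSigChk_all : checkBelow cSigChk 14 16240 = true :=
  checkBelow_of_block (by decide +kernel)
    (checkBlock_join 13 (checkBlock_join 12 (checkBlock_join 11 (checkBlock_join 10 (checkBlock_join 9
      (checkBlock_join 8 cSigChk_block0 cSigChk_block1) (checkBlock_join 8 cSigChk_block2 cSigChk_block3))
      (checkBlock_join 9 (checkBlock_join 8 cSigChk_block4 cSigChk_block5) (checkBlock_join 8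
      cSigChk_block6 cSigChk_block7))) (checkBlock_join 10 (checkBlock_join 9 (checkBlock_join 8
      cSigChk_block8 cSigChk_block9) (checkBlock_join 8 cSigChk_block10 cSigChk_block11)) (checkBlock_join
      9 (checkBlock_join 8 cSigChk_block12 cSigChk_block13) (checkBlock_join 8 cSigChk_block14
      cSigChk_block15)))) (checkBlock_join 11 (checkBlock_join 10 (checkBlock_join 9 (checkBlock_join 8
      cSigChk_block16 cSigChk_block17) (checkBlock_join 8 cSigChk_block18 cSigChk_block19))
      (checkBlock_join 9 (checkBlock_join 8 cSigChk_block20 cSigChk_block21) (checkBlock_join 8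
      cSigChk_block22 cSigChk_block23))) (checkBlock_join 10 (checkBlock_join 9 (checkBlock_join 8
      cSigChk_block24 cSigChk_block25) (checkBlock_join 8 cSigChk_block26 cSigChk_block27))
      (checkBlock_join 9 (checkBlock_join 8 cSigChk_block28 cSigChk_block29) (checkBlock_join 8
      cSigChk_block30 cSigChk_block31))))) (checkBlock_join 12 (checkBlock_join 11 (checkBlock_join 10
      (checkBlock_join 9 (checkBlock_join 8 cSigChk_block32 cSigChk_block33) (checkBlock_join 8
      cSigChk_block34 cSigChk_block35)) (checkBlock_join 9 (checkBlock_join 8 cSigChk_block36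
      cSigChk_block37) (checkBlock_join 8 cSigChk_block38 cSigChk_block39))) (checkBlock_join 10
      (checkBlock_join 9 (checkBlock_join 8 cSigChk_block40 cSigChk_block41) (checkBlock_join 8
      cSigChk_block42 cSigChk_block43)) (checkBlock_join 9 (checkBlock_join 8 cSigChk_block44
      cSigChk_block45) (checkBlock_join 8 cSigChk_block46 cSigChk_block47)))) (checkBlock_join 11
      (checkBlock_join 10 (checkBlock_join 9 (checkBlock_join 8 cSigChk_block48 cSigChk_block49)
      (checkBlock_join 8 cSigChk_block50 cSigChk_block51)) (checkBlock_join 9 (checkBlock_join 8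
      cSigChk_block52 cSigChk_block53) (checkBlock_join 8 cSigChk_block54 cSigChk_block55)))
      (checkBlock_join 10 (checkBlock_join 9 (checkBlock_join 8 cSigChk_block56 cSigChk_block57)
      (checkBlock_join 8 cSigChk_block58 cSigChk_block59)) (checkBlock_join 9 (checkBlock_join 8
      cSigChk_block60 cSigChk_block61) (checkBlock_join 8 cSigChk_block62 cSigChk_block63))))))

end Cfsg.Agent.RuAut
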