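import Cfsg.Agent.Lib.RuAut.OutCheck
import Cfsg.Prelude.Def_KGroupFacts

/-!
# Every automorphism of the Rudvalis group is inner

After an inner automorphism an automorphism fixes `⟨u⟩` with `u` of order 29, then `z` and `f` normalising
it, and then sends `v` to an involution of their centraliser; two relators decide the images.
-/

set_option autoImplicit false
set_option maxRecDepth 20000

namespace Cfsg.Agent.RuAut

open Cfsg.Spor
open Cfsg.Agent.RuMin (num pos herm)
open Cfsg.Agent.Presented (force force_eq allList allList_eq checkBelow checkBelow_spec)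

attribute [local irreducible] pImg pEval pg kdP sigN ptc pt fr bP uPts uTgt uDen uComb uLines cPts cPt0 cPt1
  cLines cTgt cRefRows cRefSums cSig cDen cComb uScan cScan cSigChk uOrder uPos cOrder cPos ordLine cRefs

/-! ### Generalities -/

theorem shift_zero (y : ℕ) : shiftPhase y 0 = y := by unfold shiftPhase; omega

theorem pWord_rep (i : ℕ) : ∀ n, pWord (rep n i) = pg i ^ n
  | 0 => rfl
  | n + 1 => by rw [rep, List.replicate_succ, pWord_cons, ← rep, pWord_rep i n, pow_succ]

theorem rep_lt {n i : ℕ} (hi : i < 4) : ∀ j ∈ rep n i, j < 4 := fun j hj => by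
  rw [rep, List.mem_replicate] at hj; omega

theorem pEval_rep {n i x : ℕ} (hi : i < 4) (hx : x < 16240) : pEval (rep n i) x = move (pg i ^ n) x := by
  rw [← pWord_rep, pEval_spec (rep_lt hi) hx]

theorem iel_pow_four : iel ^ 4 = 1 :=
  ext_move fun x hx => by rw [move_iel_pow 4 hx, move_one hx, shift_mod (by norm_num)]

theorem orderOf_iel : orderOf iel = 4 := by rw [← Nat.card_zpowers]; exact card_scalars

theorem iel_pow_comm (g : fourRu) (a : ℕ) : g * iel ^ a = iel ^ a * g :=
  ((show Commute g iel from iel_central g).pow_right a).eq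

theorem toRu_pow_iel (a : ℕ) : toRu (iel ^ a) = 1 := by rw [map_pow, toRu_iel, one_pow]

theorem toRu_eq {g h : fourRu} (e : toRu g = toRu h) : ∃ a : ℕ, g = iel ^ a * h := by
  have hm : g * h⁻¹ ∈ Subgroup.zpowers iel := by
    rw [← center_eq, ← QuotientGroup.eq_one_iff]
    show toRu (g * h⁻¹) = 1
    rw [map_mul, map_inv, e, mul_inv_cancel]
  haveI : Finite fourRu := finite_fourRu
  obtain ⟨a, ha⟩ := mem_powers_iff_mem_zpowers.2 hm
  exact ⟨a, by rw [show iel ^ a = g * h⁻¹ from ha, inv_mul_cancel_right]⟩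

theorem exact_commute {g h : fourRu} {n : ℕ} (hn : h ^ n = 1) (hcop : Nat.Coprime 4 n)
    (e : toRu g * toRu h = toRu h * toRu g) : g * h = h * g := by
  rw [← map_mul, ← map_mul] at e
  obtain ⟨a, ha⟩ := toRu_eq e
  have h1 : g * h * g⁻¹ = iel ^ a * h := by rw [ha]; group
  have h2 : (g * h * g⁻¹) ^ n = (iel ^ a * h) ^ n := by rw [h1]
  rw [conj_pow, hn, mul_one, mul_inv_cancel, (show Commute (iel ^ a) h from (iel_pow_comm h a).symm).mul_pow,
    hn, mul_one, ← pow_mul, eq_comm, ← orderOf_dvd_iff_pow_eq_one, orderOf_iel] at h2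
  obtain ⟨c, rfl⟩ := hcop.dvd_of_dvd_mul_right h2
  rw [ha, pow_mul, iel_pow_four, one_pow, one_mul]

theorem move_comm {g h : fourRu} (e : g * h = h * g) {x : ℕ} (hx : x < 16240) :
    move g (move h x) = move h (move g x) := by
  rw [← move_mul _ _ hx, e, move_mul _ _ hx]

theorem kd_comm {g h : fourRu} (e : g * h = h * g) {x : ℕ} (hx : x < 16240) (d : ℕ) :
    kdP (move g x) (shiftPhase (move h (move g x)) d) = kdP x (shiftPhase (move h x) d) := by
  have hy := move_lt h hx
  rw [← move_comm e hx, ← move_shift g hy, kdP_eq (move_lt g hx) (move_lt g (shiftPhase_lt hy)),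
    kdP_eq hx (shiftPhase_lt hy), herm_move g hx (shiftPhase_lt hy)]

theorem eq_one_of_comb {g : fourRu} {den : ℕ} (hden : (den : GaussianInt) ≠ 0)
    (comb : ℕ → List (ℕ × ℤ × ℤ))
    (h : ∀ k, k < 28 → (∀ e ∈ comb k, e.1 < 16240 ∧ move g e.1 = e.1) ∧
      combPt (comb k) = (den : GaussianInt) • pt (fr k)) : g = 1 := by
  refine ext_frame fun k hk => ?_
  have hx := fr_lt hk
  rw [move_one hx]
  obtain ⟨hp, hc⟩ := h k hk
  obtain ⟨c1, c2⟩ := combV_spec g hp
  refine move_eq hx hx (funext fun p => mul_left_cancel₀ hden ?_)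
  rw [show combV (comb k) = gsmul (den : GaussianInt) (pv (fr k)) from
    Subtype.ext (by rw [c2, hc, gsmul_val, pv_val hx]), map_gsmul, hc] at c1
  exact congrFun c1 p

theorem line_pImg {i j : ℕ} (hi : i < 4) (hj : j < 4060) :
    lineHom (pg i) (ln (4 * j)) = ln (pImg i (4 * j)) := by
  rw [lineHom_ln _ (show 4 * j < 16240 by omega), pImg_spec hi (by omega)]

theorem line_back {i j : ℕ} (hi : i < 4) (hj : j < 4060) {y : ℕ} (hy : y < 16240)
    (h : y / 4 = pImg i (4 * j) / 4) : move (pg i)⁻¹ y / 4 = j := by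
  have hp : pImg i (4 * j) < 16240 := by
    rw [← pImg_spec hi (show 4 * j < 16240 by omega)]; exact move_lt _ (by omega)
  have e : ln y = lineHom (pg i) (ln (4 * j)) := by rw [line_pImg hi hj]; exact ln_line hy hp h
  have e2 := lineHom_ln (pg i)⁻¹ hy
  rw [e, ← Equiv.Perm.mul_apply, ← map_mul, inv_mul_cancel, map_one, Equiv.Perm.one_apply] at e2
  have e3 := congrArg Fin.val e2
  rw [ln_val (show 4 * j < 16240 by omega), ln_val (move_lt _ hy)] at e3
  omega

theorem ord_induct {T P : Presented.NTree} {letters : List ℕ} {scan : ℕ → Bool}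
    (hT : checkBelow (ordChk T letters scan) 12 4060 = true)
    (hP : checkBelow (posChk T P) 12 4060 = true) (Q : ℕ → Prop)
    (hroot : ∀ j, j < 4060 → scan j = true → Q j)
    (hstep : ∀ i ∈ letters, i < 4 → ∀ j, j < 4060 → Q j → Q (pImg i (4 * j) / 4)) :
    ∀ j, j < 4060 → Q j := by
  have hlin : ∀ t, ordLine T t = T.get 40 t % 65536 := fun t => by with_unfolding_all rfl
  have key : ∀ t, t < 4060 → ordLine T t < 4060 ∧ Q (ordLine T t) := by
    intro t
    induction t using Nat.strong_induction_on with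
    | _ t ih =>
      intro ht
      have h := checkBelow_spec hT t ht
      simp only [ordChk, force_eq, (natOps _ _).1, (natOps _ _).2.1, (natOps _ _).2.2.2.2.2.2,
        Bool.and_eq_true, Nat.blt_eq] at h
      rw [← hlin t] at h
      obtain ⟨hj, h⟩ := h
      refine ⟨hj, ?_⟩
      cases hb : Nat.beq (T.get 40 t / 4294967296) 255
      · rw [hb, cond_false] at h
        simp only [Bool.and_eq_true, Nat.blt_eq] at h
        obtain ⟨⟨⟨hp, hm⟩, hi⟩, he⟩ := h
        rw [← Nat.eq_of_beq_eq_true he]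
        obtain ⟨hpl, hq⟩ := ih _ hp (by omega)
        exact hstep _ (memN_spec hm) hi _ hpl hq
      · rw [hb, cond_true] at h
        exact hroot _ hj h
  intro j hj
  have h := checkBelow_spec hP j hj
  simp only [posChk, force_eq, Bool.and_eq_true, Nat.blt_eq] at h
  rw [← Nat.eq_of_beq_eq_true h.2]
  exact (key _ h.1).2

theorem memN_complete {a : ℕ} : ∀ {l : List ℕ}, a ∈ l → memN a l = true
  | b :: l, h => by
    have hu : memN a (b :: l) = (Nat.beq a b || memN a l) := rfl
    rw [hu, Bool.or_eq_true]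
    rcases List.mem_cons.1 h with rfl | h
    · exact .inl (Nat.beq_refl _)
    · exact .inr (memN_complete h)

theorem moves_spec {w : List ℕ} (h : moves w = true) : toRu (pWord w) ≠ 1 := by
  simp only [moves, allList_eq, List.all_eq_true, Bool.and_eq_true, Nat.blt_eq, Bool.not_eq_true'] at h
  obtain ⟨h1, h2⟩ := h
  intro he
  have hc : pWord w ∈ Subgroup.center fourRu := (QuotientGroup.eq_one_iff _).1 he
  rw [ker_lineHom, MonoidHom.mem_ker] at hc
  have hx := fr_lt (show 0 < 28 by norm_num)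
  have e := congrArg Fin.val (lineHom_ln (pWord w) hx)
  rw [hc, Equiv.Perm.one_apply, ln_val hx, ln_val (move_lt _ hx), pEval_spec h1 hx] at e
  rw [← e, Nat.beq_refl] at h2
  exact Bool.noConfusion h2

theorem eq_toRu {v w : List ℕ} {a : ℕ} (h : eqChk v w a = true) : toRu (pWord v) = toRu (pWord w) := by
  rw [eqChk_spec h, map_mul, toRu_pow_iel, one_mul]

/-! ### The four elements -/

/-- The element of order 29. -/
noncomputable def ru : Ru := toRu (pg 0)

/-- The involution generating with `ru`. -/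
noncomputable def rv : Ru := toRu (pg 1)

/-- The involution inverting `ru`. -/
noncomputable def rz : Ru := toRu (pg 2)

/-- The element of order 7 normalising `ru`. -/
noncomputable def rf : Ru := toRu (pg 3)

theorem ru_pow : ru ^ 29 = 1 := by rw [ru, ← map_pow, U_pow, map_one]

theorem rv_sq : rv * rv = 1 := by rw [rv, ← map_mul, V_sq, map_one]

theorem Z_sq : pg 2 * pg 2 = 1 := by
  have h := eqChk_spec rel_Z
  simpa [pWord, wprod, mul_assoc] using h

theorem F_pow : pg 3 ^ 7 = 1 := by
  have h := eqChk_spec rel_F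
  rw [pWord_rep, pow_zero, one_mul] at h
  exact h.trans rfl

theorem rz_sq : rz * rz = 1 := by rw [rz, ← map_mul, Z_sq, map_one]

theorem rf_pow : rf ^ 7 = 1 := by rw [rf, ← map_pow, F_pow, map_one]

theorem rz_rf : rz * rf = rf * rz := by
  have h := eq_toRu rel_ZF
  simpa [pWord, wprod, rz, rf] using h

theorem rv_rf : rv * rf = rf * rv := by
  have h := eq_toRu rel_VF
  simpa [pWord, wprod, rv, rf] using h

theorem rv_rz : rv * rz = rz * rv := by
  have h := eq_toRu rel_VZ
  simpa [pWord, wprod, rv, rz] using h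

theorem rf_ru : rf * ru = ru ^ 16 * rf := by
  have h := eq_toRu rel_FU
  rw [pWord_cons 3, pWord_rep, map_mul, map_pow] at h
  simpa [pWord, wprod, ru, rf] using h

theorem rz_ru : rz * ru = ru ^ 28 * rz := by
  have h := eq_toRu rel_ZU
  rw [pWord_cons 2, pWord_rep, map_mul, map_pow] at h
  simpa [pWord, wprod, ru, rz] using h

theorem one_word (i : ℕ) : pWord [i] = pg i := one_mul (pg i)

theorem ru_ne : ru ≠ 1 := by rw [ru, ← one_word]; exact moves_spec bad_cases.2.2.2.1

theorem rz_ne : rz ≠ 1 := by rw [rz, ← one_word]; exact moves_spec bad_cases.2.2.2.2.1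

theorem rf_ne : rf ≠ 1 := by rw [rf, ← one_word]; exact moves_spec bad_cases.2.2.2.2.2

theorem orderOf_ru : orderOf ru = 29 := by
  haveI : Fact (Nat.Prime 29) := ⟨by norm_num⟩
  exact orderOf_eq_prime ru_pow ru_ne

theorem orderOf_rf : orderOf rf = 7 := by
  haveI : Fact (Nat.Prime 7) := ⟨by norm_num⟩
  exact orderOf_eq_prime rf_pow rf_ne

/-! ### The centraliser of `ru` -/

theorem uLines_mem {g : fourRu} (hg : g * pg 0 = pg 0 * g) : move g (bP 0) / 4 ∈ uLines := by
  have key : ∀ j, j < 4060 → ∀ g : fourRu, g * pg 0 = pg 0 * g → move g (bP 0) / 4 = j → j ∈ uLines := by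
    refine ord_induct uOrder_all uPos_all _ (fun j hj hs g hg hj' => ?_) (fun i hi hi4 j hj ih g hg hj' => ?_)
    · set y := move g (bP 0) with hy
      have hylt : y < 16240 := move_lt g b0_lt
      let c : ℕ := 4 - y % 4
      let g' : fourRu := iel ^ c * g
      have hx : move g' (bP 0) = 4 * j := by
        rw [move_mul _ _ b0_lt, ← hy, move_iel_pow c hylt]
        unfold shiftPhase
        omega
      have hc : ∀ k, g' * pg 0 ^ k = pg 0 ^ k * g' := fun k => by
        rw [mul_assoc, ((show Commute g (pg 0) from hg).pow_right k).eq, ← mul_assoc, ← iel_pow_comm (pg 0 ^ k),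
          mul_assoc]
      have hk : ∀ k d, kdP (4 * j) (shiftPhase (pEval (rep k 0) (4 * j)) d) =
          kdP (bP 0) (shiftPhase (pEval (rep k 0) (bP 0)) d) := fun k d => by
        rw [pEval_rep (by norm_num) (by omega), pEval_rep (by norm_num) b0_lt, ← hx]
        exact kd_comm (hc k) b0_lt d
      have hk0 : kdP (4 * j) (pEval (rep 4 0) (4 * j)) = kdP (bP 0) (pEval (rep 4 0) (bP 0)) := by
        simpa [shift_zero] using hk 4 0
      obtain ⟨t0, t1, t2⟩ := uTgt_cert
      have hs' : uScan j = (bif Nat.beq (kdP (4 * j) (shiftPhase (pEval (rep 2 0) (4 * j)) 1)) (uTgt.getD 0 0) then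
          bif Nat.beq (kdP (4 * j) (shiftPhase (pEval (rep 3 0) (4 * j)) 1)) (uTgt.getD 1 0) then
            bif Nat.beq (kdP (4 * j) (pEval (rep 4 0) (4 * j))) (uTgt.getD 2 0) then memN j uLines else true
          else true
        else true) := by with_unfolding_all exact force_eq _ _
      rw [hs', hk 2 1, hk 3 1, hk0, t0, t1, t2] at hs
      simp only [Nat.beq_refl, cond_true] at hs
      exact memN_spec hs
    · obtain rfl : i = 0 := by simpa using hi
      have hback := line_back hi4 hj (move_lt g b0_lt) hj'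
      rw [← move_mul _ _ b0_lt] at hback
      have hm := ih ((pg 0)⁻¹ * g) (by rw [mul_assoc, hg]; group) hback
      obtain ⟨n, hn, rfl⟩ := List.getElem_of_mem hm
      have hn' : n < 29 := by
        have : uLines.length = 29 := by with_unfolding_all exact uPts_len
        omega
      have := uLines_closed ⟨n, hn'⟩
      simp only [List.getD_eq_getElem _ _ hn] at this
      exact memN_spec this
  exact key _ (by have := move_lt g b0_lt; omega) g hg rfl

theorem centralizer_ru {q : Ru} (hq : q * ru = ru * q) : ∃ i, q = ru ^ i := by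
  obtain ⟨g, rfl⟩ := toRu_surj q
  have hg : g * pg 0 = pg 0 * g := exact_commute U_pow (by norm_num) hq
  obtain ⟨n, hn, e⟩ := List.getElem_of_mem (uLines_mem hg)
  have hn' : n < 29 := by
    have : uLines.length = 29 := by with_unfolding_all exact uPts_len
    omega
  have hl : uPts.getD n 0 / 4 = uLines[n] := by
    have hln : n < uPts.length := by rw [uPts_len]; exact hn'
    rw [List.getD_eq_getElem _ _ hln]
    with_unfolding_all simp [uLines]
  rw [uPts_cert ⟨n, hn'⟩, pEval_rep (by norm_num) b0_lt, e] at hl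
  obtain ⟨a, ha⟩ := line_phase hl.symm
  refine ⟨n, ?_⟩
  have h1 : (iel ^ a * pg 0 ^ n)⁻¹ * g = 1 := by
    set g' := (iel ^ a * pg 0 ^ n)⁻¹ * g with hg'
    have hfix : move g' (bP 0) = bP 0 := by
      rw [hg', move_mul _ _ b0_lt, ha, ← move_iel_pow a (move_lt _ b0_lt), ← move_mul _ _ b0_lt,
        move_inv _ b0_lt]
    have hcU : Commute (iel ^ a * pg 0 ^ n) (pg 0) :=
      ((show Commute (pg 0) (iel ^ a) from iel_pow_comm _ _).symm).mul_left (Commute.pow_self _ _)
    have hcomm : Commute g' (pg 0) := hcU.inv_left.mul_left hg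
    refine eq_one_of_comb (den := uDen) ?_ (fun k => uComb.getD k []) fun k hk => ?_
    · rw [Nat.cast_ne_zero]; with_unfolding_all decide +kernel
    · obtain ⟨c1, c2⟩ := uComb_cert ⟨k, hk⟩
      refine ⟨fun e he => ?_, funext c2⟩
      simp only [uCombOK, allList_eq, List.all_eq_true, Bool.and_eq_true, Nat.blt_eq] at c1
      obtain ⟨h1, h2⟩ := c1 e he
      refine ⟨h1, ?_⟩
      obtain ⟨i, hi, ei⟩ := List.getElem_of_mem (memN_spec h2)
      rw [uPts_len] at hi
      rw [← ei, ← List.getD_eq_getElem _ 0 (by rw [uPts_len]; exact hi), uPts_cert ⟨i, hi⟩,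
        pEval_rep (by norm_num) b0_lt, move_comm (hcomm.pow_right i).eq b0_lt, hfix]
  rw [← inv_mul_eq_one.1 h1, map_mul, toRu_pow_iel, one_mul, map_pow]
  rfl

/-! ### The centraliser of `rz` and `rf` -/

/-- An element whose image commutes with `rz` and `rf`. -/
def Cen (g : fourRu) : Prop := Commute (toRu g) rz ∧ Commute (toRu g) rf

theorem cen_mul {g h : fourRu} (hg : Cen g) (hh : Cen h) : Cen (g * h) :=
  ⟨by rw [map_mul]; exact hg.1.mul_left hh.1, by rw [map_mul]; exact hg.2.mul_left hh.2⟩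

theorem cen_inv {g : fourRu} (hg : Cen g) : Cen g⁻¹ :=
  ⟨by rw [map_inv]; exact hg.1.inv_left, by rw [map_inv]; exact hg.2.inv_left⟩

theorem cen_pg {i : ℕ} (hi : i ∈ [1, 2, 3]) : Cen (pg i) := by
  simp only [List.mem_cons, List.not_mem_nil, or_false] at hi
  rcases hi with rfl | rfl | rfl
  · exact ⟨rv_rz, rv_rf⟩
  · exact ⟨Commute.refl _, rz_rf⟩
  · exact ⟨rz_rf.symm, Commute.refl _⟩

theorem cen_word : ∀ {w : List ℕ}, (∀ i ∈ w, i ∈ [1, 2, 3]) → Cen (pWord w)
  | [], _ => by
    show Cen 1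
    exact ⟨by rw [map_one]; exact Commute.one_left _, by rw [map_one]; exact Commute.one_left _⟩
  | i :: w, h => by
    rw [pWord_cons]
    exact cen_mul (cen_word fun j hj => h j (List.mem_cons_of_mem _ hj)) (cen_pg (h i (List.mem_cons_self ..)))

theorem cen_iel (a : ℕ) : Cen (iel ^ a) :=
  ⟨by rw [toRu_pow_iel]; exact Commute.one_left _, by rw [toRu_pow_iel]; exact Commute.one_left _⟩

theorem cWord_letters : ∀ e : Fin 28, ∀ i ∈ cWord e, i ∈ [1, 2, 3] := by decide +kernel

theorem hWord_letters : ∀ h : Fin 14, ∀ i ∈ hWord h, i = 2 ∨ i = 3 := by decide +kernel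

theorem F_exact {g : fourRu} (hg : Cen g) : Commute g (pg 3) :=
  exact_commute F_pow (by norm_num) hg.2.eq

theorem cLines_mem {g : fourRu} (hg : Cen g) : move g cPt0 / 4 ∈ cLines := by
  have hp := cPts_cert.2.1
  have key : ∀ j, j < 4060 → ∀ g : fourRu, Cen g → move g cPt0 / 4 = j → j ∈ cLines := by
    refine ord_induct cOrder_all cPos_all _ (fun j hj hs g hg hj' => ?_) (fun i hi hi4 j hj ih g hg hj' => ?_)
    · set y := move g cPt0 with hy
      have hylt : y < 16240 := move_lt g hp
      let c : ℕ := 4 - y % 4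
      let g' : fourRu := iel ^ c * g
      have hx : move g' cPt0 = 4 * j := by
        rw [move_mul _ _ hp, ← hy, move_iel_pow c hylt]
        unfold shiftPhase
        omega
      have hF : Commute g' (pg 3) := F_exact (cen_mul (cen_iel c) hg)
      have hk : ∀ k d, kdP (4 * j) (shiftPhase (pEval (rep k 3) (4 * j)) d) =
          kdP cPt0 (shiftPhase (pEval (rep k 3) cPt0) d) := fun k d => by
        rw [pEval_rep (by norm_num) (by omega), pEval_rep (by norm_num) hp, ← hx]
        exact kd_comm (hF.pow_right k).eq hp d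
      have hk0 : kdP (4 * j) (pEval (rep 1 3) (4 * j)) = kdP cPt0 (pEval (rep 1 3) cPt0) := by
        simpa [shift_zero] using hk 1 0
      obtain ⟨t0, t1, t2⟩ := cTgt_cert
      have hs' : cScan j = (bif Nat.beq (kdP (4 * j) (pEval (rep 1 3) (4 * j))) (cTgt.getD 0 0) then
          bif Nat.beq (kdP (4 * j) (shiftPhase (pEval (rep 2 3) (4 * j)) 1)) (cTgt.getD 1 0) then
            bif Nat.beq (kdP (4 * j) (shiftPhase (pEval (rep 3 3) (4 * j)) 1)) (cTgt.getD 2 0) then memN j cLines
            else true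
          else true
        else true) := by with_unfolding_all exact force_eq _ _
      rw [hs', hk0, hk 2 1, hk 3 1, t0, t1, t2] at hs
      simp only [Nat.beq_refl, cond_true] at hs
      exact memN_spec hs
    · have hback := line_back hi4 hj (move_lt g hp) hj'
      rw [← move_mul _ _ hp] at hback
      have hm := ih ((pg i)⁻¹ * g) (cen_mul (cen_inv (cen_pg hi)) hg) hback
      obtain ⟨n, hn, rfl⟩ := List.getElem_of_mem hm
      have hn' : n < 28 := by rw [cLines_cert.1] at hn; exact hn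
      have hi' : 1 ≤ i ∧ i - 1 < 3 := by
        simp only [List.mem_cons, List.not_mem_nil, or_false] at hi
        omega
      have := cLines_closed ⟨i - 1, hi'.2⟩ ⟨n, hn'⟩
      simp only [List.getD_eq_getElem _ _ hn, show i - 1 + 1 = i by omega] at this
      exact memN_spec this
  exact key _ (by have := move_lt g hp; omega) g hg rfl

theorem cRefs_facts {j : ℕ} (hj : j < 56) : Ok (cRefs.getD j 0) ∧
    dv (cRefs.getD j 0) = if j < 14 then pt (cPts.getD j 0)
      else if j < 28 then pt (shiftPhase (cPts.getD (j - 14) 0) 1) else 0 := by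
  have hlt : ∀ i, i < 14 → cPts.getD i 0 < 16240 := fun i hi => by
    rw [(cPts_cert.2.2.2 ⟨i, hi⟩).1,
      ← pEval_spec (fun k hk => by rcases hWord_letters ⟨i, hi⟩ k hk with rfl | rfl <;> norm_num) cPts_cert.2.1]
    exact move_lt _ cPts_cert.2.1
  have e : cRefs.getD j 0 = bif Nat.blt j 14 then ptc (cPts.getD j 0)
      else bif Nat.blt j 28 then ptc (shiftPhase (cPts.getD (j - 14) 0) 1) else zeroC := by
    with_unfolding_all
      rw [cRefs, List.getD_eq_getElem _ _ (by simp [hj]), List.getElem_map, List.getElem_range]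
  have hdv : ∀ y, dv (ptc y) = pt y := fun y => by with_unfolding_all rfl
  rw [e]
  by_cases h : j < 14
  · rw [show Nat.blt j 14 = true by rw [Nat.blt_eq]; exact h, cond_true, if_pos h]
    exact ⟨ok_ptc (hlt j h), hdv _⟩
  · rw [show Nat.blt j 14 = false from Bool.eq_false_iff.2 (by rw [ne_eq, Nat.blt_eq]; exact h), cond_false,
      if_neg h]
    by_cases h2 : j < 28
    · rw [show Nat.blt j 28 = true by rw [Nat.blt_eq]; exact h2, cond_true, if_pos h2]
      exact ⟨ok_ptc (shiftPhase_lt (hlt _ (by omega))), hdv _⟩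
    · rw [show Nat.blt j 28 = false from Bool.eq_false_iff.2 (by rw [ne_eq, Nat.blt_eq]; exact h2), cond_false,
        if_neg h2]
      exact ⟨okN_spec refs_cert.2.2.2.2.1, funext refs_cert.2.2.2.2.2⟩

theorem cRefs_length : cRefs.length = 56 := by
  with_unfolding_all simp [cRefs]

theorem sig_fixed {g : fourRu} {x : ℕ} (hx : x < 16240)
    (hfix : ∀ i, i < 14 → cPts.getD i 0 < 16240 ∧ move g (cPts.getD i 0) = cPts.getD i 0) :
    sigN cRefRows cRefSums (ptc (move g x)) = sigN cRefRows cRefSums (ptc x) := by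
  have hok : ∀ a ∈ cRefs, Ok a := fun a ha => by
    obtain ⟨k, hk, rfl⟩ := List.getElem_of_mem ha
    rw [← List.getD_eq_getElem _ 0 hk]
    exact (cRefs_facts (by rw [cRefs_length] at hk; exact hk)).1
  have hdv : ∀ y, dv (ptc y) = pt y := fun y => by with_unfolding_all rfl
  rw [cRefs_cert.1, cRefs_cert.2.1, sigN_spec cRefs_length hok (ok_ptc (move_lt g hx)),
    sigN_spec cRefs_length hok (ok_ptc hx)]
  refine spk_congr fun j hj => ?_
  rw [(cRefs_facts hj).2, hdv, hdv]
  split_ifs with h h2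
  · obtain ⟨h1, h3⟩ := hfix j h
    conv_lhs => rw [← h3]
    rw [herm_move g hx h1]
  · obtain ⟨h1, h3⟩ := hfix (j - 14) (by omega)
    conv_lhs => rw [← h3, ← move_shift g h1]
    rw [herm_move g hx (shiftPhase_lt h1)]
  · simp [herm]

theorem cen_fix {g : fourRu} (hg : Cen g) (h0 : move g cPt0 = cPt0) : g = 1 := by
  obtain ⟨-, hp0, hp1, hpts⟩ := cPts_cert
  have hF : Commute g (pg 3) := F_exact hg
  obtain ⟨a, ha⟩ := toRu_eq (show toRu (g * pg 2) = toRu (pg 2 * g) by rw [map_mul, map_mul]; exact hg.1.eq)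
  have hz := move_lt (pg 2) hp0
  have hzs : move g (move (pg 2) cPt0) = shiftPhase (move (pg 2) cPt0) a := by
    rw [← move_mul _ _ hp0, ha, move_mul _ _ hp0, move_mul _ _ hp0, h0, move_iel_pow a hz]
  have hh := herm_move g hp0 hz
  rw [h0, hzs, pt_shift hz, herm_smul_right] at hh
  have hne : herm (pt cPt0) (pt (move (pg 2) cPt0)) ≠ 0 := by
    intro hz0
    have hn := cNonorth
    rw [← pEval_spec (w := [2]) (by simp) hp0, one_word] at hn
    rw [kdP_eq hp0 hz, kdP_eq hp0 (shiftPhase_lt hz), pt_shift hz, herm_smul_right, hz0, mul_zero] at hn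
    exact Bool.noConfusion hn
  have h1' : star (gI ^ a) = 1 := mul_right_cancel₀ hne (hh.trans (one_mul _).symm)
  have h2' : gI ^ a = 1 := by rw [← star_star (gI ^ a), h1', star_one]
  have hia : iel ^ a = 1 := ext_move fun x hx => by
    rw [move_iel_pow a hx, move_one hx]
    refine pt_inj (shiftPhase_lt hx) hx ?_
    rw [pt_shift hx, h2', one_smul]
  rw [hia, one_mul] at ha
  have hword : ∀ w : List ℕ, (∀ i ∈ w, i = 2 ∨ i = 3) → Commute g (pWord w) := by
    intro w
    induction w with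
    | nil => exact fun _ => Commute.one_right g
    | cons i w ih =>
      intro h
      rw [pWord_cons]
      refine (ih fun j hj => h j (List.mem_cons_of_mem _ hj)).mul_right ?_
      rcases h i (List.mem_cons_self ..) with rfl | rfl
      · exact ha
      · exact hF
  have hw4 : ∀ h : Fin 14, ∀ i ∈ hWord h, i < 4 := fun h i hi => by
    rcases hWord_letters h i hi with rfl | rfl <;> norm_num
  have hfix : ∀ (h : Fin 14) (x : ℕ), x < 16240 → move g x = x →
      pEval (hWord h) x < 16240 ∧ move g (pEval (hWord h) x) = pEval (hWord h) x := by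
    intro h x hx hxf
    rw [← pEval_spec (hw4 h) hx]
    exact ⟨move_lt _ hx, by rw [move_comm (hword _ (hWord_letters h)).eq hx, hxf]⟩
  have h14 : ∀ i, i < 14 → cPts.getD i 0 < 16240 ∧ move g (cPts.getD i 0) = cPts.getD i 0 := fun i hi => by
    rw [(hpts ⟨i, hi⟩).1]
    exact hfix ⟨i, hi⟩ _ hp0 h0
  have h1 : move g cPt1 = cPt1 := by
    have h := checkBelow_spec cSigChk_all (move g cPt1) (move_lt g hp1)
    have hs' : cSigChk (move g cPt1) = (bif Nat.beq (sigN cRefRows cRefSums (ptc (move g cPt1))) cSig then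
        Nat.beq (move g cPt1) cPt1 else true) := by with_unfolding_all exact force_eq _ _
    rw [hs', sig_fixed hp1 h14, cRefs_cert.2.2, Nat.beq_refl, cond_true] at h
    exact Nat.eq_of_beq_eq_true h
  refine eq_one_of_comb (den := cDen) ?_ (fun k => cComb.getD k []) fun k hk => ?_
  · rw [Nat.cast_ne_zero]; with_unfolding_all decide +kernel
  · obtain ⟨c1, c2⟩ := cComb_cert ⟨k, hk⟩
    refine ⟨fun e he => ?_, funext c2⟩
    simp only [cCombOK, allList_eq, List.all_eq_true, Bool.and_eq_true, Nat.blt_eq] at c1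
    obtain ⟨c3, c4⟩ := c1 e he
    refine ⟨c3, ?_⟩
    obtain ⟨i, hi, ei⟩ := List.getElem_of_mem (memN_spec c4)
    rw [← ei, ← List.getD_eq_getElem _ 0 hi]
    rw [cPts_cert.1] at hi
    by_cases h' : i < 14
    · exact (h14 i h').2
    · have e2 := (hpts ⟨i - 14, by omega⟩).2
      simp only [show 14 + (i - 14) = i by omega] at e2
      rw [e2]
      exact (hfix ⟨i - 14, by omega⟩ _ hp1 h1).2

theorem centralizer_zf {q : Ru} (h1 : q * rz = rz * q) (h2 : q * rf = rf * q) :
    ∃ e : Fin 28, q = toRu (pWord (cWord e)) := by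
  obtain ⟨g, rfl⟩ := toRu_surj q
  have hp := cPts_cert.2.1
  obtain ⟨n, hn, e⟩ := List.getElem_of_mem (cLines_mem (g := g) ⟨h1, h2⟩)
  have hn' : n < 28 := by rw [cLines_cert.1] at hn; exact hn
  have hl := cLines_cert.2 ⟨n, hn'⟩
  have hw4 : ∀ i ∈ cWord n, i < 4 := fun i hi => by
    have := cWord_letters ⟨n, hn'⟩ i hi
    simp only [List.mem_cons, List.not_mem_nil, or_false] at this
    omega
  simp only [List.getD_eq_getElem _ _ hn, e, ← pEval_spec hw4 hp] at hl
  obtain ⟨a, ha⟩ := line_phase hl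
  refine ⟨⟨n, hn'⟩, ?_⟩
  have h1' : (iel ^ a * pWord (cWord n))⁻¹ * g = 1 := by
    refine cen_fix (cen_mul (cen_inv (cen_mul (cen_iel a) (cen_word (cWord_letters ⟨n, hn'⟩)))) ⟨h1, h2⟩) ?_
    rw [move_mul _ _ hp, ha, ← move_iel_pow a (move_lt _ hp), ← move_mul _ _ hp, move_inv _ hp]
  rw [← inv_mul_eq_one.1 h1', map_mul, toRu_pow_iel, one_mul]

/-! ### Involutions centralising `rz` and `rf` -/

theorem involution_zf {q : Ru} (h1 : q * rz = rz * q) (h2 : q * rf = rf * q) (hsq : q * q = 1) (hne : q ≠ 1) :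
    q = rz ∨ q = rv ∨ q = rv * rz := by
  obtain ⟨e, rfl⟩ := centralizer_zf h1 h2
  obtain ⟨b, hb⟩ : ∃ b : Ru, (b = 1 ∨ b = rz ∨ b = rv ∨ b = rv * rz) ∧
      toRu (pWord (cWord e)) = b * rf ^ (e.val % 7) := by
    have hw : ∀ w : List ℕ, toRu (pWord (rep (e.val % 7) 3 ++ w)) = toRu (pWord w) * rf ^ (e.val % 7) :=
      fun w => by rw [pWord_append, map_mul, pWord_rep, map_pow]; rfl
    unfold cWord
    rw [hw]
    have he := e.isLt
    rcases (by omega : e.val / 7 = 0 ∨ e.val / 7 = 1 ∨ e.val / 7 = 2 ∨ e.val / 7 = 3) with h | h | h | h <;>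
      rw [h] <;> refine ⟨_, ?_, rfl⟩
    · left; show toRu 1 = 1; rw [map_one]
    · right; left; show toRu (pWord [2]) = rz; rw [one_word]; rfl
    · right; right; left; show toRu (pWord [1]) = rv; rw [one_word]; rfl
    · right; right; right
      show toRu (pWord [2, 1]) = rv * rz
      rw [show pWord [2, 1] = pg 1 * pg 2 from congrArg (· * pg 2) (one_word 1), map_mul]
      rfl
  obtain ⟨hb1, hb2⟩ := hb
  have hbf : Commute b rf := by
    rcases hb1 with rfl | rfl | rfl | rfl
    · exact Commute.one_left _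
    · exact rz_rf
    · exact rv_rf
    · exact (show Commute rv rf from rv_rf).mul_left rz_rf
  have hbb : b * b = 1 := by
    rcases hb1 with rfl | rfl | rfl | rfl
    · exact one_mul 1
    · exact rz_sq
    · exact rv_sq
    · rw [(show Commute rz rv from rv_rz.symm).mul_mul_mul_comm, rv_sq, rz_sq, one_mul]
  rw [hb2] at hsq hne ⊢
  rw [(hbf.pow_right (e.val % 7)).symm.mul_mul_mul_comm, hbb, one_mul, ← pow_add,
    ← orderOf_dvd_iff_pow_eq_one, orderOf_rf] at hsq
  rw [show e.val % 7 = 0 by omega, pow_zero, mul_one] at hne ⊢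
  rcases hb1 with h | h | h | h
  · exact absurd h hne
  · exact .inl h
  · exact .inr (.inl h)
  · exact .inr (.inr h)

theorem rv_ne_rz : rv ≠ rz := fun h => by
  have hm : moves [2, 1] = true := by with_unfolding_all decide +kernel
  refine moves_spec hm ?_
  rw [show pWord [2, 1] = pg 1 * pg 2 from congrArg (· * pg 2) (one_word 1), map_mul]
  show rv * rz = 1
  rw [h, rz_sq]

/-! ### The relators -/

theorem relA_word (k : ℕ) (v : List ℕ) : toRu (pWord (relA k v)) = (ru ^ k * toRu (pWord v)) ^ 15 := by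
  rw [relA, pWord_pow, map_pow, pWord_append, map_mul, pWord_rep, map_pow]
  rfl

theorem relB_word (k : ℕ) (v : List ℕ) :
    toRu (pWord (relB k v)) = (ru ^ k * (toRu (pWord v) * (ru ^ (3 * k) * toRu (pWord v)))) ^ 20 := by
  rw [relB, pWord_pow, map_pow, pWord_append, pWord_append, pWord_append, map_mul, map_mul, map_mul,
    pWord_rep, pWord_rep, map_pow, map_pow]
  rfl

theorem rv_word : toRu (pWord [1]) = rv := by rw [one_word]; rfl

theorem rvz_word : toRu (pWord [2, 1]) = rv * rz := by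
  rw [show pWord [2, 1] = pg 1 * pg 2 from congrArg (· * pg 2) (one_word 1), map_mul]
  rfl

/-- The images of `ru` and `rv` are determined by the two relators. -/
theorem images_eq (φ : MulAut Ru) {k : ℕ} (hk : k = 1 ∨ k = 2) (hu : φ ru = ru ^ k)
    (hv : φ rv = rv ∨ φ rv = rv * rz) : k = 1 ∧ φ rv = rv := by
  have hA : (ru ^ 1 * rv) ^ 15 = 1 := by
    have := relA_word 1 [1]
    rw [eq_toRu relA_one, rv_word] at this
    rw [← this]; exact map_one _
  have hB : (ru ^ 1 * (rv * (ru ^ (3 * 1) * rv))) ^ 20 = 1 := by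
    have := relB_word 1 [1]
    rw [eq_toRu relB_one, rv_word] at this
    rw [← this]; exact map_one _
  have iA := congrArg φ hA
  have iB := congrArg φ hB
  simp only [map_pow, map_mul, map_one, hu, pow_one, mul_one, ← pow_mul] at iA iB
  rw [mul_comm k 3] at iB
  obtain ⟨b1, b2, b3, -⟩ := bad_cases
  rcases hk with rfl | rfl <;> rcases hv with h | h <;> rw [h] at iA iB
  · exact ⟨rfl, h⟩
  · exact absurd (by rw [relA_word, rvz_word]; exact iA) (moves_spec b1)
  · exact absurd (by rw [relA_word, rv_word]; exact iA) (moves_spec b2)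
  · exact absurd (by rw [relB_word, rvz_word]; exact iB) (moves_spec b3)

/-! ### Every automorphism is inner -/

theorem conj_ru_pow {g : Ru} {n : ℕ} (h : g * ru = ru ^ n * g) (e : ℕ) : g * ru ^ e * g⁻¹ = ru ^ (n * e) := by
  rw [← conj_pow, show g * ru * g⁻¹ = ru ^ n by rw [h, mul_inv_cancel_right], ← pow_mul]

theorem ru_pow_mod (e : ℕ) : ru ^ e = ru ^ (e % 29) := by
  conv_lhs => rw [← Nat.div_add_mod e 29, pow_add, pow_mul, ru_pow, one_pow, one_mul]

theorem cover_exponents : ∀ e : Fin 29, e.val ≠ 0 →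
    ∃ a : Fin 2, ∃ b : Fin 7, e.val * 28 ^ a.val * 16 ^ b.val % 29 = 1 ∨
      e.val * 28 ^ a.val * 16 ^ b.val % 29 = 2 := by decide +kernel

theorem exists_power (α : MulAut Ru) : ∃ g : Ru, ∃ k, (k = 1 ∨ k = 2) ∧ g * α ru * g⁻¹ = ru ^ k := by
  haveI := finite_Ru
  haveI : Fact (Nat.Prime 29) := ⟨by norm_num⟩
  have hcard : ∀ x : Ru, orderOf x = 29 → IsPGroup 29 (Subgroup.zpowers x) ∧
      ¬ 29 ∣ (Subgroup.zpowers x).index := fun x hx => by
    refine ⟨IsPGroup.of_card (n := 1) (by rw [Nat.card_zpowers, hx, pow_one]), fun hd => ?_⟩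
    have h := (Subgroup.zpowers x).card_mul_index
    rw [Nat.card_zpowers, hx, card_Ru] at h
    omega
  have hα : orderOf (α ru) = 29 := by rw [MulEquiv.orderOf_eq, orderOf_ru]
  let P1 : Sylow 29 Ru := (hcard ru orderOf_ru).1.toSylow (hcard ru orderOf_ru).2
  let P2 : Sylow 29 Ru := (hcard _ hα).1.toSylow (hcard _ hα).2
  obtain ⟨g, hg⟩ := MulAction.exists_smul_eq Ru P2 P1
  have hm : g * α ru * g⁻¹ ∈ Subgroup.zpowers ru := by
    have h1 : MulAut.conj g (α ru) ∈ (g • P2 : Sylow 29 Ru).toSubgroup := by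
      rw [Sylow.smul_def, Sylow.pointwise_smul_def]
      exact Subgroup.smul_mem_pointwise_smul _ _ _ (Subgroup.mem_zpowers (α ru))
    rw [hg] at h1
    exact h1
  obtain ⟨e, he⟩ := mem_powers_iff_mem_zpowers.2 hm
  replace he : ru ^ e = g * α ru * g⁻¹ := he
  have he0 : e % 29 ≠ 0 := fun h => by
    rw [ru_pow_mod e, h, pow_zero, eq_comm, conj_eq_one_iff] at he
    rw [he, orderOf_one] at hα
    exact absurd hα (by norm_num)
  obtain ⟨a, b, hab⟩ := cover_exponents ⟨e % 29, Nat.mod_lt _ (by norm_num)⟩ he0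
  have hpow : ∀ (x : Ru) (n : ℕ), x * ru = ru ^ n * x → ∀ i m, x ^ i * ru ^ m * (x ^ i)⁻¹ = ru ^ (n ^ i * m) := by
    intro x n hx i
    induction i with
    | zero => intro m; simp
    | succ i ih =>
      intro m
      rw [pow_succ', show x * x ^ i * ru ^ m * (x * x ^ i)⁻¹ = x * (x ^ i * ru ^ m * (x ^ i)⁻¹) * x⁻¹ by group,
        ih, conj_ru_pow hx]
      congr 1
      ring
  refine ⟨rf ^ b.val * rz ^ a.val * g, _, hab, ?_⟩
  rw [show rf ^ b.val * rz ^ a.val * g * α ru * (rf ^ b.val * rz ^ a.val * g)⁻¹ =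
    rf ^ b.val * (rz ^ a.val * (g * α ru * g⁻¹) * (rz ^ a.val)⁻¹) * (rf ^ b.val)⁻¹ by group,
    ← he, hpow rz 28 rz_ru, hpow rf 16 rf_ru, ru_pow_mod, ← ru_pow_mod (_ * _)]
  conv_lhs => rw [ru_pow_mod]
  congr 1
  rw [show e % 29 * 28 ^ a.val * 16 ^ b.val = 16 ^ b.val * (28 ^ a.val * (e % 29)) by ring]
  simp [Nat.mul_mod]

theorem cancel_k {k : ℕ} (hk : k = 1 ∨ k = 2) {d : Ru} (h : d * ru ^ k = ru ^ k * d) : d * ru = ru * d := by
  rcases hk with rfl | rfl
  · rwa [pow_one] at h
  · have h15 := (show Commute d (ru ^ 2) from h).pow_right 15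
    rw [← pow_mul, show 2 * 15 = 29 + 1 from rfl, pow_add, ru_pow, one_mul, pow_one] at h15
    exact h15

theorem mem_inn (α : MulAut Ru) : α ∈ Cfsg.Inn Ru := by
  have hconj : ∀ g : Ru, MulAut.conj g ∈ Cfsg.Inn Ru := fun g => ⟨g, rfl⟩
  obtain ⟨g, k, hk, hgk⟩ := exists_power α
  set β : MulAut Ru := MulAut.conj g * α with hβ
  have hβu : β ru = ru ^ k := by rw [hβ, MulAut.mul_apply, MulAut.conj_apply, hgk]
  have hkr : k % 29 ≠ 0 := by omega
  -- the image of `rf`
  have hdf : (rf⁻¹ * β rf) * ru = ru * (rf⁻¹ * β rf) := by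
    refine cancel_k hk ?_
    have h1 : β rf * ru ^ k = ru ^ (16 * k) * β rf := by
      have := congrArg β rf_ru
      rwa [map_mul, map_mul, map_pow, hβu, ← pow_mul, mul_comm k 16] at this
    have h2 : rf * ru ^ k = ru ^ (16 * k) * rf := by rw [← conj_ru_pow rf_ru k, inv_mul_cancel_right]
    rw [mul_assoc, h1, ← mul_assoc, show rf⁻¹ * ru ^ (16 * k) = ru ^ k * rf⁻¹ by
      rw [inv_mul_eq_iff_eq_mul, ← mul_assoc, h2, mul_inv_cancel_right], mul_assoc]
  obtain ⟨i, hi⟩ := centralizer_ru hdf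
  rw [inv_mul_eq_iff_eq_mul] at hi
  have hinv : rf⁻¹ * ru * rf = ru ^ 20 := by
    have := conj_ru_pow rf_ru 20
    rw [ru_pow_mod (16 * 20), show 16 * 20 % 29 = 1 from rfl, pow_one, mul_inv_eq_iff_eq_mul] at this
    rw [mul_assoc, ← this, inv_mul_cancel_left]
  set γ : MulAut Ru := MulAut.conj (ru ^ (3 * i)) * β with hγ
  have hγu : γ ru = ru ^ k := by
    rw [hγ, MulAut.mul_apply, hβu, MulAut.conj_apply, ← pow_add, mul_inv_eq_iff_eq_mul, ← pow_add, add_comm]
  have hγf : γ rf = rf := by
    rw [hγ, MulAut.mul_apply, hi, MulAut.conj_apply]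
    have e1 : ru ^ (3 * i) * rf = rf * ru ^ (20 * (3 * i)) := by
      have hc : rf⁻¹ * ru ^ (3 * i) * rf = ru ^ (20 * (3 * i)) := by
        have h := conj_pow (a := rf⁻¹) (b := ru) (i := 3 * i)
        rw [inv_inv, hinv, ← pow_mul] at h
        exact h.symm
      rw [← hc]; group
    rw [← mul_assoc, e1, mul_assoc rf, ← pow_add, mul_assoc rf, mul_inv_eq_iff_eq_mul.2]
    · exact mul_one rf
    · rw [one_mul, ru_pow_mod, ru_pow_mod (3 * i)]
      congr 1
      omega
  -- the image of `rz`
  have hdz : (rz⁻¹ * γ rz) * ru = ru * (rz⁻¹ * γ rz) := by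
    refine cancel_k hk ?_
    have h1 : γ rz * ru ^ k = ru ^ (28 * k) * γ rz := by
      have := congrArg γ rz_ru
      rwa [map_mul, map_mul, map_pow, hγu, ← pow_mul, mul_comm k 28] at this
    have h2 : rz * ru ^ k = ru ^ (28 * k) * rz := by rw [← conj_ru_pow rz_ru k, inv_mul_cancel_right]
    rw [mul_assoc, h1, ← mul_assoc, show rz⁻¹ * ru ^ (28 * k) = ru ^ k * rz⁻¹ by
      rw [inv_mul_eq_iff_eq_mul, ← mul_assoc, h2, mul_inv_cancel_right], mul_assoc]
  obtain ⟨j, hj⟩ := centralizer_ru hdz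
  have hγz : γ rz = rz := by
    have hcf : (rz⁻¹ * γ rz) * rf = rf * (rz⁻¹ * γ rz) := by
      have h1 : γ rz * rf = rf * γ rz := by
        have := congrArg γ rz_rf
        rwa [map_mul, map_mul, hγf] at this
      rw [mul_assoc, h1, ← mul_assoc, (show Commute rz rf from rz_rf).inv_left.eq, mul_assoc]
    rw [hj] at hcf
    have e := conj_ru_pow rf_ru j
    rw [← hcf, mul_inv_cancel_right, ru_pow_mod, ru_pow_mod (16 * j)] at e
    have e2 := pow_injOn_Iio_orderOf (x := ru) (by rw [orderOf_ru]; exact Set.mem_Iio.2 (Nat.mod_lt _ (by norm_num)))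
      (by rw [orderOf_ru]; exact Set.mem_Iio.2 (Nat.mod_lt _ (by norm_num))) e
    rw [ru_pow_mod, show j % 29 = 0 by omega, pow_zero, inv_mul_eq_one] at hj
    exact hj.symm
  -- the image of `rv`
  have hv : γ rv = rv ∨ γ rv = rv * rz := by
    have h1 : γ rv * rz = rz * γ rv := by
      have := congrArg γ rv_rz
      rwa [map_mul, map_mul, hγz] at this
    have h2 : γ rv * rf = rf * γ rv := by
      have := congrArg γ rv_rf
      rwa [map_mul, map_mul, hγf] at this
    have h3 : γ rv * γ rv = 1 := by rw [← map_mul, rv_sq, map_one]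
    have h4 : γ rv ≠ 1 := fun h => by
      have hrv : rv = 1 := γ.injective (h.trans (map_one γ).symm)
      have hm : moves [1] = true := by with_unfolding_all decide +kernel
      exact moves_spec hm (by rw [rv_word, hrv])
    rcases involution_zf h1 h2 h3 h4 with h | h | h
    · exact absurd (γ.injective (h.trans hγz.symm)) rv_ne_rz
    · exact .inl h
    · exact .inr h
  obtain ⟨rfl, hv1⟩ := images_eq γ hk hγu hv
  rw [pow_one] at hγu
  have hone : γ = 1 := by
    refine MulEquiv.ext fun x => ?_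
    have hx : x ∈ Subgroup.closure ({toRu (pg 0), toRu (pg 1)} : Set Ru) := by
      rw [ru_generated]; exact Subgroup.mem_top x
    induction hx using Subgroup.closure_induction with
    | mem y hy => rcases hy with rfl | rfl <;> [exact hγu; exact hv1]
    | one => exact map_one γ
    | mul a b _ _ ha hb => rw [map_mul, ha, hb]; rfl
    | inv a _ ha => rw [map_inv, ha]; rfl
  have hin : MulAut.conj (ru ^ (3 * i)) * (MulAut.conj g * α) ∈ Cfsg.Inn Ru := by
    rw [← hβ, ← hγ, hone]; exact one_mem _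
  exact (Subgroup.mul_mem_cancel_left _ (hconj _)).1 ((Subgroup.mul_mem_cancel_left _ (hconj _)).1 hin)

/-- The outer automorphism group of the Rudvalis group is trivial. -/
theorem card_out : Nat.card (Cfsg.Out Ru) = 1 := by
  haveI : Subsingleton (Cfsg.Out Ru) :=
    QuotientGroup.subsingleton_iff.2 (eq_top_iff.2 fun a _ => mem_inn a)
  exact Nat.card_unique

end Cfsg.Agent.RuAut
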