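import Cfsg.Agent.Lib.RuAut.Order

/-!
# The generators as permutations of the lines
-/

set_option autoImplicit false
set_option maxRecDepth 20000

namespace Cfsg.Agent.RuAut

open Cfsg.Spor
open Cfsg.Agent.Presented (force force_eq allList allList_eq checkBelow checkBelow_spec checkBelow_of_block
  checkBlock checkBlock_join)

/-- The number of permutation generator `i`: `U`, `V`, `Z`, `F`. -/
def pgN (i : ℕ) : ℕ := [0, 1, 30, 31].getD i 0

/-- Permutation generator `i`. -/
noncomputable def pg (i : ℕ) : fourRu := gel (pgN i)

/-- The tabulated image of the first point of a line. -/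
noncomputable def pRep (e : ℕ) : ℕ := permTab.get 14 e

/-- The image of a point under permutation generator `i`. -/
noncomputable def pImg (i x : ℕ) : ℕ :=
  force (pRep (Nat.add (Nat.mul 4 (Nat.div x 4)) i)) fun y =>
    Nat.add (Nat.mul 4 (Nat.div y 4)) (Nat.mod (Nat.add y (Nat.mod x 4)) 4)

/-- One entry of the table. -/
noncomputable def permChk (e : ℕ) : Bool :=
  force (pgN (Nat.mod e 4)) fun s => appPt (gRow s) (gSum s) (Nat.mul 4 (Nat.div e 4)) (pRep e)

theorem perm_block0 : checkBlock permChk 16240 11 0 = true := by decide +kernel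

theorem perm_block1 : checkBlock permChk 16240 11 2048 = true := by decide +kernel

theorem perm_block2 : checkBlock permChk 16240 11 4096 = true := by decide +kernel

theorem perm_block3 : checkBlock permChk 16240 11 6144 = true := by decide +kernel

theorem perm_block4 : checkBlock permChk 16240 11 8192 = true := by decide +kernel

theorem perm_block5 : checkBlock permChk 16240 11 10240 = true := by decide +kernel

theorem perm_block6 : checkBlock permChk 16240 11 12288 = true := by decide +kernel

theorem perm_block7 : checkBlock permChk 16240 11 14336 = true := by decide +kernel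

theorem perm_all : checkBelow permChk 14 16240 = true :=
  checkBelow_of_block (by decide +kernel)
    (checkBlock_join 13 (checkBlock_join 12 (checkBlock_join 11 perm_block0 perm_block1)
      (checkBlock_join 11 perm_block2 perm_block3))
      (checkBlock_join 12 (checkBlock_join 11 perm_block4 perm_block5) (checkBlock_join 11 perm_block6 perm_block7)))

theorem pg_base : ∀ i : Fin 4, pgN i ∈ baseGens := by decide +kernel

attribute [local irreducible] pgN pRep appPt gRow gSum baseGens

theorem pImg_eq (i x : ℕ) : pImg i x = shiftPhase (pRep (4 * (x / 4) + i)) (x % 4) := by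
  rw [pImg, force_eq]
  rfl

theorem pImg_spec {i x : ℕ} (hi : i < 4) (hx : x < 16240) : move (pg i) x = pImg i x := by
  have h := checkBelow_spec perm_all (4 * (x / 4) + i) (by omega)
  rw [permChk, force_eq, (natOps _ _).2.2.2.2.2.2, (natOps _ _).1, (natOps _ _).2.1,
    show (4 * (x / 4) + i) % 4 = i by omega, show (4 * (x / 4) + i) / 4 = x / 4 by omega] at h
  rw [pImg_eq, pg]
  conv_lhs => rw [show x = shiftPhase (4 * (x / 4)) (x % 4) by unfold shiftPhase; omega]
  rw [move_shift _ (by omega), move_gel (pg_base ⟨i, hi⟩) (by omega) h]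

/-! ### Words -/

/-- The product of a word in the permutation generators, applied from left to right. -/
noncomputable def pWord (w : List ℕ) : fourRu := wprod pg w

/-- The image of a point under a word. -/
noncomputable def pEval : List ℕ → ℕ → ℕ :=
  fun w => List.rec (motive := fun _ => ℕ → ℕ) (fun x => x)
    (fun i _ ih x => force (pImg i x) fun y => ih y) w

theorem pEval_spec : ∀ {w : List ℕ}, (∀ i ∈ w, i < 4) → ∀ {x : ℕ}, x < 16240 →
    move (pWord w) x = pEval w x
  | [], _, x, hx => move_one hx
  | i :: w, h, x, hx => by
    have e : pEval (i :: w) x = force (pImg i x) fun y => pEval w y := rfl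
    have e1 := pImg_spec (h i (List.mem_cons_self ..)) hx
    rw [e, force_eq, pWord, wprod, move_mul _ _ hx, e1]
    exact pEval_spec (fun j hj => h j (List.mem_cons_of_mem _ hj)) (e1 ▸ move_lt _ hx)

theorem pWord_cons (i : ℕ) (w : List ℕ) : pWord (i :: w) = pWord w * pg i := rfl

theorem pWord_append : ∀ (v w : List ℕ), pWord (v ++ w) = pWord w * pWord v
  | [], w => by simp [pWord, wprod]
  | i :: v, w => by
    rw [List.cons_append, pWord_cons, pWord_append v w, pWord_cons, mul_assoc]

theorem pWord_pow (w : List ℕ) : ∀ n, pWord (List.replicate n w).flatten = pWord w ^ n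
  | 0 => rfl
  | n + 1 => by
    rw [List.replicate_succ, List.flatten_cons, pWord_append, pWord_pow w n, pow_succ]

theorem move_iel_pow : ∀ (a : ℕ) {x : ℕ}, x < 16240 → move (iel ^ a) x = shiftPhase x a
  | 0, x, hx => by rw [pow_zero, move_one hx]; unfold shiftPhase; omega
  | a + 1, x, hx => by
    rw [pow_succ', move_mul _ _ hx, move_iel_pow a hx, move_iel (shiftPhase_lt hx)]
    unfold shiftPhase
    omega

/-- A word is a scalar. -/
noncomputable def relChk (w : List ℕ) (a : ℕ) : Bool :=
  allList (fun k => Nat.beq (pEval w (fr k)) (shiftPhase (fr k) a)) (List.range 28) &&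
    allList (fun i => Nat.blt i 4) w

theorem relChk_spec {w : List ℕ} {a : ℕ} (h : relChk w a = true) : pWord w = iel ^ a := by
  simp only [relChk, allList_eq, List.all_eq_true, List.mem_range, Bool.and_eq_true, Nat.blt_eq] at h
  refine ext_frame fun k hk => ?_
  rw [pEval_spec h.2 (fr_lt hk), Nat.eq_of_beq_eq_true (h.1 k hk), move_iel_pow a (fr_lt hk)]

theorem rel_U : relChk (List.replicate 29 [0]).flatten 0 = true := by decide +kernel

theorem rel_V : relChk [1, 1] 0 = true := by decide +kernel

theorem rel_UV : relChk (List.replicate 15 [1, 0]).flatten 1 = true := by decide +kernel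

theorem U_pow : pg 0 ^ 29 = 1 := by
  have h := relChk_spec rel_U
  rw [pWord_pow, pow_zero] at h
  simpa [pWord, wprod] using h

theorem V_sq : pg 1 * pg 1 = 1 := by
  have h := relChk_spec rel_V
  rw [pow_zero] at h
  simpa [pWord, wprod, mul_assoc] using h

theorem UV_pow : (pg 0 * pg 1) ^ 15 = iel := by
  have h := relChk_spec rel_UV
  rw [pWord_pow, pow_one] at h
  simpa [pWord, wprod] using h

theorem pg_zero : pg 0 = gel 0 ∧ pg 1 = gel 1 := by
  with_unfolding_all exact ⟨rfl, rfl⟩

end Cfsg.Agent.RuAut
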