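import Cfsg.Agent.Lib.RuAut.Code
import Cfsg.Agent.Lib.RuAut.DataLines

/-!
# The table of minimal vectors
-/

set_option autoImplicit false

namespace Cfsg.Agent.RuAut

open Cfsg.Spor
open Cfsg.Agent.RuMin (num pos herm)
open Cfsg.Agent.Presented (force force_eq checkBelow checkBelow_spec)

/-- The representative of line `j`. -/
noncomputable def lineN (j : ℕ) : ℕ := lineTab.get 896 j

/-- An iterate of `f`, at most three times. -/
noncomputable def iter3 (f : ℕ → ℕ) (a c : ℕ) : ℕ :=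
  bif Nat.beq a 0 then c else bif Nat.beq a 1 then f c else bif Nat.beq a 2 then f (f c)
    else f (f (f c))

theorem iter3_cases (f : ℕ → ℕ) {a : ℕ} (ha : a < 4) (c : ℕ) :
    (a = 0 ∧ iter3 f a c = c) ∨ (a = 1 ∧ iter3 f a c = f c) ∨ (a = 2 ∧ iter3 f a c = f (f c)) ∨
      (a = 3 ∧ iter3 f a c = f (f (f c))) := by
  interval_cases a
  · exact .inl ⟨rfl, rfl⟩
  · exact .inr (.inl ⟨rfl, rfl⟩)
  · exact .inr (.inr (.inl ⟨rfl, rfl⟩))
  · exact .inr (.inr (.inr ⟨rfl, rfl⟩))

/-- Multiplication by a power of `i`. -/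
noncomputable def rotTo (a c : ℕ) : ℕ := iter3 rot a c

/-- The code of point `x`: line `x / 4`, phase `x % 4`. -/
noncomputable def ptc (x : ℕ) : ℕ := force (lineN (Nat.div x 4)) fun c => rotTo (Nat.mod x 4) c

theorem ptc_eq (x : ℕ) : ptc x = rotTo (x % 4) (lineN (x / 4)) := force_eq _ _

/-- The vector of point `x`. -/
noncomputable def pt (x : ℕ) : RuVec := dv (ptc x)

/-- A line representative is good, the least of its phases, and less than the next one. -/
noncomputable def lineChk (j : ℕ) : Bool :=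
  force (lineN j) fun c => okN c && Nat.blt c (rot c) && Nat.blt c (rot (rot c)) &&
    Nat.blt c (rot (rot (rot c))) && (bif Nat.blt (j + 1) 4060 then Nat.blt c (lineN (j + 1)) else true)

theorem line_all : checkBelow lineChk 12 4060 = true := by decide +kernel

attribute [local irreducible] lineN rot

theorem bif_true {b x : Bool} (h : (bif b then x else true) = true) (hb : b = true) : x = true := by
  subst hb; exact h

theorem line_facts {j : ℕ} (hj : j < 4060) : Ok (lineN j) ∧ lineN j < rot (lineN j) ∧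
    lineN j < rot (rot (lineN j)) ∧ lineN j < rot (rot (rot (lineN j))) ∧
    (j + 1 < 4060 → lineN j < lineN (j + 1)) := by
  have h := checkBelow_spec line_all j hj
  rw [lineChk, force_eq] at h
  simp only [Bool.and_eq_true, Nat.blt_eq] at h
  obtain ⟨⟨⟨⟨h1, h2⟩, h3⟩, h4⟩, h5⟩ := h
  exact ⟨okN_spec h1, h2, h3, h4, fun hlt => by
    have := bif_true h5 (by rw [Nat.blt_eq]; exact hlt)
    rwa [Nat.blt_eq] at this⟩

theorem rotTo_cases {a : ℕ} (ha : a < 4) (c : ℕ) :
    (a = 0 ∧ rotTo a c = c) ∨ (a = 1 ∧ rotTo a c = rot c) ∨ (a = 2 ∧ rotTo a c = rot (rot c)) ∨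
      (a = 3 ∧ rotTo a c = rot (rot (rot c))) :=
  iter3_cases rot ha c

theorem rotTo_spec {a c : ℕ} (ha : a < 4) (hc : Ok c) :
    Ok (rotTo a c) ∧ dv (rotTo a c) = gI ^ a • dv c := by
  obtain ⟨r1, e1⟩ := rot_spec hc
  obtain ⟨r2, e2⟩ := rot_spec r1
  obtain ⟨r3, e3⟩ := rot_spec r2
  rcases rotTo_cases ha c with ⟨rfl, h⟩ | ⟨rfl, h⟩ | ⟨rfl, h⟩ | ⟨rfl, h⟩ <;> rw [h]
  · exact ⟨hc, by simp⟩
  · exact ⟨r1, by simp [e1]⟩
  · exact ⟨r2, by rw [e2, e1, smul_smul, pow_two]⟩
  · exact ⟨r3, by rw [e3, e2, e1, smul_smul, smul_smul, pow_three]; ring_nf⟩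

theorem gI_pow_four : gI ^ 4 = (1 : GaussianInt) := by decide +kernel

theorem ok_ptc {x : ℕ} (hx : x < 16240) : Ok (ptc x) := by
  rw [ptc_eq]
  exact (rotTo_spec (Nat.mod_lt _ (by norm_num)) (line_facts (by omega)).1).1

theorem pt_eq {x : ℕ} (hx : x < 16240) : pt x = gI ^ (x % 4) • dv (lineN (x / 4)) := by
  rw [pt, ptc_eq]
  exact (rotTo_spec (Nat.mod_lt _ (by norm_num)) (line_facts (by omega)).1).2

/-- The point in phase `a` after `x`. -/
def shiftPhase (x a : ℕ) : ℕ := 4 * (x / 4) + (x + a) % 4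

theorem shiftPhase_lt {x a : ℕ} (hx : x < 16240) : shiftPhase x a < 16240 := by
  unfold shiftPhase; omega

theorem pt_shift {x : ℕ} (hx : x < 16240) (a : ℕ) : pt (shiftPhase x a) = gI ^ a • pt x := by
  rw [pt_eq (shiftPhase_lt hx), pt_eq hx, smul_smul]
  have h1 : shiftPhase x a / 4 = x / 4 := by unfold shiftPhase; omega
  have h2 : shiftPhase x a % 4 = (a + x % 4) % 4 := by unfold shiftPhase; omega
  rw [h1, h2, ← pow_add]
  congr 1
  conv_rhs => rw [← Nat.div_add_mod (a + x % 4) 4, pow_add, pow_mul, gI_pow_four, one_pow, one_mul]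

theorem line_strictMono {i j : ℕ} (hij : i < j) (hj : j < 4060) : lineN i < lineN j := by
  obtain ⟨d, rfl⟩ : ∃ d, j = i + 1 + d := ⟨j - i - 1, by omega⟩
  clear hij
  induction d with
  | zero => exact (line_facts (j := i) (by omega)).2.2.2.2 hj
  | succ d ih => exact (ih (by omega)).trans ((line_facts (j := i + 1 + d) (by omega)).2.2.2.2 hj)

theorem lt_rotTo {j a : ℕ} (hj : j < 4060) (ha : a < 4) (h0 : a ≠ 0) : lineN j < rotTo a (lineN j) := by
  obtain ⟨-, h1, h2, h3, -⟩ := line_facts hj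
  rcases rotTo_cases ha (lineN j) with ⟨rfl, h⟩ | ⟨rfl, h⟩ | ⟨rfl, h⟩ | ⟨rfl, h⟩
  · exact absurd rfl h0
  all_goals rw [h]; assumption

theorem line_smul_inj {i j a : ℕ} (hi : i < 4060) (hj : j < 4060) (ha : a < 4)
    (h : dv (lineN i) = gI ^ a • dv (lineN j)) : i = j ∧ a = 0 := by
  obtain ⟨hoj, hej⟩ := rotTo_spec ha (line_facts hj).1
  have h1 : lineN i = rotTo a (lineN j) := dv_inj (line_facts hi).1 hoj (by rw [h, hej])
  by_cases h0 : a = 0
  · subst h0
    refine ⟨?_, rfl⟩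
    rw [((rotTo_cases (a := 0) (by norm_num) (lineN j)).resolve_right (by simp)).2] at h1
    rcases lt_trichotomy i j with h' | h' | h'
    · exact absurd h1 (line_strictMono h' hj).ne
    · exact h'
    · exact absurd h1 (line_strictMono h' hi).ne'
  · have hlt : lineN j < lineN i := h1 ▸ lt_rotTo hj ha h0
    obtain ⟨hoi, hei⟩ := rotTo_spec (a := 4 - a) (by omega) (line_facts hi).1
    have h2 : lineN j = rotTo (4 - a) (lineN i) := dv_inj (line_facts hj).1 hoi (by
      rw [hei, h, smul_smul, ← pow_add, Nat.sub_add_cancel (by omega), gI_pow_four, one_smul])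
    have := lt_rotTo hi (a := 4 - a) (by omega) (by omega)
    omega

theorem pt_inj {x y : ℕ} (hx : x < 16240) (hy : y < 16240) (h : pt x = pt y) : x = y := by
  rw [pt_eq hx, pt_eq hy] at h
  have h' : dv (lineN (x / 4)) = gI ^ ((4 - x % 4 + y % 4) % 4) • dv (lineN (y / 4)) := by
    have e : gI ^ ((4 - x % 4 + y % 4) % 4) = gI ^ (4 - x % 4) * gI ^ (y % 4) := by
      rw [← pow_add]
      conv_rhs => rw [← Nat.div_add_mod (4 - x % 4 + y % 4) 4, pow_add, pow_mul, gI_pow_four, one_pow, one_mul]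
    rw [e, ← smul_smul, ← h, smul_smul, ← pow_add, Nat.sub_add_cancel (by omega), gI_pow_four, one_smul]
  obtain ⟨h1, h2⟩ := line_smul_inj (by omega) (by omega) (Nat.mod_lt _ (by norm_num)) h'
  omega

end Cfsg.Agent.RuAut
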