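import Cfsg.Agent.Lib.RuAut.Lattice
import Cfsg.Agent.Lib.RuAut.DataCode

/-!
# The residue code of the lattice

The parities of the 56 coordinates of a lattice vector form a word of a binary code of dimension 19; its
1709 words of weight at most 16 are found by evaluating all weights at once, bit-sliced.
-/

set_option autoImplicit false

namespace Cfsg.Agent.RuAut

open Cfsg.Spor
open Cfsg.Agent.RuMin (num pos herm)
open Cfsg.Agent.Presented (force force_eq checkBelow checkBelow_spec)

/-- The pivot of a row. -/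
def pivN (r : ℕ) : ℕ := pivList.getD r 0

/-- A row. -/
def rowN (r : ℕ) : ℕ := rowList.getD r 0

/-- The residue modulo 4 of a coordinate of the lattice vector attached to a row. -/
def resD (r k : ℕ) : ℕ := dgt (rowCert.getD r (0, [])).1 k

/-- A pair of residues as a pair of integers. -/
def toZ (e : ℕ) : ℤ × ℤ := (((e % 4 : ℕ) : ℤ), ((e / 4 : ℕ) : ℤ))

/-- The lattice vector of a row. -/
def rowVec (r : ℕ) : RuVec := RuMin.lat ((rowCert.getD r (0, [])).2.map toZ)

/-- The residues of the coordinates of a combination. -/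
def latRes (cs : List ℕ) : List ℕ :=
  let v := RuMin.combL (cs.map toZ) RuMin.basis
  v.map (fun z => (z.1 % 4).toNat) ++ v.map (fun z => (z.2 % 4).toNat)

theorem latRes_spec {cs t : List ℕ} (h : latRes cs = t) (ht : t.length = 56) {k : ℕ} (hk : k < 56) :
    rc (RuMin.lat (cs.map toZ)) k % 4 = (t.getD k 0 : ℤ) := by
  have hlen : (RuMin.combL (cs.map toZ) RuMin.basis).length = 28 := by
    have := congrArg List.length h
    simp [latRes, ht] at this
    omega
  subst h
  have hn : ∀ z : ℤ, ((z % 4).toNat : ℤ) = z % 4 := fun z => Int.toNat_of_nonneg (Int.emod_nonneg _ (by norm_num))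
  simp only [latRes, RuMin.lat, rc, RuMin.vec, RuMin.toG]
  set v := RuMin.combL (cs.map toZ) RuMin.basis
  by_cases hk' : k < 28
  · rw [if_pos hk', num_pos k hk', List.getD_append _ _ _ _ (by simp [hlen, hk']), List.getD_eq_getElem _ _ (by simp [hlen, hk']),
      List.getD_eq_getElem _ _ (by simp [hlen, hk']), List.getElem_map, hn]
  · rw [if_neg hk', num_pos (k - 28) (by omega), List.getD_append_right _ _ _ _ (by simp [hlen]; omega), List.length_map, hlen,
      List.getD_eq_getElem _ _ (by simp [hlen]; omega), List.getD_eq_getElem _ _ (by simp [hlen]; omega),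
      List.getElem_map, hn]

theorem row_cert : ∀ r : Fin 19,
    latRes (rowCert.getD r (0, [])).2 = (List.range 56).map (resD r) ∧
      (∀ k : Fin 56, Nat.testBit (rowN r) k = decide (resD r k % 2 = 1) ∧ resD r k < 4) ∧
      (rowCert.getD r (0, [])).1 = pk (resD r) 56 := by decide +kernel

theorem rowVec_mem (r : ℕ) : rowVec r ∈ RuMin.span := RuMin.lat_mem _

/-- A congruence modulo 4 satisfied by the lattice vectors. -/
theorem four_dvd_sum {x u : RuVec} (hx : x ∈ RuMin.span) (hu : u ∈ RuMin.span) {t : ℕ → ℤ}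
    (ht : ∀ k, k < 56 → rc u k % 4 = t k % 4) :
    (∑ k ∈ Finset.range 56, rc x k * t k) % 4 = 0 := by
  obtain ⟨c, hc⟩ := RuMin.four_dvd_herm hx hu
  have he : (herm x u).re = 4 * c.re := by rw [hc]; simp
  rw [herm_re] at he
  have hm : ∀ k ∈ Finset.range 56, (rc x k * t k) % 4 = (rc x k * rc u k) % 4 := fun k hk => by
    rw [Int.mul_emod, ← ht k (Finset.mem_range.1 hk), ← Int.mul_emod]
  rw [Finset.sum_int_mod, Finset.sum_congr rfl hm, ← Finset.sum_int_mod, he]
  simp

theorem row_congr {x : RuVec} (hx : x ∈ RuMin.span) {r : ℕ} (hr : r < 19) :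
    (∑ k ∈ Finset.range 56, rc x k * (resD r k : ℤ)) % 4 = 0 :=
  four_dvd_sum hx (rowVec_mem r) fun k hk => by
    rw [rowVec, latRes_spec (row_cert ⟨r, hr⟩).1 (by simp) hk, List.getD_eq_getElem _ _ (by simp [hk])]
    have := ((row_cert ⟨r, hr⟩).2.1 ⟨k, hk⟩).2
    simp at this ⊢
    omega

/-! ### Parity checks -/

/-- The parity of a coordinate. -/
def xb (x : RuVec) (k : ℕ) : ZMod 2 := (rc x k : ZMod 2)

/-- A bit as an element of the field with two elements. -/
def bz (b : Bool) : ZMod 2 := if b then 1 else 0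

theorem bz_xor : ∀ a b : Bool, bz (a ^^ b) = bz a + bz b := by decide +kernel

theorem bz_inj : ∀ a b : Bool, bz a = bz b → a = b := by decide +kernel

/-- The functional given by a mask. -/
def maskFun (x : RuVec) (h : ℕ) : ZMod 2 :=
  ∑ k ∈ Finset.range 56, bz (h.testBit k) * xb x k

theorem maskFun_xor (x : RuVec) (a b : ℕ) : maskFun x (a ^^^ b) = maskFun x a + maskFun x b := by
  simp only [maskFun, Nat.testBit_xor, bz_xor, add_mul, Finset.sum_add_distrib]

theorem maskFun_pow (x : RuVec) {k : ℕ} (hk : k < 56) : maskFun x (2 ^ k) = xb x k := by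
  rw [maskFun, Finset.sum_eq_single k]
  · simp [bz, Nat.testBit_two_pow_self]
  · intro j _ hne; simp [bz, Nat.testBit_two_pow_of_ne (Ne.symm hne)]
  · intro h; exact absurd (Finset.mem_range.2 hk) h

/-- The exclusive sum of the values of `f` at the rows selected by `p`, among the first `n`. -/
def selXor (f : ℕ → ℕ) (p : ℕ → Bool) : ℕ → ℕ
  | 0 => 0
  | n + 1 => selXor f p n ^^^ bif p n then f n else 0

theorem testBit_selXor (f : ℕ → ℕ) (p : ℕ → Bool) (k : ℕ) : ∀ n,
    bz ((selXor f p n).testBit k) = ∑ r ∈ Finset.range n, bz (p r) * bz ((f r).testBit k)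
  | 0 => by simp [selXor, bz]
  | n + 1 => by
    rw [selXor, Nat.testBit_xor, bz_xor, testBit_selXor f p k n, Finset.sum_range_succ]
    congr 1
    cases p n <;> simp [bz]

theorem maskFun_selXor (x : RuVec) (f : ℕ → ℕ) (p : ℕ → Bool) : ∀ n,
    maskFun x (selXor f p n) = ∑ r ∈ Finset.range n, bz (p r) * maskFun x (f r)
  | 0 => by simp [selXor, maskFun, bz]
  | n + 1 => by
    rw [selXor, maskFun_xor, maskFun_selXor x f p n, Finset.sum_range_succ]
    refine congrArg _ ?_
    cases p n <;> simp [bz, maskFun]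

theorem piv_cert : (∀ r : Fin 19, pivN r < 56) ∧
    ∀ q r : Fin 19, Nat.testBit (rowN r) (pivN q) = decide (q = r) := by decide +kernel

/-- The expected parity check at coordinate `k`. -/
def checkMask (k : ℕ) : ℕ := 2 ^ k ^^^ selXor (fun r => 2 ^ pivN r) (fun r => (rowN r).testBit k) 19

/-- The residues of twice a mask. -/
def maskRes (h : ℕ) : List ℕ := (List.range 56).map fun k => bif h.testBit k then 2 else 0

theorem dual_cert : ∀ i : Fin 37, latRes (dualCert.getD i []) = maskRes (dualList.getD i 0) := by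
  decide +kernel

theorem dual_cover : ∀ k : Fin 56, (∃ r : Fin 19, pivN r = k) ∨
    ∃ i : Fin 37, dualList.getD i 0 = checkMask k := by decide +kernel

theorem dual_congr {x : RuVec} (hx : x ∈ RuMin.span) {i : ℕ} (hi : i < 37) :
    maskFun x (dualList.getD i 0) = 0 := by
  have h : (∑ k ∈ Finset.range 56,
      rc x k * (if (dualList.getD i 0).testBit k then 2 else 0 : ℤ)) % 4 = 0 :=
    four_dvd_sum hx (RuMin.lat_mem ((dualCert.getD i []).map toZ)) fun k hk => by
      rw [latRes_spec (dual_cert ⟨i, hi⟩) (by simp [maskRes]) hk, maskRes,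
        List.getD_eq_getElem _ _ (by simp [hk]), List.getElem_map, List.getElem_range]
      cases Nat.testBit (dualList.getD i 0) k <;> simp
  rw [show (∑ k ∈ Finset.range 56, rc x k * (if (dualList.getD i 0).testBit k then 2 else 0 : ℤ)) =
    2 * ∑ k ∈ Finset.range 56, (if (dualList.getD i 0).testBit k then rc x k else 0) by
      rw [Finset.mul_sum]; exact Finset.sum_congr rfl fun k _ => by split <;> ring] at h
  have h2 : (∑ k ∈ Finset.range 56, (if (dualList.getD i 0).testBit k then rc x k else 0)) % 2 = 0 := by omega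
  have h3 : ((∑ k ∈ Finset.range 56, (if (dualList.getD i 0).testBit k then rc x k else 0) : ℤ) : ZMod 2) = 0 :=
    (ZMod.intCast_zmod_eq_zero_iff_dvd _ 2).2 (Int.dvd_of_emod_eq_zero h2)
  rw [Int.cast_sum] at h3
  rw [maskFun, ← h3]
  exact Finset.sum_congr rfl fun k _ => by cases (dualList.getD i 0).testBit k <;> simp [bz, xb]

/-- The word with index `i`. -/
def wordMask (i : ℕ) : ℕ := selXor rowN i.testBit 19

/-- The index of the parity word of a vector. -/
def wordIdx (x : RuVec) : ℕ := selXor (fun r => 2 ^ r) (fun r => decide (xb x (pivN r) = 1)) 19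

theorem selXor_lt {f : ℕ → ℕ} {p : ℕ → Bool} {e : ℕ} : ∀ n, (∀ r, r < n → f r < 2 ^ e) → selXor f p n < 2 ^ e
  | 0, _ => by simp [selXor]
  | n + 1, h => by
    rw [selXor]
    refine Nat.xor_lt_two_pow (selXor_lt n fun r hr => h r (by omega)) ?_
    cases p n
    · simp
    · simpa using h n (by omega)

theorem wordIdx_lt (x : RuVec) : wordIdx x < 2 ^ 19 :=
  selXor_lt 19 fun r hr => Nat.pow_lt_pow_right (by norm_num) hr

theorem zmod2_cases : ∀ a : ZMod 2, bz (decide (a = 1)) = a := by decide +kernel

theorem testBit_wordIdx (x : RuVec) {r : ℕ} (hr : r < 19) :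
    bz ((wordIdx x).testBit r) = xb x (pivN r) := by
  rw [wordIdx, testBit_selXor, Finset.sum_eq_single r]
  · rw [zmod2_cases, Nat.testBit_two_pow_self]; simp [bz]
  · intro j _ hne; simp [bz, Nat.testBit_two_pow_of_ne hne]
  · intro h; exact absurd (Finset.mem_range.2 hr) h

/-- The parities of a lattice vector form the word with index `wordIdx x`. -/
theorem parity_eq {x : RuVec} (hx : x ∈ RuMin.span) {k : ℕ} (hk : k < 56) :
    xb x k = bz ((wordMask (wordIdx x)).testBit k) := by
  rw [wordMask, testBit_selXor, Finset.sum_congr rfl fun r hr => by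
    rw [testBit_wordIdx x (Finset.mem_range.1 hr)]]
  rcases dual_cover ⟨k, hk⟩ with ⟨r, hr⟩ | ⟨i, hi⟩
  · have hr' : pivN r = k := hr
    subst hr'
    rw [Finset.sum_eq_single r.val]
    · simp [bz, (piv_cert).2 r r]
    · intro j hj hne
      have := (piv_cert).2 r ⟨j, Finset.mem_range.1 hj⟩
      simp only [this, bz]
      rw [if_neg]
      · ring
      · simpa [Fin.ext_iff] using fun e => hne e.symm
    · intro h; exact absurd (Finset.mem_range.2 r.isLt) h
  · have h := dual_congr hx i.isLt
    rw [hi, checkMask, maskFun_xor, maskFun_pow x hk, maskFun_selXor] at h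
    have e : ∀ r ∈ Finset.range 19, bz ((rowN r).testBit k) * maskFun x (2 ^ pivN r) =
        xb x (pivN r) * bz ((rowN r).testBit k) := fun r hr => by
      rw [maskFun_pow x (piv_cert.1 ⟨r, Finset.mem_range.1 hr⟩), mul_comm]
    rw [Finset.sum_congr rfl e] at h
    exact (eq_neg_of_add_eq_zero_left h).trans (ZMod.neg_eq_self_mod_two _)

theorem odd_iff {x : RuVec} (hx : x ∈ RuMin.span) {k : ℕ} (hk : k < 56) :
    rc x k % 2 = 1 ↔ (wordMask (wordIdx x)).testBit k = true := by
  have h := parity_eq hx hk
  rw [xb] at h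
  constructor
  · intro h1
    by_contra h2
    simp only [Bool.not_eq_true] at h2
    rw [h2] at h
    have := (ZMod.intCast_zmod_eq_zero_iff_dvd (rc x k) 2).1 h
    omega
  · intro h1
    rw [h1] at h
    by_contra h2
    have h0 : ((rc x k : ℤ) : ZMod 2) = 0 := (ZMod.intCast_zmod_eq_zero_iff_dvd _ 2).2 (by omega)
    rw [h0] at h
    exact absurd h (by decide)

/-! ### The light words -/

/-- All ones on `2 ^ d` bits. -/
noncomputable def onesN (d : ℕ) : ℕ := Nat.sub (Nat.pow 2 (Nat.pow 2 d)) 1

theorem testBit_onesN (d j : ℕ) : (onesN d).testBit j = decide (j < 2 ^ d) :=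
  Nat.testBit_two_pow_sub_one _ _

theorem natBits (a b : ℕ) : Nat.xor a b = a ^^^ b ∧ Nat.lor a b = a ||| b ∧ Nat.land a b = a &&& b :=
  ⟨rfl, rfl, rfl⟩

/-- Coordinate `k` of all words built from the first `n` rows, bit-sliced. -/
noncomputable def colAll (k : ℕ) : ℕ → ℕ :=
  fun n => Nat.rec (motive := fun _ => ℕ) 0
    (fun d ih => force ih fun c => Nat.lor c
      (Nat.shiftLeft (bif (rowN d).testBit k then Nat.xor c (onesN d) else c) (Nat.pow 2 d))) n

theorem colAll_spec (k : ℕ) : ∀ n, colAll k n < 2 ^ 2 ^ n ∧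
    ∀ i, i < 2 ^ n → bz ((colAll k n).testBit i) = bz ((selXor rowN i.testBit n).testBit k)
  | 0 => ⟨by simp [colAll], fun i _ => by simp [colAll, selXor]⟩
  | d + 1 => by
    obtain ⟨hlt, hbit⟩ := colAll_spec k d
    have e : colAll k (d + 1) = force (colAll k d) fun c => Nat.lor c
      (Nat.shiftLeft (bif (rowN d).testBit k then Nat.xor c (onesN d) else c) (Nat.pow 2 d)) := rfl
    rw [e, force_eq]
    set c := colAll k d
    set P := (bif (rowN d).testBit k then Nat.xor c (onesN d) else c) with hP
    have hones : ∀ j, (onesN d).testBit j = decide (j < 2 ^ d) := testBit_onesN d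
    have hPlt : P < 2 ^ 2 ^ d := by
      rw [hP]
      cases (rowN d).testBit k
      · simpa using hlt
      · exact Nat.xor_lt_two_pow hlt (by show 2 ^ 2 ^ d - 1 < _; have := Nat.two_pow_pos (2 ^ d); omega)
    constructor
    · refine Nat.or_lt_two_pow (lt_of_lt_of_le hlt (Nat.pow_le_pow_right (by norm_num) ?_)) ?_
      · rw [pow_succ]; omega
      · show P <<< 2 ^ d < _
        rw [Nat.shiftLeft_eq, pow_succ, mul_two, pow_add]
        exact Nat.mul_lt_mul_of_pos_right hPlt (Nat.two_pow_pos _)
    · intro i hi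
      show bz (Nat.testBit (c ||| P <<< 2 ^ d) i) = _
      rw [Nat.testBit_or, Nat.testBit_shiftLeft, selXor, Nat.testBit_xor, bz_xor]
      by_cases hid : i < 2 ^ d
      · rw [show decide (2 ^ d ≤ i) = false by simpa using hid, Bool.false_and, Bool.or_false, hbit i hid,
          Nat.testBit_lt_two_pow hid]
        simp [bz]
      · obtain ⟨j, rfl⟩ : ∃ j, i = 2 ^ d + j := ⟨i - 2 ^ d, by omega⟩
        have hj : j < 2 ^ d := by rw [pow_succ] at hi; omega
        have hsel : ∀ n, n ≤ d → selXor rowN (2 ^ d + j).testBit n = selXor rowN j.testBit n := by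
          intro n
          induction n with
          | zero => exact fun _ => rfl
          | succ n ih =>
            intro hn
            rw [selXor, selXor, ih (by omega), Nat.testBit_two_pow_add_gt (by omega)]
        rw [show c.testBit (2 ^ d + j) = false from
            Nat.testBit_lt_two_pow (lt_of_lt_of_le hlt (Nat.pow_le_pow_right (by norm_num) (by omega))),
          Bool.false_or, show decide (2 ^ d ≤ 2 ^ d + j) = true by simp, Bool.true_and, Nat.add_sub_cancel_left,
          hsel d le_rfl, Nat.testBit_two_pow_add_eq, Nat.testBit_lt_two_pow hj, ← hbit j hj, hP]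
        cases hrk : (rowN d).testBit k
        · simp [bz, hrk]
        · show bz ((c ^^^ onesN d).testBit j) = _
          rw [Nat.testBit_xor, bz_xor, hones]
          simp [bz, hj, hrk]

/-- Six bit slices, one after the other. -/
structure Slices where
  /-- Slice 0. -/
  s0 : ℕ
  /-- Slice 1. -/
  s1 : ℕ
  /-- Slice 2. -/
  s2 : ℕ
  /-- Slice 3. -/
  s3 : ℕ
  /-- Slice 4. -/
  s4 : ℕ
  /-- Slice 5. -/
  s5 : ℕ

/-- The number read in position `i`. -/
def Slices.val (S : Slices) (i : ℕ) : ℕ :=
  (S.s0.testBit i).toNat + 2 * (S.s1.testBit i).toNat + 4 * (S.s2.testBit i).toNat +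
    8 * (S.s3.testBit i).toNat + 16 * (S.s4.testBit i).toNat + 32 * (S.s5.testBit i).toNat

/-- Adds one bit in every position. -/
noncomputable def Slices.add (S : Slices) (c : ℕ) : Slices :=
  let c1 := Nat.land S.s0 c
  let c2 := Nat.land S.s1 c1
  let c3 := Nat.land S.s2 c2
  let c4 := Nat.land S.s3 c3
  let c5 := Nat.land S.s4 c4
  ⟨Nat.xor S.s0 c, Nat.xor S.s1 c1, Nat.xor S.s2 c2, Nat.xor S.s3 c3, Nat.xor S.s4 c4, Nat.xor S.s5 c5⟩

theorem bit_add : ∀ a b c d e f g : Bool,
    a.toNat + 2 * b.toNat + 4 * c.toNat + 8 * d.toNat + 16 * e.toNat + 32 * f.toNat + g.toNat < 64 →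
    (a ^^ g).toNat + 2 * (b ^^ (a && g)).toNat + 4 * (c ^^ (b && (a && g))).toNat +
        8 * (d ^^ (c && (b && (a && g)))).toNat + 16 * (e ^^ (d && (c && (b && (a && g))))).toNat +
        32 * (f ^^ (e && (d && (c && (b && (a && g)))))).toNat =
      a.toNat + 2 * b.toNat + 4 * c.toNat + 8 * d.toNat + 16 * e.toNat + 32 * f.toNat + g.toNat := by
  decide +kernel

theorem Slices.val_add (S : Slices) (c i : ℕ) (h : S.val i + (c.testBit i).toNat < 64) :
    (S.add c).val i = S.val i + (c.testBit i).toNat := by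
  simp only [Slices.val, Slices.add, show ∀ a b : ℕ, Nat.land a b = a &&& b from fun _ _ => rfl,
    show ∀ a b : ℕ, Nat.xor a b = a ^^^ b from fun _ _ => rfl, Nat.testBit_and, Nat.testBit_xor] at h ⊢
  exact bit_add _ _ _ _ _ _ _ h

/-- Makes the kernel evaluate all slices. -/
noncomputable def forceS {α : Sort*} (S : Slices) (f : Slices → α) : α :=
  force S.s0 fun a => force S.s1 fun b => force S.s2 fun c => force S.s3 fun d => force S.s4 fun e =>
    force S.s5 fun g => f ⟨a, b, c, d, e, g⟩

theorem forceS_eq {α : Sort*} (S : Slices) (f : Slices → α) : forceS S f = f S := by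
  simp [forceS]

/-- The weights of all words on the first `n` coordinates. -/
noncomputable def weights {α : Type} : ℕ → (Slices → α) → α :=
  fun n => Nat.rec (motive := fun _ => (Slices → α) → α) (fun f => f ⟨0, 0, 0, 0, 0, 0⟩)
    (fun k ih f => ih fun S => force (colAll k 19) fun c => forceS (S.add c) f) n

/-- The words of weight at most 16, as a mask. -/
noncomputable def lightMask : ℕ :=
  weights 56 fun S => Nat.xor (onesN 19)
    (Nat.lor S.s5 (Nat.land S.s4 (Nat.lor (Nat.lor S.s3 S.s2) (Nat.lor S.s1 S.s0))))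

/-- A set as a mask. -/
noncomputable def listMask : List ℕ → ℕ :=
  fun l => List.rec (motive := fun _ => ℕ) 0 (fun a _ ih => force ih fun m => Nat.lor (Nat.pow 2 a) m) l

theorem listMask_spec (l : List ℕ) (i : ℕ) : (listMask l).testBit i = decide (i ∈ l) := by
  induction l with
  | nil => simp [listMask]
  | cons a l ih =>
    have e : listMask (a :: l) = force (listMask l) fun m => Nat.lor (Nat.pow 2 a) m := rfl
    rw [e, force_eq]
    show Nat.testBit (2 ^ a ||| listMask l) i = _
    rw [Nat.testBit_or, ih, Nat.testBit_two_pow]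
    by_cases hia : i = a
    · simp [hia]
    · simp [hia, Ne.symm hia]

theorem light_cert : lightMask = listMask lightList := by decide +kernel

/-- The weight of a word on the first `n` coordinates. -/
def wt (w n : ℕ) : ℕ := ∑ k ∈ Finset.range n, (w.testBit k).toNat

theorem weights_spec {α : Type} : ∀ (n : ℕ), n ≤ 63 → ∀ f : Slices → α,
    ∃ S : Slices, weights n f = f S ∧ ∀ i, i < 2 ^ 19 → S.val i = wt (wordMask i) n
  | 0, _, f => ⟨⟨0, 0, 0, 0, 0, 0⟩, rfl, fun i _ => by simp [Slices.val, wt]⟩
  | n + 1, hn, f => by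
    obtain ⟨S, e, hS⟩ := weights_spec n (by omega) fun S => force (colAll n 19) fun c => forceS (S.add c) f
    refine ⟨S.add (colAll n 19), ?_, fun i hi => ?_⟩
    · show weights n (fun S => force (colAll n 19) fun c => forceS (S.add c) f) = _
      rw [e, force_eq, forceS_eq]
    · have hb : (colAll n 19).testBit i = (wordMask i).testBit n := bz_inj _ _ ((colAll_spec n 19).2 i hi)
      have hle : wt (wordMask i) n ≤ n := by
        refine le_trans (Finset.sum_le_card_nsmul _ _ 1 fun k _ => Bool.toNat_le _) ?_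
        simp
      have := Bool.toNat_le ((wordMask i).testBit n)
      rw [Slices.val_add _ _ _ (by rw [hS i hi, hb]; omega), hS i hi, hb, wt, wt, Finset.sum_range_succ]

theorem slice_light : ∀ a b c d e f : Bool,
    a.toNat + 2 * b.toNat + 4 * c.toNat + 8 * d.toNat + 16 * e.toNat + 32 * f.toNat ≤ 16 →
      (f || (e && ((d || c) || (b || a)))) = false := by decide +kernel

theorem light_mem {i : ℕ} (hi : i < 2 ^ 19) (hw : wt (wordMask i) 56 ≤ 16) : i ∈ lightList := by
  have h := congrArg (fun m => Nat.testBit m i) light_cert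
  simp only [listMask_spec] at h
  obtain ⟨S, e, hS⟩ := weights_spec 56 (by norm_num) fun S : Slices => Nat.xor (onesN 19)
    (Nat.lor S.s5 (Nat.land S.s4 (Nat.lor (Nat.lor S.s3 S.s2) (Nat.lor S.s1 S.s0))))
  rw [show lightMask = _ from e] at h
  simp only [(natBits _ _).1, (natBits _ _).2.1, (natBits _ _).2.2, Nat.testBit_xor, testBit_onesN,
    Nat.testBit_or, Nat.testBit_and] at h
  rw [slice_light _ _ _ _ _ _ (by rw [← hS i hi] at hw; exact hw)] at h
  rw [decide_eq_true hi] at h
  exact of_decide_eq_true h.symm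

end Cfsg.Agent.RuAut
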