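import Cfsg.Agent.Lib.RuAut.Gens

/-!
# The strong generators as products of `U` and `V`
-/

set_option autoImplicit false
set_option maxRecDepth 20000

namespace Cfsg.Agent.RuAut

open Cfsg.Spor
open Cfsg.Agent.Presented (force force_eq allList allList_eq checkBelow checkBelow_spec)

/-- The group generated by `U` and `V`. -/
def uvGrp : Subgroup fourRu := Subgroup.closure {gel 0, gel 1}

/-- Element `g` moves the frame as generator `s`. -/
def Real (s : ℕ) (g : fourRu) : Prop := ∀ k, k < 28 → move g (fr k) = (gW s).getD k 0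

/-- The word of strong generator `4 + 2 i` with its chains. -/
def wrd (i : ℕ) : ℕ × List ℕ × List (List ℕ) := wordTab.getD i (0, [], [])

/-- A chain of generators below `b`. -/
noncomputable def stepChk (b : ℕ) : List ℕ → List ℕ → ℕ → ℕ → Bool :=
  fun w => List.rec (motive := fun _ => List ℕ → ℕ → ℕ → Bool) (fun cs cur tgt => cs.isEmpty && Nat.beq cur tgt)
    (fun g _ ih cs cur tgt => match cs with
      | [] => false
      | c :: cs => Nat.blt g b && appPt (gRow g) (gSum g) cur c && ih cs c tgt) w

/-- The strong generators `4 + 2 i` and `5 + 2 i` are in order. -/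
noncomputable def strongOK (i : ℕ) : Bool :=
  force (Nat.add 4 (Nat.mul 2 i)) fun s => Nat.beq (wrd i).1 s &&
    allList (fun k => force (fr k) fun a =>
      stepChk s (wrd i).2.1 ((wrd i).2.2.getD k []) a ((gW s).getD k 0) &&
        appPt (gRow s) (gSum s) ((gW (s + 1)).getD k 0) a) (List.range 28)

theorem strong_all : checkBelow strongOK 4 13 = true := by decide +kernel

/-- Generators given directly move the frame as stated. -/
noncomputable def frameOK (s : ℕ) : Bool :=
  force (gRow s) fun K => force (gSum s) fun CS =>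
    allList (fun k => appPt K CS (fr k) ((gW s).getD k 0)) (List.range 28)

theorem frame_base : allList frameOK [0, 1, 2, 3, 30, 31, 32, 33] = true := by decide +kernel

theorem inv_uv : gInv 0 = 2 ∧ gInv 1 = 3 := by decide +kernel

/-- The product of a word, applied from left to right. -/
noncomputable def wprod (E : ℕ → fourRu) : List ℕ → fourRu
  | [] => 1
  | g :: w => wprod E w * E g

theorem wprod_mem {E : ℕ → fourRu} {H : Subgroup fourRu} (hE : ∀ g, E g ∈ H) : ∀ w, wprod E w ∈ H
  | [] => H.one_mem
  | g :: w => H.mul_mem (wprod_mem hE w) (hE g)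

attribute [local irreducible] gW gRow gSum gInv fr wrd pt ptc appPt baseGens

theorem step_spec {b : ℕ} {E : ℕ → fourRu}
    (hE : ∀ g, g < b → ∀ x y, x < 16240 → appPt (gRow g) (gSum g) x y = true → move (E g) x = y) :
    ∀ {w cs : List ℕ} {cur tgt : ℕ}, cur < 16240 → stepChk b w cs cur tgt = true → move (wprod E w) cur = tgt
  | [], cs, cur, tgt, hcur, h => by
    change (cs.isEmpty && Nat.beq cur tgt) = true at h
    rw [Bool.and_eq_true] at h
    rw [wprod, move_one hcur]
    exact Nat.eq_of_beq_eq_true h.2
  | g :: w, [], cur, tgt, _, h => Bool.noConfusion h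
  | g :: w, c :: cs, cur, tgt, hcur, h => by
    change (Nat.blt g b && appPt (gRow g) (gSum g) cur c && stepChk b w cs c tgt) = true at h
    rw [Bool.and_eq_true, Bool.and_eq_true, Nat.blt_eq] at h
    have e := hE g h.1.1 cur c hcur h.1.2
    rw [wprod, move_mul _ _ hcur, e]
    exact step_spec hE (by rw [← e]; exact move_lt _ hcur) h.2

theorem mem_baseGens {s : ℕ} (h : s ∈ [0, 1, 2, 3, 30, 31, 32, 33]) : s ∈ baseGens := by
  with_unfolding_all exact h

theorem real_base {s : ℕ} (h : s ∈ [0, 1, 2, 3, 30, 31, 32, 33]) : Real s (gel s) := by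
  have hf := frame_base
  rw [allList_eq, List.all_eq_true] at hf
  have hf := hf s h
  simp only [frameOK, force_eq, allList_eq, List.all_eq_true, List.mem_range] at hf
  exact fun k hk => move_gel (mem_baseGens h) (fr_lt hk) (hf k hk)

theorem exists_strong : ∀ s, s < 30 → ∃ g ∈ uvGrp, Real s g := by
  intro s
  induction s using Nat.strong_induction_on with
  | _ s ih =>
    intro hs
    by_cases h4 : s < 4
    · have hU : gel 0 ∈ uvGrp := Subgroup.subset_closure (by simp)
      have hV : gel 1 ∈ uvGrp := Subgroup.subset_closure (by simp)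
      refine ⟨gel s, ?_, real_base (by simp; omega)⟩
      rcases (by omega : s = 0 ∨ s = 1 ∨ s = 2 ∨ s = 3) with rfl | rfl | rfl | rfl
      · exact hU
      · exact hV
      · rw [← inv_uv.1, gel_inv (mem_baseGens (by simp))]; exact uvGrp.inv_mem hU
      · rw [← inv_uv.2, gel_inv (mem_baseGens (by simp))]; exact uvGrp.inv_mem hV
    · obtain ⟨i, hi, hsi⟩ : ∃ i, i < 13 ∧ (s = 4 + 2 * i ∨ s = 4 + 2 * i + 1) := ⟨(s - 4) / 2, by omega, by omega⟩
      have hc := checkBelow_spec strong_all i hi
      simp only [strongOK, force_eq, allList_eq, List.all_eq_true, List.mem_range, Bool.and_eq_true,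
        (natOps _ _).2.1, (natOps _ _).2.2.2.1] at hc
      have hE : ∀ g, ∃ h ∈ uvGrp, g < 4 + 2 * i → Real g h := fun g => by
        by_cases hg : g < 4 + 2 * i
        · obtain ⟨h, hm, hr⟩ := ih g (by omega) (by omega)
          exact ⟨h, hm, fun _ => hr⟩
        · exact ⟨1, uvGrp.one_mem, fun h => absurd h hg⟩
      choose E hEm hEr using hE
      have hev : Real (4 + 2 * i) (wprod E (wrd i).2.1) := fun k hk =>
        step_spec (fun g hg x y hx h => move_of_frame (by omega) (hEr g hg) hx h) (fr_lt hk) (hc.2 k hk).1
      rcases hsi with rfl | rfl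
      · exact ⟨_, wprod_mem hEm _, hev⟩
      · refine ⟨_, uvGrp.inv_mem (wprod_mem hEm (wrd i).2.1), fun k hk => ?_⟩
        have hW := (row_facts (show 4 + 2 * i + 1 < 34 by omega)).1.2 k hk
        rw [← move_of_frame (by omega) hev hW (hc.2 k hk).2, move_inv _ hW]

/-- Generator `s < 30`, as a product of `U` and `V`. -/
noncomputable def sel (s : ℕ) : fourRu :=
  if h : s < 30 then Classical.choose (exists_strong s h) else 1

theorem sel_mem (s : ℕ) : sel s ∈ uvGrp := by
  unfold sel
  split
  · next h => exact (Classical.choose_spec (exists_strong s h)).1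
  · exact uvGrp.one_mem

theorem move_sel {s x y : ℕ} (hs : s < 30) (hx : x < 16240) (h : appPt (gRow s) (gSum s) x y = true) :
    move (sel s) x = y := by
  refine move_of_frame (by omega) ?_ hx h
  rw [sel, dif_pos hs]
  exact (Classical.choose_spec (exists_strong s hs)).2

end Cfsg.Agent.RuAut
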